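import Groth.Agent.Lib.RefHull26.Free
import Groth.Agent.Lib.ModM1.Exact
import Groth.Agent.Lib.CurveCoh17.Bases
import Groth.Agent.Lib.CurveCoh17.Degree
import Groth.Agent.Lib.CurveCoh17.TensorExact
import Groth.Agent.Lib.TensorMod.Invertible

/-!
# The kernel of a map of modules of rank two with nonzero kernel is invertible
-/

set_option autoImplicit false
set_option linter.style.haveILetI false
set_option backward.isDefEq.respectTransparency false
set_option backward.isDefEq.respectTransparency.types false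
set_option maxHeartbeats 800000

universe u

open CategoryTheory CategoryTheory.Limits AlgebraicGeometry TopologicalSpace Opposite

noncomputable section

namespace Groth.Agent.RankTwo11

open Groth.Agent.M1 Groth.Agent.CurveCoh17

/-- Over a factorial domain a nonzero kernel of a nonzero map out of a free module of rank two is free. -/
theorem exists_kernel_gen {R : Type*} [CommRing R] [IsDomain R] [UniqueFactorizationMonoid R] {n : ℕ}
    (l : (Fin 2 → R) →ₗ[R] (Fin n → R)) (hl : l ≠ 0) (v : Fin 2 → R) (hv : v ≠ 0) (hlv : l v = 0) :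
    ∃ w, l w = 0 ∧ w ≠ 0 ∧ ∀ x, l x = 0 → ∃ r : R, x = r • w := by
  let e : Fin 2 → (Fin 2 → R) := fun i => Pi.single i 1
  let c : Fin n → Fin 2 → R := fun j i => l (e i) j
  have hexp : ∀ x j, l x j = x 0 * c j 0 + x 1 * c j 1 := fun x j => by
    have hx : x = x 0 • e 0 + x 1 • e 1 := by funext i; fin_cases i <;> simp [e]
    conv_lhs => rw [hx, map_add, map_smul, map_smul]
    simp [c]
  obtain ⟨j₀, hj₀⟩ : ∃ j, ¬ (c j 0 = 0 ∧ c j 1 = 0) := by
    by_contra h
    push_neg at h
    exact hl (LinearMap.ext fun x => funext fun j => by rw [hexp, (h j).1, (h j).2]; simp)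
  obtain ⟨a, b, g, hrel, ha, hb⟩ : ∃ a b g : R, IsRelPrime a b ∧ g * a = v 0 ∧ g * b = v 1 := by
    by_cases h0 : v 0 = 0
    · exact ⟨0, 1, v 1, isRelPrime_one_right, by rw [h0, mul_zero], mul_one _⟩
    · obtain ⟨a, b, g, h1, h2, h3⟩ := UniqueFactorizationMonoid.exists_reduced_factors _ h0 (v 1)
      exact ⟨a, b, g, h1, h2, h3⟩
  have hg : g ≠ 0 := fun h => hv (by funext i; fin_cases i <;> simp [← ha, ← hb, h])
  have hw : l ![a, b] = 0 := funext fun j => mul_left_cancel₀ hg (by
    have := congrFun hlv j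
    rw [hexp, ← ha, ← hb] at this
    rw [hexp, Pi.zero_apply, mul_zero]
    simpa [mul_add, mul_assoc] using this)
  refine ⟨![a, b], hw, fun h => ?_, fun x hx => ?_⟩
  · have h0 : a = 0 := congrFun h 0
    have h1 : b = 0 := congrFun h 1
    exact hv (by funext i; fin_cases i <;> simp [← ha, ← hb, h0, h1])
  · have hx' := congrFun hx j₀
    have hw' := congrFun hw j₀
    rw [hexp, Pi.zero_apply] at hx' hw'
    simp only [Matrix.cons_val_zero, Matrix.cons_val_one] at hw'
    have hcross : x 0 * b = x 1 * a := by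
      rcases not_and_or.1 hj₀ with h | h
      · refine mul_left_cancel₀ h ?_
        linear_combination b * hx' - x 1 * hw'
      · refine mul_left_cancel₀ h ?_
        linear_combination x 0 * hw' - a * hx'
    by_cases ha0 : a = 0
    · subst ha0
      have hu : IsUnit b := isRelPrime_zero_left.1 hrel
      obtain ⟨u, rfl⟩ := hu
      refine ⟨x 1 * ↑u⁻¹, funext fun i => ?_⟩
      fin_cases i
      · simpa using hcross
      · simp [mul_assoc]
    · obtain ⟨r, hr⟩ := hrel.dvd_of_dvd_mul_right ⟨x 1, hcross.trans (mul_comm _ _)⟩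
      refine ⟨r, funext fun i => ?_⟩
      fin_cases i
      · simpa [mul_comm] using hr
      · refine mul_right_cancel₀ ha0 ?_
        show x 1 * a = r * b * a
        rw [← hcross, hr]; ring

variable {X : Scheme.{u}}

theorem injective_sp_of_isFinLocFreeOfRank [IsIntegral X] {r : ℕ} {F : X.Modules}
    (hF : FlatMod.IsFinLocFreeOfRank r F) (x : X) :
    Function.Injective (F.presheaf.stalkSpecializes (RH26.gsp x)) := by
  obtain ⟨e⟩ := nonempty_stalk_equiv hF x
  haveI : Module.IsTorsionFree (X.presheaf.stalk x) (F.presheaf.stalk x) :=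
    Function.Injective.moduleIsTorsionFree _ e.injective fun c a => map_smul e c a
  exact RH26.injective_sp_of_isTorsionFree (M2.isQCoh_of_isFinLocFree (M2.isFinLocFree_of_ofRank hF)) x

theorem sp_natural {F G : X.Modules} (f : F ⟶ G) {x y : X} (h : y ⤳ x) (a : F.presheaf.stalk x) :
    (stalkAb y).map f (F.presheaf.stalkSpecializes h a) = G.presheaf.stalkSpecializes h ((stalkAb x).map f a) :=
  ConcreteCategory.congr_hom (TopCat.Presheaf.stalkSpecializes_stalkFunctor_map f.mapPresheaf h) a

theorem hom_eq_zero_of_stalk {F G : X.Modules} (f : F ⟶ G)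
    (h : ∀ (x : X) (a : F.presheaf.stalk x), (stalkAb x).map f a = 0) : f = 0 := by
  refine Scheme.Modules.hom_ext _ _ fun U => ?_
  ext s
  refine M1.section_ext _ _ fun x hx => ?_
  refine ((M1.germ_naturality f U x hx s).symm.trans (h x _)).trans ?_
  simp

/-- A map into a locally free module vanishes if it vanishes at one point. -/
theorem eq_zero_of_stalk_eq_zero [IsIntegral X] {r m : ℕ} {F G : X.Modules}
    (hF : FlatMod.IsFinLocFreeOfRank r F) (hG : FlatMod.IsFinLocFreeOfRank m G) (f : F ⟶ G)
    (h : ∀ a : F.presheaf.stalk (genericPoint X), (stalkAb (genericPoint X)).map f a = 0) : f = 0 := by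
  refine hom_eq_zero_of_stalk f fun x a => injective_sp_of_isFinLocFreeOfRank hG x ?_
  rw [← sp_natural, h, map_zero]

theorem stalk_ne_zero [IsIntegral X] [IsLocallyNoetherian X] {r m : ℕ} {F G : X.Modules}
    (hF : FlatMod.IsFinLocFreeOfRank r F) (hG : FlatMod.IsFinLocFreeOfRank m G) (f : F ⟶ G) (hf : f ≠ 0) (x : X) :
    stalkLin f x ≠ 0 := by
  intro h
  refine hf (eq_zero_of_stalk_eq_zero hF hG f fun b => ?_)
  obtain ⟨U, hU, hxU, -⟩ := exists_isAffineOpen_mem_and_subset (x := x) (U := (⊤ : X.Opens)) trivial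
  haveI : Coh.IsQCoh F := M2.isQCoh_of_isFinLocFree (M2.isFinLocFree_of_ofRank hF)
  have hηU : genericPoint X ∈ U := RH26.mem_of_genericPoint U hxU
  obtain ⟨c, s, hc, hs⟩ := M1.exists_germ_smul_eq F hU hηU b
  have h0 : G.presheaf.germ U x hxU (f.app U s) = 0 := by
    rw [← M1.germ_naturality f U x hxU s]
    exact LinearMap.congr_fun h _
  have h1 : G.presheaf.germ U _ hηU (f.app U s) = 0 := by
    rw [← TopCat.Presheaf.germ_stalkSpecializes_apply G.presheaf hxU (RH26.gsp x), h0, map_zero]
  rw [← M1.germ_naturality f U _ hηU s, ← hs, ← stalkLin_apply, map_smul] at h1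
  exact (show stalkLin f _ b = 0 from hc.smul_eq_zero.1 h1)

/-- The kernel of a nonzero map of modules of rank two with nonzero kernel is invertible. -/
theorem isInvertible_kernel [IsIntegral X] [IsLocallyNoetherian X]
    (hufd : ∀ x : X, UniqueFactorizationMonoid (X.presheaf.stalk x)) {E G : X.Modules} {m : ℕ}
    (hE : FlatMod.IsFinLocFreeOfRank 2 E) (hG : FlatMod.IsFinLocFreeOfRank m G) (A : E ⟶ G) (hA : A ≠ 0)
    {M : X.Modules} {r : ℕ} (hM : FlatMod.IsFinLocFreeOfRank r M) (B : M ⟶ E) (hB : B ≠ 0) (hBA : B ≫ A = 0) :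
    PicF.IsInvertible (kernel A) := by
  have hEc : Coh.IsCoh E := CurveCoh17.isCoh_of_ofRank hE
  have hGc : Coh.IsCoh G := CurveCoh17.isCoh_of_ofRank hG
  refine RH26.isInvertible_of_gen (M1.isCoh_kernel hEc hGc.1 A) fun x => ?_
  haveI := hufd x
  obtain ⟨eE⟩ := nonempty_stalk_equiv hE x
  obtain ⟨eG⟩ := nonempty_stalk_equiv hG x
  let l := eG.toLinearMap.comp ((stalkLin A x).comp eE.symm.toLinearMap)
  have hl : l ≠ 0 := fun h => stalk_ne_zero hE hG A hA x (LinearMap.ext fun a => eG.injective (by
    have := LinearMap.congr_fun h (eE a)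
    simpa [l] using this))
  obtain ⟨c, hc⟩ : ∃ c, stalkLin B x c ≠ 0 := by
    by_contra h
    push_neg at h
    exact stalk_ne_zero hM hE B hB x (LinearMap.ext h)
  have hc0 : stalkLin A x (stalkLin B x c) = 0 := by
    rw [stalkLin_apply, stalkLin_apply, ← ConcreteCategory.comp_apply, ← Functor.map_comp, hBA, Functor.map_zero]
    rfl
  obtain ⟨w, hw, hw0, hgen⟩ := exists_kernel_gen l hl (eE (stalkLin B x c))
    (fun h => hc (eE.injective (h.trans (map_zero _).symm))) (by simp [l, hc0])
  have hS : (ShortComplex.mk (kernel.ι A) A (kernel.condition A)).Exact := ShortComplex.exact_kernel A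
  have hι := (M1.mono_iff_stalk (kernel.ι A)).1 inferInstance x
  have hex : ∀ b, stalkLin A x b = 0 → ∃ a, stalkLin (kernel.ι A) x a = b :=
    (M1.exact_iff_stalk_eq_zero _).1 hS x
  obtain ⟨a, ha⟩ := hex (eE.symm w) (eG.injective (by simpa [l] using hw))
  refine ⟨a, ?_, fun y => ?_⟩
  · intro r r' (h : r • a = r' • a)
    have h' := congrArg (eE ∘ stalkLin (kernel.ι A) x) h
    simp only [Function.comp_apply, map_smul, ha, LinearEquiv.apply_symm_apply] at h'
    obtain ⟨i, hi⟩ := Function.ne_iff.1 hw0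
    exact mul_right_cancel₀ (by simpa using hi) (by simpa using congrFun h' i)
  · obtain ⟨r, hr⟩ := hgen (eE (stalkLin (kernel.ι A) x y)) (by
      have : stalkLin A x (stalkLin (kernel.ι A) x y) = 0 := by
        rw [stalkLin_apply, stalkLin_apply, ← ConcreteCategory.comp_apply, ← Functor.map_comp, kernel.condition,
          Functor.map_zero]
        rfl
      simp [l, this])
    refine ⟨r, hι (eE.injective ?_)⟩
    show eE (stalkLin (kernel.ι A) x (r • a)) = eE (stalkLin (kernel.ι A) x y)
    rw [map_smul, ha, map_smul, LinearEquiv.apply_symm_apply, hr]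

end Groth.Agent.RankTwo11
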