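import Groth.Agent.Lib.RankTwo11.Pairing
import Groth.Agent.Lib.RankTwo11.Kernel
import Groth.Agent.Lib.ParaF27.UFDCrit
import Groth.Agent.Lib.RegExt.P1
import Groth.Agent.Lib.EnriquesSeveri11.HomBij
import Groth.Agent.Lib.Twist.GlobalProjSpace
import Groth.Agent.Lib.CMReg18.Proj
import Groth.Agent.Lib.PicPn.Main
import Groth.Agent.Lib.CurveCoh17.Skyscraper
import Groth.Agent.Lib.CohFound.ProjCech

/-!
# Twisting sheaves and modules of rank two on projective space
-/

set_option autoImplicit false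
set_option linter.style.haveILetI false
set_option linter.unusedSectionVars false
set_option backward.isDefEq.respectTransparency false
set_option backward.isDefEq.respectTransparency.types false
set_option maxHeartbeats 1000000

universe u

open CategoryTheory CategoryTheory.Limits AlgebraicGeometry TopologicalSpace Opposite

noncomputable section

namespace Groth.Agent.RankTwo11

open Groth.Agent

variable (k : Type u) [Field k] (n : ℕ)

local notation "P" => CohB1.ProjSpace n k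
local notation "O" d:max => _root_.Twist.twistProjSpace n k d

theorem ufd_stalk (x : CohB1.ProjSpace n k) : UniqueFactorizationMonoid ((CohB1.ProjSpace n k).presheaf.stalk x) := by
  have hcov := (ProjSpace.iSup_basicOpen n k).ge (Set.mem_univ x)
  obtain ⟨i, hi⟩ := Opens.mem_iSup.1 hcov
  obtain ⟨p, rfl⟩ : x ∈ Set.range (ProjSpace.chart n k i) := by
    rw [← Scheme.Hom.coe_opensRange, ProjSpace.opensRange_chart]; exact hi
  exact ((asIso ((ProjSpace.chart n k i).stalkMap p)).commRingCatIsoToRingEquiv.symm.toMulEquiv).uniqueFactorizationMonoid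
    (ParaF27.ufd_stalk_of_ufd (MvPolynomial {j : Fin (n + 1) // j ≠ i} k) p).2

theorem bijective_toGlobal : Function.Bijective (Coh.toGlobal (CohB1.ProjSpace.toSpec n k)) :=
  Twist.bijective_toSpec_appTop n k

variable {k n}

theorem isInvertible_O (a : ℤ) : PicF.IsInvertible (O a) := (CMReg18.projData k n).inv a

theorem rank_O (a : ℤ) : FlatMod.IsFinLocFreeOfRank 1 (O a) :=
  (M2.isInvertible_iff_isFinLocFreeOfRank_one _).1 (isInvertible_O a)

/-- Twists add. -/
def addIso (a b : ℤ) : CohB1.tensorMod (O a) (O b) ≅ O (a + b) := (CMReg18.projData k n).add a b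

/-- The twist by zero. -/
def zeroIso : (O (0 : ℤ)) ≅ Coh.structureModule (CohB1.ProjSpace n k) := (CMReg18.projData k n).zero

/-- Opposite twists are inverse. -/
def negIso (a : ℤ) : CohB1.tensorMod (O a) (O (-a)) ≅ Coh.structureModule (CohB1.ProjSpace n k) :=
  addIso a (-a) ≪≫ eqToIso (congrArg _ (add_neg_cancel a)) ≪≫ zeroIso

/-- Opposite twists are inverse. -/
def negIso' (a : ℤ) : CohB1.tensorMod (O (-a)) (O a) ≅ Coh.structureModule (CohB1.ProjSpace n k) :=
  addIso (-a) a ≪≫ eqToIso (congrArg _ (neg_add_cancel a)) ≪≫ zeroIso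

theorem comp_iso_ne_zero {C : Type*} [Category C] [Preadditive C] {A B D : C} {f : A ⟶ B} (hf : f ≠ 0) (e : B ≅ D) :
    f ≫ e.hom ≠ 0 := fun h => hf (by rw [← cancel_mono e.hom, h, zero_comp])

theorem iso_comp_ne_zero {C : Type*} [Category C] [Preadditive C] {A B D : C} {f : A ⟶ B} (hf : f ≠ 0) (e : D ≅ A) :
    e.hom ≫ f ≠ 0 := fun h => hf (by rw [← cancel_epi e.hom, h, comp_zero])

theorem tensor_zero_left {X : Scheme.{u}} {A B : X.Modules} (D : X.Modules) :
    M2.tensorMap (0 : A ⟶ B) (𝟙 D) = 0 := (M2.tensorR D).map_zero _ _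

theorem tensor_ne_zero {X : Scheme.{u}} {D L : X.Modules} (e : CohB1.tensorMod D L ≅ Coh.structureModule X)
    {A B : X.Modules} {f : A ⟶ B} (hf : f ≠ 0) : M2.tensorMap f (𝟙 D) ≠ 0 := fun h =>
  hf (ES11.tensorR_map_injective e (by rw [h, tensor_zero_left]))

theorem secHom_ne_zero {X : Scheme.{u}} {M : X.Modules} {m : Γ(M, ⊤)} (hm : m ≠ 0) : M1.secHom m ≠ 0 := fun h0 => by
  refine hm ((M1.secHom_app_one m).symm.trans ?_)
  rw [h0]
  rfl

theorem globalOf_ne_zero {R A : Type u} [CommRing R] [CommRing A] [Algebra R A] (𝒢 : ℕ → Submodule R A) [GradedAlgebra 𝒢]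
    {d : ℕ} (hinj : Function.Injective (Twist.globalOf 𝒢 (i := d))) {f : 𝒢 d} (hf : f ≠ 0) :
    Twist.gsec 𝒢 f ≠ 0 := fun h => hf (hinj (Twist.sec_ext fun x hx => by
  refine (congrArg (fun t => Twist.val (n := (d : ℤ)) (U := ⊤) t x trivial) h).trans ?_
  exact (Localization.mk_zero _).symm))

/-- A nonzero section of a positive twist. -/
theorem exists_ne_zero_sec (d : ℕ) : ∃ s : Coh.structureModule (CohB1.ProjSpace n k) ⟶ O (d : ℤ), s ≠ 0 :=
  ⟨_, secHom_ne_zero (globalOf_ne_zero (CohB1.polyGrading n k) (Twist.globalOf_bijective_polyGrading n k d).1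
    (f := ⟨MvPolynomial.X 0 ^ d, PicPn.Xpow_mem 0 d⟩)
    (fun h => pow_ne_zero d (MvPolynomial.X_ne_zero (R := k) 0) (congrArg Subtype.val h)))⟩

/-- A nonzero map between twists. -/
theorem exists_ne_zero_twist {a b : ℤ} (h : a ≤ b) : ∃ m : (O a) ⟶ O b, m ≠ 0 := by
  obtain ⟨d, rfl⟩ : ∃ d : ℕ, b = (d : ℤ) + a := ⟨(b - a).toNat, by omega⟩
  obtain ⟨s, hs⟩ := exists_ne_zero_sec (k := k) (n := n) d
  exact ⟨_, iso_comp_ne_zero (comp_iso_ne_zero (tensor_ne_zero (negIso a) hs) (addIso (d : ℤ) a))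
    (M2.tensorLUnit (O a)).symm⟩

/-- Vanishing of sections and homomorphisms. -/
theorem eq_zero_of_subsingleton {X : Scheme.{u}} {F : X.Modules} (h : Subsingleton (Coh.HH X F 0))
    (s : Coh.structureModule X ⟶ F) : s = 0 :=
  M1.unit_hom_ext (by
    haveI : Subsingleton Γ(F, ⊤) := (CurveCoh17.hh0 F).toEquiv.symm.subsingleton
    exact Subsingleton.elim _ _)

theorem smulHom_toSheaf {X : Scheme.{u}} (E : X.Modules) (c : Γ(X, ⊤)) :
    (SheafOfModules.toSheaf X.ringCatSheaf).map (ThetaGrp19.smulHom E c) = Coh.smulAb E c := by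
  ext U s
  rfl

variable {E : (CohB1.ProjSpace n k).Modules} (hE : FlatMod.IsFinLocFreeOfRank 2 E) {L : (CohB1.ProjSpace n k).Modules}
  {c : ℤ} (hL : ExtPow.IsExtPow 2 E L) (e : L ≅ (_root_.Twist.twistProjSpace n k c))

include hE hL e in
/-- A map to a twist gives a map from a twist. -/
theorem exists_map_of_map_to {a : ℤ} (f : E ⟶ O a) (hf : f ≠ 0) : ∃ s : (O (c + -a)) ⟶ E, s ≠ 0 := by
  obtain ⟨w⟩ := nonempty_ext2 hL
  obtain ⟨D, hD⟩ := w.exists_dual hE (M2.isQCoh_of_isFinLocFree (M2.isFinLocFree_of_isInvertible (isInvertible_O a))) f hf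
  refine ⟨(addIso c (-a)).inv ≫ M2.tensorMap (e.inv ≫ D) (𝟙 (O (-a))) ≫ (M2.untwist (negIso a) E).hom, ?_⟩
  exact iso_comp_ne_zero (comp_iso_ne_zero (tensor_ne_zero (negIso' a) (iso_comp_ne_zero hD e.symm))
    (M2.untwist (negIso a) E)) (addIso c (-a)).symm

include hE hL e in
/-- A map from a twist gives a map to a twist. -/
theorem exists_map_of_map_from {a : ℤ} (s : (O a) ⟶ E) (hs : s ≠ 0) : ∃ g : E ⟶ O (c + -a), g ≠ 0 := by
  obtain ⟨w⟩ := nonempty_ext2 hL
  obtain ⟨g, hg⟩ := w.exists_codual hE (M2.isQCoh_of_isFinLocFree (M2.isFinLocFree_of_isInvertible (isInvertible_O a))) s hs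
  let g' : CohB1.tensorMod E (O a) ⟶ O c := (M2.tensorComm E (O a)).hom ≫ g ≫ e.hom
  have hg' : g' ≠ 0 := iso_comp_ne_zero (comp_iso_ne_zero hg e) (M2.tensorComm E (O a))
  refine ⟨(M2.untwist (negIso a) E).inv ≫ M2.tensorMap g' (𝟙 (O (-a))) ≫ (addIso c (-a)).hom, ?_⟩
  exact iso_comp_ne_zero (comp_iso_ne_zero (tensor_ne_zero (negIso' a) hg') (addIso c (-a)))
    (M2.untwist (negIso a) E).symm

/-- A composite of nonzero maps out of twists is nonzero. -/
theorem comp_ne_zero {a b : ℤ} {r : ℕ} {G : (CohB1.ProjSpace n k).Modules} (hG : FlatMod.IsFinLocFreeOfRank r G)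
    {m : (O a) ⟶ O b} (hm : m ≠ 0) {g : (O b) ⟶ G} (hg : g ≠ 0) : m ≫ g ≠ 0 := fun h0 => by
  haveI : IsIntegral (CohB1.ProjSpace n k) := RegExt.isIntegral_projSpace n k
  haveI : IsLocallyNoetherian (CohB1.ProjSpace n k) := CohFound.ProjNum.isLocallyNoetherian_projSpace n k
  refine hg (eq_zero_of_stalk_eq_zero (rank_O b) hG g fun z => ?_)
  obtain ⟨q, hq⟩ := Classical.not_forall.1 fun hz => stalk_ne_zero (rank_O a) (rank_O b) m hm (genericPoint _)
    (LinearMap.ext hz)
  obtain ⟨ε⟩ := CurveCoh17.nonempty_stalk_equiv (rank_O b) (genericPoint (CohB1.ProjSpace n k))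
  obtain ⟨v, hv⟩ := (RH26.isField_η (X := CohB1.ProjSpace n k)).mul_inv_cancel
    (a := ε (CurveCoh17.stalkLin m _ q) 0)
    (fun h => hq (ε.injective (funext fun i => by rw [Subsingleton.elim i 0, h]; simp)))
  have hz : z = (ε z 0 * v) • CurveCoh17.stalkLin m _ q := ε.injective (funext fun i => by
    rw [Subsingleton.elim i 0, map_smul, Pi.smul_apply, smul_eq_mul, mul_assoc, mul_comm v, hv, mul_one])
  have hmg : CurveCoh17.stalkLin g _ (CurveCoh17.stalkLin m _ q) = 0 := by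
    rw [CurveCoh17.stalkLin_apply, CurveCoh17.stalkLin_apply, ← ConcreteCategory.comp_apply, ← Functor.map_comp,
      h0, Functor.map_zero]
    rfl
  rw [← CurveCoh17.stalkLin_apply, hz, map_smul, hmg, smul_zero]

include hE hL e in
/-- A rank two module without sections in the normalised twist has only scalar endomorphisms. -/
theorem exists_scalar [IsAlgClosed k] {k₀ : ℤ} (hk₀ : c + 2 * k₀ = 0 ∨ c + 2 * k₀ = -1)
    (h0 : ∀ s : (O (-k₀)) ⟶ E, s = 0) (φ : E ⟶ E) :
    ∃ c' : k, φ = ThetaGrp19.smulHom E (Coh.toGlobal (CohB1.ProjSpace.toSpec n k) c') := by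
  haveI : IsIntegral (CohB1.ProjSpace n k) := RegExt.isIntegral_projSpace n k
  haveI : IsLocallyNoetherian (CohB1.ProjSpace n k) := CohFound.ProjNum.isLocallyNoetherian_projSpace n k
  obtain ⟨w⟩ := nonempty_ext2 hL
  obtain ⟨t', d', hCH⟩ := w.cayley_hamilton hE (M2.isInvertible_of_iso e.symm (isInvertible_O (k := k) (n := n) c)) φ
  obtain ⟨t, rfl⟩ := (bijective_toGlobal k n).2 t'
  obtain ⟨d, rfl⟩ := (bijective_toGlobal k n).2 d'
  let σ : k → (E ⟶ E) := fun a => ThetaGrp19.smulHom E (Coh.toGlobal (CohB1.ProjSpace.toSpec n k) a)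
  have hσadd : ∀ a b, σ (a + b) = σ a + σ b := fun a b => Scheme.Modules.hom_ext _ _ fun V => by
    refine ConcreteCategory.hom_ext _ _ fun s => ?_
    let g : k → Γ(CohB1.ProjSpace n k, ⊤) := fun a => Coh.toGlobal (CohB1.ProjSpace.toSpec n k) a
    show M1.ores (le_top : V ≤ ⊤) (g (a + b)) • s = M1.ores (le_top : V ≤ ⊤) (g a) • s + M1.ores (le_top : V ≤ ⊤) (g b) • s
    rw [← add_smul]
    exact congrArg (· • s) ((congrArg _ (map_add (Coh.toGlobal (CohB1.ProjSpace.toSpec n k)) a b)).trans (map_add _ _ _))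
  have hσmul : ∀ a b, σ a ≫ σ b = σ (a * b) := fun a b => by
    show _ ≫ _ = ThetaGrp19.smulHom E _
    rw [ThetaGrp19.smulHom_comp]
    exact congrArg _ (map_mul (Coh.toGlobal (CohB1.ProjSpace.toSpec n k)) a b).symm
  obtain ⟨r₁, hr₁⟩ := IsAlgClosed.exists_root
    (Polynomial.X ^ 2 - Polynomial.C t * Polynomial.X + Polynomial.C d : Polynomial k) (by
      rw [show (Polynomial.X ^ 2 - Polynomial.C t * Polynomial.X + Polynomial.C d : Polynomial k) =
        Polynomial.C 1 * Polynomial.X ^ 2 + Polynomial.C (-t) * Polynomial.X + Polynomial.C d by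
          rw [Polynomial.C_1, Polynomial.C_neg]; ring, Polynomial.degree_quadratic one_ne_zero]
      decide)
  obtain ⟨r₂, rfl⟩ : ∃ r₂, t = r₁ + r₂ := ⟨t - r₁, by ring⟩
  obtain rfl : d = r₁ * r₂ := by
    simp only [Polynomial.IsRoot, Polynomial.eval_add, Polynomial.eval_sub, Polynomial.eval_pow, Polynomial.eval_X,
      Polynomial.eval_mul, Polynomial.eval_C] at hr₁
    linear_combination hr₁
  let A := φ - σ r₁
  let B := φ - σ r₂
  have hcomm : σ r₂ ≫ φ = φ ≫ σ r₂ := ThetaGrp19.smulHom_naturality φ _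
  have hBA : B ≫ A = 0 := by
    have h : φ ≫ φ - φ ≫ σ (r₁ + r₂) + σ (r₁ * r₂) = 0 := hCH
    simp only [A, B, Preadditive.sub_comp, Preadditive.comp_sub, hcomm, hσmul]
    rw [hσadd, Preadditive.comp_add] at h
    rw [mul_comm r₂ r₁, ← h]
    abel
  by_cases hA : A = 0
  · exact ⟨r₁, sub_eq_zero.1 hA⟩
  by_cases hB : B = 0
  · exact ⟨r₂, sub_eq_zero.1 hB⟩
  exfalso
  obtain ⟨a, ⟨ea⟩⟩ := PicPn.exists_iso_twist (R := k)
    (isInvertible_kernel (ufd_stalk k n) hE hE A hA hE B hB hBA)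
  let l : (O a) ⟶ E := ea.inv ≫ kernel.ι A
  let f : E ⟶ O a := kernel.lift A B hBA ≫ ea.hom
  have hfl : f ≫ l = B := by
    simp [f, l]
  have hl : l ≠ 0 := fun h => hB (by rw [← hfl, h, comp_zero])
  have hf : f ≠ 0 := fun h => hB (by rw [← hfl, h, zero_comp])
  obtain ⟨s, hs⟩ := exists_map_of_map_to hE hL e f hf
  obtain ⟨b, g, hg, hb⟩ : ∃ (b : ℤ) (g : (O b) ⟶ E), g ≠ 0 ∧ -k₀ ≤ b := by
    by_cases h : -k₀ ≤ a
    · exact ⟨a, l, hl, h⟩
    · exact ⟨c + -a, s, hs, by omega⟩
  obtain ⟨m, hm⟩ := exists_ne_zero_twist (k := k) (n := n) hb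
  exact comp_ne_zero hE hm hg (h0 _)

/-- A nonzero map out of a twist into a locally free module is a monomorphism. -/
theorem mono_of_ne_zero {b : ℤ} {r : ℕ} {G : (CohB1.ProjSpace n k).Modules} (hG : FlatMod.IsFinLocFreeOfRank r G)
    {t : (O b) ⟶ G} (ht : t ≠ 0) : Mono t := by
  haveI : IsIntegral (CohB1.ProjSpace n k) := RegExt.isIntegral_projSpace n k
  haveI : IsLocallyNoetherian (CohB1.ProjSpace n k) := CohFound.ProjNum.isLocallyNoetherian_projSpace n k
  refine (M1.mono_iff_stalk t).2 fun x => (injective_iff_map_eq_zero _).2 fun a ha => ?_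
  refine injective_sp_of_isFinLocFreeOfRank (rank_O b) x ?_
  rw [map_zero]
  by_contra hq
  refine ht (eq_zero_of_stalk_eq_zero (rank_O b) hG t fun z => ?_)
  obtain ⟨ε⟩ := CurveCoh17.nonempty_stalk_equiv (rank_O b) (genericPoint (CohB1.ProjSpace n k))
  let q : (O b).presheaf.stalk (genericPoint (CohB1.ProjSpace n k)) :=
    (O b).presheaf.stalkSpecializes (RH26.gsp x) a
  obtain ⟨v, hv⟩ := (RH26.isField_η (X := CohB1.ProjSpace n k)).mul_inv_cancel (a := ε q 0)
    (fun h => hq (ε.injective (funext fun i => by rw [Subsingleton.elim i 0]; exact h.trans (by simp))))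
  have hz : z = (ε z 0 * v) • q := ε.injective (funext fun i => by
    rw [Subsingleton.elim i 0, map_smul, Pi.smul_apply, smul_eq_mul, mul_assoc, mul_comm v, hv, mul_one])
  have hmg : CurveCoh17.stalkLin t _ q = 0 := by
    rw [CurveCoh17.stalkLin_apply]
    exact (sp_natural t (RH26.gsp x) a).trans ((congrArg _ ha).trans (map_zero _))
  rw [← CurveCoh17.stalkLin_apply, hz, map_smul, hmg, smul_zero]

/-- An endomorphism through a twist is no homothety. -/
theorem not_scalar_of_factor {b : ℤ} {r : ℕ} (hr : 1 < r) {F : (CohB1.ProjSpace n k).Modules}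
    (hF : FlatMod.IsFinLocFreeOfRank r F) {g : F ⟶ O b} (hg : g ≠ 0) {t : (O b) ⟶ F} (ht : t ≠ 0) (a : k) :
    g ≫ t ≠ ThetaGrp19.smulHom F (Coh.toGlobal (CohB1.ProjSpace.toSpec n k) a) := fun h => by
  haveI : IsIntegral (CohB1.ProjSpace n k) := RegExt.isIntegral_projSpace n k
  haveI := mono_of_ne_zero hF ht
  by_cases ha : a = 0
  · refine hg ((cancel_mono t).1 ?_)
    rw [h, ha, zero_comp]
    refine Scheme.Modules.hom_ext _ _ fun V => ConcreteCategory.hom_ext _ _ fun s => ?_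
    show M1.ores (le_top : V ≤ ⊤) (Coh.toGlobal (CohB1.ProjSpace.toSpec n k) 0 : Γ(CohB1.ProjSpace n k, ⊤)) • s = 0
    rw [show (Coh.toGlobal (CohB1.ProjSpace.toSpec n k) 0 : Γ(CohB1.ProjSpace n k, ⊤)) = 0 from map_zero _, map_zero,
      zero_smul]
  · let g' := ThetaGrp19.smulHom F (Coh.toGlobal (CohB1.ProjSpace.toSpec n k) a⁻¹)
    have h1 : g ≫ t ≫ g' = 𝟙 F := by
      rw [← Category.assoc, h, ThetaGrp19.smulHom_comp]
      refine (congrArg _ ?_).trans (ThetaGrp19.smulHom_one F)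
      exact (map_mul (Coh.toGlobal (CohB1.ProjSpace.toSpec n k)) a a⁻¹).symm.trans
        ((congrArg _ (mul_inv_cancel₀ ha)).trans (map_one _))
    let x := genericPoint (CohB1.ProjSpace n k)
    have hinj : Function.Injective (CurveCoh17.stalkLin g x) := fun y y' hy => by
      have := congrArg ((M1.stalkAb x).map (t ≫ g')) hy
      simp only [CurveCoh17.stalkLin_apply, ← ConcreteCategory.comp_apply, ← Functor.map_comp] at this
      simp only [h1, CategoryTheory.Functor.map_id] at this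
      exact this
    obtain ⟨ε⟩ := CurveCoh17.nonempty_stalk_equiv hF x
    obtain ⟨δ⟩ := CurveCoh17.nonempty_stalk_equiv (rank_O b) x
    have := LinearMap.finrank_le_finrank_of_injective
      (f := δ.toLinearMap.comp ((CurveCoh17.stalkLin g x).comp ε.symm.toLinearMap))
      (δ.injective.comp (hinj.comp ε.symm.injective))
    rw [Module.finrank_fin_fun, Module.finrank_fin_fun] at this
    omega

/-- Sections of a twist are maps from a twist. -/
theorem no_map_of_subsingleton {F : (CohB1.ProjSpace n k).Modules} {k₀ : ℤ}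
    (h : Subsingleton (Coh.HH (CohB1.ProjSpace n k) (CohB1.tensorMod F (O k₀)) 0)) (s : (O (-k₀)) ⟶ F) : s = 0 := by
  by_contra hs
  exact iso_comp_ne_zero (tensor_ne_zero (negIso k₀) hs) (negIso' k₀).symm (eq_zero_of_subsingleton h _)

/-- A nonzero section of a twist is a nonzero map from a twist. -/
theorem exists_map_of_not_subsingleton {F : (CohB1.ProjSpace n k).Modules} {k₀ : ℤ}
    (h : ¬ Subsingleton (Coh.HH (CohB1.ProjSpace n k) (CohB1.tensorMod F (O k₀)) 0)) :
    ∃ s : (O (-k₀)) ⟶ F, s ≠ 0 := by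
  by_contra hn
  push_neg at hn
  refine h ((CurveCoh17.hh0 _).toEquiv.subsingleton_congr.2 (subsingleton_of_forall_eq 0 fun m => ?_))
  have hsec : M1.secHom m = 0 := by
    by_contra h1
    exact iso_comp_ne_zero (comp_iso_ne_zero (tensor_ne_zero (negIso' k₀) h1) (M2.untwist (negIso k₀) F))
      (M2.tensorLUnit (O (-k₀))).symm (hn _)
  exact (M1.secHom_app_one m).symm.trans (by rw [hsec]; rfl)

end Groth.Agent.RankTwo11
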