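import Groth.Agent.Lib.RankTwo11.Split
import Groth.Prelude.Def_ClSub2

/-!
# Sections of twists of an extension of `J ⊗ O(c)` by `O`
-/

set_option autoImplicit false
set_option linter.style.haveILetI false
set_option linter.unusedSectionVars false
set_option backward.isDefEq.respectTransparency false
set_option backward.isDefEq.respectTransparency.types false
set_option maxHeartbeats 1000000

universe u

open CategoryTheory CategoryTheory.Limits AlgebraicGeometry TopologicalSpace Opposite

noncomputable section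

namespace Groth.Agent.RankTwo11

open Groth.Agent

variable {k : Type u} [Field k] {n : ℕ}

local notation "O" d:max => _root_.Twist.twistProjSpace n k d

/-- Sections along a monomorphism. -/
theorem subsingleton_of_mono {X : Scheme.{u}} {M N : X.Modules} (f : M ⟶ N) [Mono f]
    (h : Subsingleton (Coh.HH X N 0)) : Subsingleton (Coh.HH X M 0) := by
  haveI : Subsingleton Γ(N, ⊤) := (CurveCoh17.hh0 N).toEquiv.symm.subsingleton
  exact ((CurveCoh17.hh0 M).toEquiv.subsingleton_congr).2
    ⟨fun a b => M1.app_injective f ⊤ (Subsingleton.elim _ _)⟩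

/-- Sections of the middle term. -/
theorem subsingleton_middle_iff (A : Type u) [CommRing A] {X : Scheme.{u}} [X.Over (Spec (CommRingCat.of A))]
    {S : ShortComplex X.Modules} (hS : S.ShortExact) (h : Subsingleton (Coh.HH X S.X₁ 1)) :
    Subsingleton (Coh.HH X S.X₂ 0) ↔ Subsingleton (Coh.HH X S.X₁ 0) ∧ Subsingleton (Coh.HH X S.X₃ 0) := by
  haveI := hS.mono_f
  constructor
  · intro h2
    refine ⟨subsingleton_of_mono S.f h2, subsingleton_of_forall_eq 0 fun x => ?_⟩
    haveI : Subsingleton (Coh.HH X S.X₁ (0 + 1)) := h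
    obtain ⟨y, hy⟩ := (CurveCoh17.exact_hmap_hdelta A hS 0 x).1 (Subsingleton.elim _ _)
    rw [← hy, Subsingleton.elim y 0, map_zero]
  · rintro ⟨h1, h3⟩
    refine subsingleton_of_forall_eq 0 fun x => ?_
    obtain ⟨y, hy⟩ := (CurveCoh17.exact_hmap_hmap A (S := S) hS 0 x).1 (Subsingleton.elim _ _)
    rw [← hy, Subsingleton.elim y 0, map_zero]

theorem subsingleton_O_iff (hn : 1 ≤ n) (d : ℤ) : Subsingleton (Coh.HH (CohB1.ProjSpace n k) (O d) 0) ↔ d < 0 := by
  refine ⟨fun h => ?_, fun h => S0844.result k n d 0 (fun hh => absurd hh.2 (not_le.2 h)) ?_⟩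
  · by_contra hd
    obtain ⟨m, hm⟩ := exists_ne_zero_twist (k := k) (n := n) (a := 0) (b := d) (by omega)
    exact iso_comp_ne_zero hm zeroIso.symm (eq_zero_of_subsingleton h _)
  · rintro ⟨h', -⟩
    omega

/-- Twists of an ideal have no more sections in lower degree. -/
theorem subsingleton_ideal_mono (I : (CohB1.ProjSpace n k).IdealSheafData) {d D : ℤ} (hdD : d ≤ D)
    (h : Subsingleton (Coh.HH (CohB1.ProjSpace n k) (CohB1.tensorMod (ClSub.idealMod I) (O D)) 0)) :
    Subsingleton (Coh.HH (CohB1.ProjSpace n k) (CohB1.tensorMod (ClSub.idealMod I) (O d)) 0) := by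
  obtain ⟨m, hm⟩ := exists_ne_zero_twist (k := k) (n := n) hdD
  haveI := mono_of_ne_zero (rank_O D) hm
  haveI : Mono (ClSub.idealModι I) := inferInstanceAs (Mono (kernel.ι _))
  have hS : (ShortComplex.mk (ClSub.idealModι I) (cokernel.π (ClSub.idealModι I)) (cokernel.condition _)).ShortExact :=
    { exact := ShortComplex.exact_cokernel _ }
  haveI hd' : Mono (M2.tensorMap (ClSub.idealModι I) (𝟙 (O d))) :=
    ((CMReg18.projData k n).shortExact_tw hS d).mono_f
  haveI : Mono (M2.tensorMap (𝟙 (Coh.structureModule (CohB1.ProjSpace n k))) m) := by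
    have e : M2.tensorMap (𝟙 (Coh.structureModule (CohB1.ProjSpace n k))) m =
        (M2.tensorLUnit (O d)).hom ≫ m ≫ (M2.tensorLUnit (O D)).inv := by
      rw [← Category.assoc, ← M2.tensorLUnit_natural, Category.assoc, Iso.hom_inv_id, Category.comp_id]
    rw [e]; infer_instance
  have hsq : M2.tensorMap (𝟙 (ClSub.idealMod I)) m ≫ M2.tensorMap (ClSub.idealModι I) (𝟙 (O D)) =
      M2.tensorMap (ClSub.idealModι I) (𝟙 (O d)) ≫ M2.tensorMap (𝟙 (Coh.structureModule (CohB1.ProjSpace n k))) m := by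
    rw [← M2.tensorMap_comp, ← M2.tensorMap_comp, Category.id_comp, Category.comp_id, Category.comp_id,
      Category.id_comp]
  haveI : Mono (M2.tensorMap (𝟙 (ClSub.idealMod I)) m ≫ M2.tensorMap (ClSub.idealModι I) (𝟙 (O D))) := by
    rw [hsq]; infer_instance
  haveI := mono_of_mono (M2.tensorMap (𝟙 (ClSub.idealMod I)) m) (M2.tensorMap (ClSub.idealModι I) (𝟙 (O D)))
  exact subsingleton_of_mono (M2.tensorMap (𝟙 (ClSub.idealMod I)) m) h

/-- Sections of a twist of the extension. -/
theorem subsingleton_twist_iff (hn : 2 ≤ n) (I : (CohB1.ProjSpace n k).IdealSheafData) {c : ℤ}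
    {S : ShortComplex (CohB1.ProjSpace n k).Modules} (hS : S.ShortExact)
    (e₁ : S.X₁ ≅ Coh.structureModule (CohB1.ProjSpace n k))
    (e₃ : S.X₃ ≅ CohB1.tensorMod (ClSub.idealMod I) (O c)) (e : ℤ) :
    Subsingleton (Coh.HH (CohB1.ProjSpace n k) (CohB1.tensorMod S.X₂ (O e)) 0) ↔
      e < 0 ∧ ∀ d : ℤ, d ≤ c + e →
        Subsingleton (Coh.HH (CohB1.ProjSpace n k) (CohB1.tensorMod (ClSub.idealMod I) (O d)) 0) := by
  let a : CohB1.tensorMod S.X₁ (O e) ≅ O e := M2.tensorIso e₁ (Iso.refl _) ≪≫ M2.tensorLUnit _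
  let b : CohB1.tensorMod S.X₃ (O e) ≅ CohB1.tensorMod (ClSub.idealMod I) (O (c + e)) :=
    M2.tensorIso e₃ (Iso.refl _) ≪≫ M2.tensorAssoc _ _ _ ≪≫ M2.tensorIso (Iso.refl _) (addIso c e)
  have hv : Subsingleton (Coh.HH (CohB1.ProjSpace n k) (CohB1.tensorMod S.X₁ (O e)) 1) :=
    CMReg18.van_iso k a.symm (S0844.result k n e 1 (by omega) (by omega))
  refine (subsingleton_middle_iff k ((CMReg18.projData k n).shortExact_tw hS e) hv).trans ?_
  refine and_congr ?_ ?_
  · exact (CurveCoh17.hequiv k a 0).toEquiv.subsingleton_congr.trans (subsingleton_O_iff (by omega) e)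
  · exact ⟨fun h d hd => subsingleton_ideal_mono I hd (CMReg18.van_iso k b h),
      fun h => CMReg18.van_iso k b.symm (h (c + e) le_rfl)⟩

end Groth.Agent.RankTwo11
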