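import Groth.Agent.Lib.RankTwo11.Linear
import Groth.Agent.Lib.RankTwo11.Serre
import Groth.Agent.Lib.Cyc26.SplitBase
import Groth.Agent.Lib.PicPn.Main
import Groth.Agent.Lib.TsenLang.Basic

/-!
# Quotients of three twists
-/

set_option autoImplicit false
set_option linter.style.haveILetI false
set_option linter.unusedSectionVars false
set_option backward.isDefEq.respectTransparency false
set_option backward.isDefEq.respectTransparency.types false
set_option maxHeartbeats 1000000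

universe u

open CategoryTheory CategoryTheory.Limits AlgebraicGeometry TopologicalSpace Opposite

noncomputable section

namespace Groth.Agent.RankTwo11.CompleteInt

open Groth.Agent

variable {k : Type u} [Field k] {n : ℕ}

local notation "O" d:max => _root_.Twist.twistProjSpace n k d

theorem rank_biprod {X : Scheme.{u}} {a b : ℕ} {M N : X.Modules} (hM : FlatMod.IsFinLocFreeOfRank a M)
    (hN : FlatMod.IsFinLocFreeOfRank b N) : FlatMod.IsFinLocFreeOfRank (a + b) (M ⊞ N) := fun y => by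
  obtain ⟨U, hU, ⟨i⟩⟩ := hM y
  obtain ⟨V, hV, ⟨j⟩⟩ := hN y
  obtain ⟨i'⟩ := M2.nonempty_free_mono (inf_le_left : U ⊓ V ≤ U) i
  obtain ⟨j'⟩ := M2.nonempty_free_mono (inf_le_right : U ⊓ V ≤ V) j
  have := preservesBinaryBiproducts_of_preservesBinaryCoproducts
    (Scheme.Modules.restrictFunctor (U ⊓ V).ι)
  exact ⟨U ⊓ V, ⟨hU, hV⟩, ⟨(Scheme.Modules.restrictFunctor (U ⊓ V).ι).mapBiprod M N ≪≫
    biprod.mapIso i' j' ≪≫ KFlat.Sch.freeModAddIso _ a b⟩⟩

/-- A summand met isomorphically by the kernel can be removed. -/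
theorem iso_of_component {C : Type*} [Category C] [Abelian C] {K A B E : C} (ι : K ⟶ A ⊞ B) (π : A ⊞ B ⟶ E)
    (w : ι ≫ π = 0) (hS : (ShortComplex.mk ι π w).ShortExact) [IsIso (ι ≫ biprod.fst)] : Nonempty (B ≅ E) := by
  let σ : A ⊞ B ⟶ K := biprod.fst ≫ inv (ι ≫ biprod.fst)
  have hσ : ι ≫ σ = 𝟙 K := by simp [σ, ← Category.assoc]
  let r : A ⊞ B ⟶ B := biprod.snd - σ ≫ ι ≫ biprod.snd
  have hr : ι ≫ r = 0 := by simp [r, Preadditive.comp_sub, reassoc_of% hσ]
  haveI := hS.epi_g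
  let g : E ⟶ B := hS.exact.desc r hr
  haveI : Epi π := hS.epi_g
  have hg : π ≫ g = r := hS.exact.g_desc r hr
  refine ⟨{ hom := biprod.inr ≫ π, inv := g, hom_inv_id := ?_, inv_hom_id := ?_ }⟩
  · rw [Category.assoc, hg]
    simp [r, σ, Preadditive.comp_sub]
  · rw [← cancel_epi π, reassoc_of% hg, Category.comp_id]
    have : r ≫ biprod.inr = 𝟙 (A ⊞ B) - σ ≫ ι := by
      refine biprod.hom_ext _ _ ?_ ?_
      · simp [r, σ, Preadditive.sub_comp]
      · simp [r, Preadditive.sub_comp]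
    rw [reassoc_of% this, Preadditive.sub_comp, Category.id_comp, Category.assoc, w, comp_zero, sub_zero]

theorem smulHom_isIso (M : (CohB1.ProjSpace n k).Modules) {c : k} (hc : c ≠ 0) :
    IsIso (ThetaGrp19.smulHom M (Simple.sc k n c)) := by
  refine ⟨ThetaGrp19.smulHom M (Simple.sc k n c⁻¹), ?_, ?_⟩ <;>
    rw [ThetaGrp19.smulHom_comp]
  · rw [show Simple.sc k n c * Simple.sc k n c⁻¹ = Simple.sc k n (c * c⁻¹) from (map_mul _ _ _).symm,
      mul_inv_cancel₀ hc, show Simple.sc k n (1 : k) = 1 from map_one _, ThetaGrp19.smulHom_one]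
  · rw [show Simple.sc k n c⁻¹ * Simple.sc k n c = Simple.sc k n (c⁻¹ * c) from (map_mul _ _ _).symm,
      inv_mul_cancel₀ hc, show Simple.sc k n (1 : k) = 1 from map_one _, ThetaGrp19.smulHom_one]

/-- A nonzero section of a twist is an isomorphism or has positive degree. -/
theorem isIso_or_pos (hn : 1 ≤ n) {d : ℤ} (t : Coh.structureModule (CohB1.ProjSpace n k) ⟶ O d) :
    t = 0 ∨ IsIso t ∨ 0 < d := by
  rcases lt_trichotomy d 0 with h | rfl | h
  · exact Or.inl (eq_zero_of_subsingleton (S0844.result k n d 0 (fun hh => absurd hh.2 (not_le.2 h))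
      (fun hh => by have := hh.1; omega)) t)
  · obtain ⟨c, hc⟩ := NullCorr.exists_const ((zeroIso (k := k) (n := n)).hom ≫ t)
    have ht : t = zeroIso.inv ≫ ThetaGrp19.smulHom _ (Simple.sc k n c) := by rw [← hc, Iso.inv_hom_id_assoc]
    by_cases hc0 : c = 0
    · left
      rw [ht, hc0, show Simple.sc k n (0 : k) = 0 from map_zero _, Linear.smulHom_zero, comp_zero]
    · right; left
      haveI := smulHom_isIso (O (0 : ℤ)) hc0
      rw [ht]; infer_instance
  · exact Or.inr (Or.inr h)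

/-- The point with coordinates `z` contains all forms vanishing at `z`. -/
theorem exists_point_forms (z : Fin (n + 1) → k) (hz : z ≠ 0) :
    ∃ x : ProjectiveSpectrum (CohB1.polyGrading n k), ∀ (d : ℕ) (p : MvPolynomial (Fin (n + 1)) k),
      p.IsHomogeneous d → MvPolynomial.eval z p = 0 → p ∈ x.asHomogeneousIdeal := by
  obtain ⟨x, hx⟩ := NullCorr.exists_point z hz
  refine ⟨x, fun d p hp he => ?_⟩
  obtain ⟨j, hj⟩ := Function.ne_iff.1 hz
  simp only [Pi.zero_apply] at hj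
  let mk := Ideal.Quotient.mkₐ k x.asHomogeneousIdeal.toIdeal
  have hX : ∀ l, mk (MvPolynomial.X l) = (z l * (z j)⁻¹) • mk (MvPolynomial.X j) := fun l => by
    have h := hx ((Pi.single l 1 : Fin (n + 1) → k) - (z l * (z j)⁻¹) • (Pi.single j 1 : Fin (n + 1) → k)) (by
      simp only [Pi.sub_apply, Pi.smul_apply, sub_mul, Finset.sum_sub_distrib, smul_eq_mul, mul_assoc,
        ← Finset.mul_sum]
      rw [Finset.sum_eq_single l (fun b _ hb => by simp [Pi.single_eq_of_ne hb]) (fun h => absurd (Finset.mem_univ l) h),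
        Finset.sum_eq_single j (fun b _ hb => by simp [Pi.single_eq_of_ne hb]) (fun h => absurd (Finset.mem_univ j) h)]
      simp only [Pi.single_eq_same, one_mul]
      rw [inv_mul_cancel₀ hj, mul_one, sub_self])
    have h' : mk (∑ m, MvPolynomial.C (((Pi.single l 1 : Fin (n + 1) → k) - (z l * (z j)⁻¹) • (Pi.single j 1 : Fin (n + 1) → k)) m) * MvPolynomial.X m) = 0 :=
      Ideal.Quotient.eq_zero_iff_mem.2 h
    simp only [map_sum, map_mul, Pi.sub_apply, Pi.smul_apply, map_sub, sub_mul, Finset.sum_sub_distrib] at h'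
    rw [Finset.sum_eq_single l (fun b _ hb => by simp [Pi.single_eq_of_ne hb]) (fun h => absurd (Finset.mem_univ l) h),
      Finset.sum_eq_single j (fun b _ hb => by simp [Pi.single_eq_of_ne hb]) (fun h => absurd (Finset.mem_univ j) h)] at h'
    simp only [Pi.single_eq_same, smul_eq_mul, mul_one, map_one, one_mul, sub_eq_zero] at h'
    rw [h', ← MvPolynomial.algebraMap_eq, AlgHom.commutes, Algebra.smul_def]
  have hmk : mk p = MvPolynomial.aeval (fun l => (z l * (z j)⁻¹) • mk (MvPolynomial.X j)) p := by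
    rw [show (fun l => (z l * (z j)⁻¹) • mk (MvPolynomial.X j)) = fun l => mk (MvPolynomial.X l) from
      funext fun l => (hX l).symm]
    exact congrArg (fun φ : MvPolynomial (Fin (n + 1)) k →ₐ[k] _ => φ p)
      (MvPolynomial.algHom_ext fun l => by simp : mk = MvPolynomial.aeval fun l => mk (MvPolynomial.X l))
  refine Ideal.Quotient.eq_zero_iff_mem.1 (?_ : mk p = 0)
  rw [hmk, p.as_sum, map_sum]
  have hterm : ∀ m ∈ p.support, MvPolynomial.aeval (fun l => (z l * (z j)⁻¹) • mk (MvPolynomial.X j))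
      (MvPolynomial.monomial m (p.coeff m)) =
      (MvPolynomial.eval z (MvPolynomial.monomial m (p.coeff m)) * (z j)⁻¹ ^ d) • mk (MvPolynomial.X j) ^ d := fun m hm => by
    have hd := hp (MvPolynomial.mem_support_iff.1 hm)
    have hsum : m.sum (fun _ e => e) = d := by
      rw [← hd, Finsupp.weight_apply]; simp
    rw [MvPolynomial.aeval_monomial, MvPolynomial.eval_monomial, ← hsum, ← Algebra.smul_def]
    simp only [Finsupp.prod, Finsupp.sum, smul_pow, mul_pow]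
    rw [← Finset.prod_pow_eq_pow_sum m.support, ← Finset.prod_pow_eq_pow_sum m.support, Finset.prod_smul,
      smul_smul]
    congr 1
    rw [Finset.prod_mul_distrib, mul_assoc]
  rw [Finset.sum_congr rfl hterm, ← Finset.sum_smul, ← Finset.sum_mul]
  rw [p.as_sum, map_sum] at he
  rw [he, zero_mul, zero_smul]

/-- A form vanishing at a point is a multiple of a generator by a function in the maximal ideal. -/
theorem germ_form {d : ℕ} {y : CohB1.ProjSpace n k} {D : (CohB1.ProjSpace n k).Opens} (hy : y ∈ D)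
    {g : Γ(O (d : ℤ), D)} (hg : Twist.IsGen (O (d : ℤ)) D g) (p : CohB1.polyGrading n k d)
    (hp : (p : MvPolynomial (Fin (n + 1)) k) ∈
      (show ProjectiveSpectrum (CohB1.polyGrading n k) from y).asHomogeneousIdeal) :
    ∃ r ∈ IsLocalRing.maximalIdeal ((CohB1.ProjSpace n k).presheaf.stalk y),
      (O (d : ℤ)).presheaf.germ ⊤ y trivial (Twist.gsec (CohB1.polyGrading n k) p) =
        r • (O (d : ℤ)).presheaf.germ D y hy g := by
  let t : Γ(O (d : ℤ), ⊤) := Twist.gsec (CohB1.polyGrading n k) p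
  obtain ⟨r, hr⟩ := (hg D le_rfl).2 (M1.mres _ (le_top : D ≤ ⊤) t)
  have hr' : r • g = M1.mres _ (le_top : D ≤ ⊤) t := by simpa [M1.mres_id] using hr
  refine ⟨(CohB1.ProjSpace n k).presheaf.germ D y hy r, (IsLocalRing.mem_maximalIdeal _).2 fun hu => ?_, ?_⟩
  · have hle := Twist.le_basicOpen_of_bijective (CohB1.polyGrading n k) (Twist.iSup_basicOpen_one n k)
      p ((CohB1.ProjSpace n k).basicOpen r)
      fun V hV => by
        have hVD : V ≤ D := hV.trans ((CohB1.ProjSpace n k).basicOpen_le r)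
        have hu' : IsUnit (M1.ores (X := CohB1.ProjSpace n k) hV
            (M1.ores ((CohB1.ProjSpace n k).basicOpen_le r) r) : Γ(CohB1.ProjSpace n k, V)) :=
          ((CohB1.ProjSpace n k).toLocallyRingedSpace.toRingedSpace.isUnit_res_basicOpen r).map
            (M1.ores (X := CohB1.ProjSpace n k) hV).hom
        obtain ⟨v, hv⟩ : ∃ v : Γ(CohB1.ProjSpace n k, V)ˣ,
            (v : Γ(CohB1.ProjSpace n k, V)) = M1.ores (X := CohB1.ProjSpace n k) hVD r :=
          ⟨hu'.unit, M1.ores_ores (X := CohB1.ProjSpace n k) _ _ _⟩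
        have hres : M1.mres _ (le_top : V ≤ ⊤) t = (v : Γ(CohB1.ProjSpace n k, V)) • M1.mres _ hVD g := by
          rw [hv, ← M1.mres_mres _ (le_top : D ≤ ⊤) hVD, ← hr', M1.mres_smul]
        have hmul : Function.Bijective fun c : Γ(CohB1.ProjSpace n k, V) => c * (v : Γ(CohB1.ProjSpace n k, V)) :=
          ⟨fun a b h => (Units.mul_left_inj v).1 h, fun c => ⟨c * ((v⁻¹ : Γ(CohB1.ProjSpace n k, V)ˣ) : Γ(CohB1.ProjSpace n k, V)),
            Units.inv_mul_cancel_right c v⟩⟩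
        have e : (fun c : Γ(CohB1.ProjSpace n k, V) => c • M1.mres _ (le_top : V ≤ ⊤) t) =
            (fun c => c • M1.mres _ hVD g) ∘ fun c => c * (v : Γ(CohB1.ProjSpace n k, V)) := funext fun c => by
          show _ = (c * (v : Γ(CohB1.ProjSpace n k, V))) • M1.mres _ hVD g
          rw [hres, mul_smul]
        exact (congrArg Function.Bijective e).mpr ((hg V hVD).comp hmul)
    exact hle (((CohB1.ProjSpace n k).mem_basicOpen r y hy).2 hu) hp
  · rw [← M1.germ_smul, hr', M1.germ_mres]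

/-- A subbundle `O ⊆ O(d₀) ⊕ O(d₁) ⊕ O(d₂)` meets a summand isomorphically. -/
theorem exists_isIso_component [IsAlgClosed k] (hn : 3 ≤ n) {d₀ d₁ d₂ : ℤ}
    (w : Coh.structureModule (CohB1.ProjSpace n k) ⟶ (O d₀) ⊞ ((O d₁) ⊞ (O d₂))) (hw : NullCorr.HasRetr w) :
    IsIso (w ≫ biprod.fst) ∨ IsIso (w ≫ biprod.snd ≫ biprod.fst) ∨ IsIso (w ≫ biprod.snd ≫ biprod.snd) := by
  classical
  by_contra! hno
  let t₀ := w ≫ (biprod.fst : (O d₀) ⊞ ((O d₁) ⊞ (O d₂)) ⟶ O d₀)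
  let t₁ := w ≫ (biprod.snd : (O d₀) ⊞ ((O d₁) ⊞ (O d₂)) ⟶ _) ≫ (biprod.fst : (O d₁) ⊞ (O d₂) ⟶ O d₁)
  let t₂ := w ≫ (biprod.snd : (O d₀) ⊞ ((O d₁) ⊞ (O d₂)) ⟶ _) ≫ (biprod.snd : (O d₁) ⊞ (O d₂) ⟶ O d₂)
  let dd : Fin 3 → ℤ := ![d₀, d₁, d₂]
  have hform : ∀ (d : ℤ) (t : Coh.structureModule (CohB1.ProjSpace n k) ⟶ O d), ¬ IsIso t →
      ∃ (e : ℕ) (f : MvPolynomial (Fin (n + 1)) k), 0 < e ∧ f.IsHomogeneous e ∧
        ∀ y : CohB1.ProjSpace n k, f ∈ (show ProjectiveSpectrum (CohB1.polyGrading n k) from y).asHomogeneousIdeal →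
          ∃ r ∈ IsLocalRing.maximalIdeal ((CohB1.ProjSpace n k).presheaf.stalk y), ∃ G,
            CurveCoh17.stalkLin t y ((Coh.structureModule (CohB1.ProjSpace n k)).presheaf.germ ⊤ y trivial (M1.one ⊤)) =
              r • G := fun d t ht => by
    rcases isIso_or_pos (by omega) t with h | h | h
    · refine ⟨1, 0, one_pos, MvPolynomial.isHomogeneous_zero _ _ _, fun y _ => ⟨0, Submodule.zero_mem _, 0, ?_⟩⟩
      rw [h, smul_zero, CurveCoh17.stalkLin_apply, Functor.map_zero]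
      rfl
    · exact absurd h ht
    · obtain ⟨e, rfl⟩ : ∃ e : ℕ, d = e := ⟨d.toNat, (Int.toNat_of_nonneg h.le).symm⟩
      obtain ⟨p, hp⟩ := (Twist.globalOf_bijective_polyGrading n k e).2 (t.app ⊤ (M1.one ⊤))
      refine ⟨e, p, by omega, p.2, fun y hy => ?_⟩
      obtain ⟨j, hj⟩ := Opens.mem_iSup.1 ((ProjSpace.iSup_basicOpen n k).ge (Set.mem_univ y))
      have hXe : (MvPolynomial.X j ^ e : MvPolynomial (Fin (n + 1)) k) ∈ CohB1.polyGrading n k e :=
        PicPn.Xpow_mem j e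
      let D : (CohB1.ProjSpace n k).Opens := Proj.basicOpen (CohB1.polyGrading n k) (MvPolynomial.X j ^ e)
      have hjD : y ∈ D := by
        show y ∈ Proj.basicOpen (CohB1.polyGrading n k) (MvPolynomial.X j ^ e)
        rw [Proj.basicOpen_pow (CohB1.polyGrading n k) (MvPolynomial.X j) e (by omega)]
        exact hj
      let g := M1.mres (O (e : ℤ)) (le_top : D ≤ ⊤) (Twist.gsec (CohB1.polyGrading n k) ⟨_, hXe⟩)
      have hg : Twist.IsGen (O (e : ℤ)) D g := fun V hV => by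
        simp only [g, M1.mres_mres]
        exact Twist.bijective_smul_gsec (CohB1.polyGrading n k) ⟨_, hXe⟩ V hV
      obtain ⟨r, hr, hr'⟩ := germ_form hjD hg p hy
      refine ⟨r, hr, (O (e : ℤ)).presheaf.germ D y hjD g, ?_⟩
      rw [Simple.stalk_map_germ, ← hp]
      exact hr'
  obtain ⟨e₀, f₀, he₀, hf₀, hv₀⟩ := hform d₀ t₀ hno.1
  obtain ⟨e₁, f₁, he₁, hf₁, hv₁⟩ := hform d₁ t₁ hno.2.1
  obtain ⟨e₂, f₂, he₂, hf₂, hv₂⟩ := hform d₂ t₂ hno.2.2
  obtain ⟨z, hz, hze⟩ := TsenLang.exists_zero_of_isCi (TsenLang.isCi_zero (K := k)) ![f₀, f₁, f₂] ![e₀, e₁, e₂]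
    (by intro r; fin_cases r <;> assumption) (by intro r; fin_cases r <;> assumption)
    (by simp; omega)
  obtain ⟨x, hx⟩ := exists_point_forms z hz
  let y : CohB1.ProjSpace n k := x
  let one' := (Coh.structureModule (CohB1.ProjSpace n k)).presheaf.germ ⊤ y trivial (M1.one ⊤)
  obtain ⟨r₀, hr₀, G₀, hG₀⟩ := hv₀ y (hx _ f₀ hf₀ (hze 0))
  obtain ⟨r₁, hr₁, G₁, hG₁⟩ := hv₁ y (hx _ f₁ hf₁ (hze 1))
  obtain ⟨r₂, hr₂, G₂, hG₂⟩ := hv₂ y (hx _ f₂ hf₂ (hze 2))
  have hwsum : w = t₀ ≫ biprod.inl + (t₁ ≫ biprod.inl ≫ biprod.inr + t₂ ≫ biprod.inr ≫ biprod.inr) := by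
    refine biprod.hom_ext _ _ ?_ ?_
    · simp [t₀]
    · refine biprod.hom_ext _ _ ?_ ?_ <;> simp [t₁, t₂]
  obtain ⟨ρ, hρ⟩ := hw y
  have h1 := hρ one'
  have hw1 : CurveCoh17.stalkLin w y one' = CurveCoh17.stalkLin biprod.inl y (r₀ • G₀) +
      (CurveCoh17.stalkLin (biprod.inl ≫ biprod.inr) y (r₁ • G₁) +
        CurveCoh17.stalkLin (biprod.inr ≫ biprod.inr) y (r₂ • G₂)) := by
    rw [← hG₀, ← hG₁, ← hG₂, ← CurveCoh17.stalkLin_comp, ← CurveCoh17.stalkLin_comp, ← CurveCoh17.stalkLin_comp]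
    conv_lhs => rw [hwsum]
    simp only [CurveCoh17.stalkLin_apply, Functor.map_add]
    rfl
  rw [hw1, map_add, map_add, map_smul, map_smul, map_smul, map_smul, map_smul, map_smul] at h1
  have hb := (P1Split.isBas_of_isGen (P1Split.isGen_one (X := CohB1.ProjSpace n k) ⊤)).stalk (x := y) trivial
  obtain ⟨c₀, hc₀⟩ := hb.2 (ρ (CurveCoh17.stalkLin biprod.inl y G₀))
  obtain ⟨c₁, hc₁⟩ := hb.2 (ρ (CurveCoh17.stalkLin (biprod.inl ≫ biprod.inr) y G₁))
  obtain ⟨c₂, hc₂⟩ := hb.2 (ρ (CurveCoh17.stalkLin (biprod.inr ≫ biprod.inr) y G₂))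
  simp only [Fin.sum_univ_one] at hc₀ hc₁ hc₂
  rw [← hc₀, ← hc₁, ← hc₂, ← mul_smul, ← mul_smul, ← mul_smul, ← add_smul, ← add_smul] at h1
  have h2 := hb.1 (a₁ := fun _ => r₀ * c₀ 0 + (r₁ * c₁ 0 + r₂ * c₂ 0)) (a₂ := fun _ => 1)
    (by simpa using h1)
  have : (1 : (CohB1.ProjSpace n k).presheaf.stalk y) ∈ IsLocalRing.maximalIdeal _ := by
    rw [← congrFun h2 0]
    exact Ideal.add_mem _ (Ideal.mul_mem_right _ _ hr₀) (Ideal.add_mem _ (Ideal.mul_mem_right _ _ hr₁)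
      (Ideal.mul_mem_right _ _ hr₂))
  exact (IsLocalRing.maximalIdeal.isMaximal _).ne_top ((Ideal.eq_top_iff_one _).2 this)

theorem isIso_of_tensor {D L : (CohB1.ProjSpace n k).Modules}
    (e : CohB1.tensorMod D L ≅ Coh.structureModule (CohB1.ProjSpace n k)) {A B : (CohB1.ProjSpace n k).Modules}
    (f : A ⟶ B) [IsIso ((M2.tensorR D).map f)] : IsIso f := by
  have h : f = (M2.untwist e A).inv ≫ (M2.tensorR L).map ((M2.tensorR D).map f) ≫ (M2.untwist e B).hom := by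
    show f = (M2.untwist e A).inv ≫ M2.tensorMap (M2.tensorMap f (𝟙 D)) (𝟙 L) ≫ (M2.untwist e B).hom
    rw [M2.untwist_natural e f, Iso.inv_hom_id_assoc]
  rw [h]; infer_instance

/-- Lifting maps from twists. -/
theorem exists_lift_twist {S : ShortComplex (CohB1.ProjSpace n k).Modules} (hS : S.ShortExact) {p : ℤ}
    (h : Subsingleton (Coh.HH (CohB1.ProjSpace n k) (CohB1.tensorMod S.X₁ (O (-p))) 1)) (F : (O p) ⟶ S.X₃) :
    ∃ F' : (O p) ⟶ S.X₂, F' ≫ S.g = F := by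
  have hS' : (S.map (M2.tensorR (O (-p)))).ShortExact := (CMReg18.projData k n).shortExact_tw hS (-p)
  obtain ⟨t, ht⟩ := exists_lift k hS' h ((negIso p).inv ≫ M2.tensorMap F (𝟙 (O (-p))))
  obtain ⟨F', hF'⟩ := ES11.tensorR_map_surjective (negIso' p) ((negIso p).hom ≫ t)
  refine ⟨F', ES11.tensorR_map_injective (negIso' p) ?_⟩
  refine ((M2.tensorR (O (-p))).map_comp F' S.g).trans ?_
  show M2.tensorMap F' (𝟙 _) ≫ M2.tensorMap S.g (𝟙 _) = _
  rw [hF', Category.assoc]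
  exact (congrArg (_ ≫ ·) ht).trans (by rw [Iso.hom_inv_id_assoc])

/-- A bundle belonging to a complete intersection splits. -/
theorem exists_split [IsAlgClosed k] (hn : 3 ≤ n) {S : ShortComplex (CohB1.ProjSpace n k).Modules}
    (hS : S.ShortExact) (hE : FlatMod.IsFinLocFreeOfRank 2 S.X₂)
    (e₁ : S.X₁ ≅ Coh.structureModule (CohB1.ProjSpace n k)) {p q : ℤ} (χ : (O p) ⊞ (O q) ⟶ S.X₃) [Epi χ] :
    ∃ a' b' : ℤ, Nonempty (S.X₂ ≅ (O a') ⊞ (O b')) := by
  haveI := hS.epi_g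
  have hl : ∀ r : ℤ, Subsingleton (Coh.HH (CohB1.ProjSpace n k) (CohB1.tensorMod S.X₁ (O r)) 1) := fun r =>
    CMReg18.van_iso k (M2.tensorIso e₁ (Iso.refl _) ≪≫ M2.tensorLUnit _).symm
      (S0844.result k n r 1 (by omega) (by omega))
  obtain ⟨F', hF'⟩ := exists_lift_twist hS (hl _) (biprod.inl ≫ χ)
  obtain ⟨G', hG'⟩ := exists_lift_twist hS (hl _) (biprod.inr ≫ χ)
  let e0 : S.X₁ ≅ O (0 : ℤ) := e₁ ≪≫ zeroIso.symm
  let π : (O (0 : ℤ)) ⊞ ((O p) ⊞ (O q)) ⟶ S.X₂ := biprod.desc (e0.inv ≫ S.f) (biprod.desc F' G')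
  have hχ : biprod.desc F' G' ≫ S.g = χ := biprod.hom_ext' _ _ (by simp [hF']) (by simp [hG'])
  haveI : Epi π := Preadditive.epi_of_cancel_zero _ fun {T} h hh => by
    have h1 : S.f ≫ h = 0 := by
      have := congrArg (biprod.inl ≫ ·) hh
      simp only [π, biprod.inl_desc_assoc, comp_zero, Category.assoc] at this
      rwa [← cancel_epi e0.inv, comp_zero]
    have h2 : χ ≫ hS.exact.desc h h1 = 0 := by
      rw [← hχ, Category.assoc, ShortComplex.Exact.g_desc]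
      have := congrArg (biprod.inr ≫ ·) hh
      simpa only [π, biprod.inr_desc_assoc, comp_zero] using this
    rw [← hS.exact.g_desc h h1, zero_of_epi_comp _ h2, comp_zero]
  have hK : (ShortComplex.mk (kernel.ι π) π (kernel.condition π)).ShortExact :=
    { exact := ShortComplex.exact_kernel π }
  have hKi : PicF.IsInvertible (kernel π) := (M2.isInvertible_iff_isFinLocFreeOfRank_one _).2
    (Cyc26Split.isFinLocFreeOfRank_kernel _ _ _ hK
      (rank_biprod (rank_O (k := k) (n := n) 0) (rank_biprod (rank_O (k := k) (n := n) p) (rank_O (k := k) (n := n) q))) hE)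
  obtain ⟨e, ⟨eK⟩⟩ := PicPn.exists_iso_twist (R := k) hKi
  have hS' := (CMReg18.projData k n).shortExact_tw hK (-e)
  let T := M2.tensorR (O (-e))
  haveI := preservesBinaryBiproducts_of_preservesBiproducts T
  let θ : CohB1.tensorMod ((O (0 : ℤ)) ⊞ ((O p) ⊞ (O q))) (O (-e)) ≅ (O (0 + -e)) ⊞ ((O (p + -e)) ⊞ (O (q + -e))) :=
    T.mapBiprod _ _ ≪≫ biprod.mapIso (addIso 0 (-e)) (T.mapBiprod _ _ ≪≫ biprod.mapIso (addIso p (-e)) (addIso q (-e)))
  let i : Coh.structureModule (CohB1.ProjSpace n k) ≅ T.obj (kernel π) :=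
    (negIso (k := k) (n := n) e).symm ≪≫ (T.mapIso eK).symm
  let w := i.hom ≫ T.map (kernel.ι π) ≫ θ.hom
  have hw : NullCorr.HasRetr w := (NullCorr.hasRetr_iso i).comp
    ((NullCorr.hasRetr_shortExact hS' (M2.isFinLocFree_tensor (M2.isFinLocFree_of_ofRank hE)
      (M2.isFinLocFree_of_ofRank (rank_O (k := k) (n := n) (-e))))).comp (NullCorr.hasRetr_iso θ))
  have c0 : w ≫ biprod.fst = i.hom ≫ T.map (kernel.ι π ≫ biprod.fst) ≫ (addIso 0 (-e)).hom := by
    simp [w, θ]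
  have c1 : w ≫ biprod.snd ≫ biprod.fst =
      i.hom ≫ T.map (kernel.ι π ≫ biprod.snd ≫ biprod.fst) ≫ (addIso p (-e)).hom := by
    simp [w, θ]
  have c2 : w ≫ biprod.snd ≫ biprod.snd =
      i.hom ≫ T.map (kernel.ι π ≫ biprod.snd ≫ biprod.snd) ≫ (addIso q (-e)).hom := by
    simp [w, θ]
  have key : ∀ {B : (CohB1.ProjSpace n k).Modules} (f : kernel π ⟶ B) {B' : (CohB1.ProjSpace n k).Modules}
      (a : T.obj B ≅ B') (_ : IsIso (i.hom ≫ T.map f ≫ a.hom)), IsIso f := fun {B} f {B'} a ha => by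
    haveI : IsIso (T.map f) := by
      haveI : IsIso (T.map f ≫ a.hom) := IsIso.of_isIso_comp_left i.hom _
      exact IsIso.of_isIso_comp_right _ a.hom
    exact isIso_of_tensor (D := O (-e)) (negIso' e) f
  have main : ∀ {A B : (CohB1.ProjSpace n k).Modules} (σ : (O (0 : ℤ)) ⊞ ((O p) ⊞ (O q)) ≅ A ⊞ B)
      (_ : IsIso (kernel.ι π ≫ σ.hom ≫ biprod.fst)), Nonempty (B ≅ S.X₂) := fun {A B} σ hσ => by
    haveI : IsIso ((kernel.ι π ≫ σ.hom) ≫ biprod.fst) := by rwa [Category.assoc]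
    exact iso_of_component (kernel.ι π ≫ σ.hom) (σ.inv ≫ π) (by simp)
      (ShortComplex.shortExact_of_iso (ShortComplex.isoMk (Iso.refl _) σ (Iso.refl _) (by simp) (by simp) :
        ShortComplex.mk (kernel.ι π) π (kernel.condition π) ≅
          ShortComplex.mk (kernel.ι π ≫ σ.hom) (σ.inv ≫ π) (by simp)) hK)
  rcases exists_isIso_component hn w hw with h | h | h
  · rw [c0] at h
    obtain ⟨j⟩ := main (Iso.refl _) (by simpa using key (kernel.ι π ≫ biprod.fst) _ h)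
    exact ⟨p, q, ⟨j.symm⟩⟩
  · rw [c1] at h
    let σ : (O (0 : ℤ)) ⊞ ((O p) ⊞ (O q)) ≅ (O p) ⊞ ((O (0 : ℤ)) ⊞ (O q)) :=
      { hom := biprod.lift (biprod.snd ≫ biprod.fst) (biprod.lift biprod.fst (biprod.snd ≫ biprod.snd))
        inv := biprod.lift (biprod.snd ≫ biprod.fst) (biprod.lift biprod.fst (biprod.snd ≫ biprod.snd))
        hom_inv_id := biprod.hom_ext _ _ (by simp) (biprod.hom_ext _ _ (by simp) (by simp))
        inv_hom_id := biprod.hom_ext _ _ (by simp) (biprod.hom_ext _ _ (by simp) (by simp)) }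
    obtain ⟨j⟩ := main σ (by rw [show σ.hom ≫ biprod.fst = biprod.snd ≫ biprod.fst from biprod.lift_fst _ _]; exact key _ _ h)
    exact ⟨0, q, ⟨j.symm⟩⟩
  · rw [c2] at h
    let σ : (O (0 : ℤ)) ⊞ ((O p) ⊞ (O q)) ≅ (O q) ⊞ ((O (0 : ℤ)) ⊞ (O p)) :=
      { hom := biprod.lift (biprod.snd ≫ biprod.snd) (biprod.lift biprod.fst (biprod.snd ≫ biprod.fst))
        inv := biprod.lift (biprod.snd ≫ biprod.fst) (biprod.lift (biprod.snd ≫ biprod.snd) biprod.fst)
        hom_inv_id := biprod.hom_ext _ _ (by simp) (biprod.hom_ext _ _ (by simp) (by simp))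
        inv_hom_id := biprod.hom_ext _ _ (by simp) (biprod.hom_ext _ _ (by simp) (by simp)) }
    obtain ⟨j⟩ := main σ (by rw [show σ.hom ≫ biprod.fst = biprod.snd ≫ biprod.snd from biprod.lift_fst _ _]; exact key _ _ h)
    exact ⟨0, p, ⟨j.symm⟩⟩

/-- Twisting a surjection from two twists. -/
theorem exists_epi_twist {M N : (CohB1.ProjSpace n k).Modules} {a b : ℤ} (ψ : (O a) ⊞ (O b) ⟶ M) [Epi ψ] {c : ℤ}
    (e : CohB1.tensorMod M (O c) ≅ N) :
    ∃ χ : (O (a + c)) ⊞ (O (b + c)) ⟶ N, Epi χ := by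
  have hS : (ShortComplex.mk (kernel.ι ψ) ψ (kernel.condition ψ)).ShortExact :=
    { exact := ShortComplex.exact_kernel ψ }
  haveI : Epi ((M2.tensorR (O c)).map ψ) := ((CMReg18.projData k n).shortExact_tw hS c).epi_g
  haveI := preservesBinaryBiproducts_of_preservesBiproducts (M2.tensorR (O c))
  exact ⟨((M2.tensorR (O c)).mapBiprod (O a) (O b) ≪≫ biprod.mapIso (addIso a c) (addIso b c)).inv ≫
    (M2.tensorR (O c)).map ψ ≫ e.hom, inferInstance⟩

theorem complete_intersection_iff [IsAlgClosed k] (hn : 3 ≤ n) {S : ShortComplex (CohB1.ProjSpace n k).Modules}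
    (hS : S.ShortExact) (hE : FlatMod.IsFinLocFreeOfRank 2 S.X₂)
    (e₁ : S.X₁ ≅ Coh.structureModule (CohB1.ProjSpace n k)) {J : (CohB1.ProjSpace n k).Modules} {c : ℤ}
    (e₃ : S.X₃ ≅ CohB1.tensorMod J (O c)) :
    (∃ a' b' : ℤ, Nonempty (S.X₂ ≅ (O a') ⊞ (O b'))) ↔
      ∃ (a b : ℤ) (ψ : (O (-a)) ⊞ (O (-b)) ⟶ J), Epi ψ := by
  haveI := hS.epi_g
  constructor
  · rintro ⟨a', b', ⟨i⟩⟩
    haveI : Epi (i.inv ≫ S.g) := epi_comp _ _
    let eJ : CohB1.tensorMod S.X₃ (O (-c)) ≅ J :=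
      M2.tensorIso e₃ (Iso.refl _) ≪≫ M2.untwist (negIso (k := k) (n := n) c) J
    obtain ⟨χ, hχ⟩ := exists_epi_twist (i.inv ≫ S.g) eJ
    exact ⟨-(a' + -c), -(b' + -c),
      biprod.map (eqToHom (by rw [neg_neg])) (eqToHom (by rw [neg_neg])) ≫ χ, inferInstance⟩
  · rintro ⟨a, b, ψ, hψ⟩
    obtain ⟨χ, hχ⟩ := exists_epi_twist ψ e₃.symm
    exact exists_split hn hS hE e₁ χ

end Groth.Agent.RankTwo11.CompleteInt
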