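import Mathlib.RingTheory.MvPolynomial.WeightedHomogeneous
import Mathlib.RingTheory.MvPolynomial.Homogeneous
import Mathlib.RingTheory.MvPolynomial.EulerIdentity
import Mathlib.Algebra.MvPolynomial.Funext
import Mathlib.Algebra.MvPolynomial.Equiv
import Mathlib.Algebra.MvPolynomial.NoZeroDivisors
import Mathlib.Algebra.MvPolynomial.PDeriv
import Mathlib.Algebra.Polynomial.Degree.TrailingDegree
import Mathlib.RingTheory.Polynomial.UniqueFactorization
import Mathlib.LinearAlgebra.Matrix.ToLin
import Mathlib.RingTheory.Localization.FractionRing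
import Mathlib.RingTheory.Localization.Integer
import Mathlib.LinearAlgebra.Basis.VectorSpace
import Mathlib.Algebra.CharZero.Infinite
import Mathlib.Tactic.LinearCombination
import Mathlib.Algebra.MvPolynomial.Division

/-!
# Kernel vectors along lines descend

A matrix of forms on `P^(m+1)` having, on every line, a kernel vector of degree `d`, such that kernel vectors of
degree `d` and `d + 1` on a line are proportional, has a global kernel vector of degree `d`.
-/

set_option autoImplicit false
set_option linter.unusedSectionVars false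
set_option maxHeartbeats 1000000

universe u

open MvPolynomial

noncomputable section

namespace Groth.Agent.RankTwo11.GMAlg

variable {k : Type u} [Field k] {m : ℕ}

/-- A kernel vector at every point gives one over the polynomial ring. -/
theorem exists_kernel_poly [Infinite k] {σ ι κ : Type*} [Fintype ι] [DecidableEq ι] [Fintype κ] [DecidableEq κ]
    (M : Matrix κ ι (MvPolynomial σ k))
    (h : ∀ z : σ → k, ∃ c : ι → k, c ≠ 0 ∧ (M.map (eval z)).mulVec c = 0) :
    ∃ c : ι → MvPolynomial σ k, c ≠ 0 ∧ M.mulVec c = 0 := by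
  by_contra! hno
  let K := FractionRing (MvPolynomial σ k)
  let f := algebraMap (MvPolynomial σ k) K
  have hinj : Function.Injective (Matrix.mulVecLin (M.map f)) := by
    refine (injective_iff_map_eq_zero _).2 fun v hv => ?_
    by_contra hv0
    obtain ⟨b, hb⟩ := IsLocalization.exist_integer_multiples_of_finite (nonZeroDivisors (MvPolynomial σ k)) v
    choose c hc using hb
    have hc' : ∀ i, f (c i) = f (b : MvPolynomial σ k) * v i := fun i => (hc i).trans (Algebra.smul_def _ _)
    refine hno c (fun h0 => hv0 (funext fun i => ?_)) (funext fun j => ?_)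
    · have := hc' i
      rw [h0, Pi.zero_apply, map_zero] at this
      exact (mul_eq_zero.1 this.symm).resolve_left
        fun hb0 => nonZeroDivisors.ne_zero b.2 (IsFractionRing.injective _ K (hb0.trans (map_zero f).symm))
    · refine IsFractionRing.injective _ K ?_
      show f (M.mulVec c j) = f 0
      have hj : ∑ i, f (M j i) * v i = 0 := congrFun hv j
      show f (∑ i, M j i * c i) = f 0
      rw [map_zero, map_sum, Finset.sum_congr rfl fun i _ => show f (M j i * c i) = f (b : MvPolynomial σ k) * (f (M j i) * v i) by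
        rw [map_mul, hc', mul_left_comm], ← Finset.mul_sum, hj, mul_zero]
  obtain ⟨g, hg⟩ := LinearMap.exists_leftInverse_of_injective _ (LinearMap.ker_eq_bot.2 hinj)
  let N := LinearMap.toMatrix' g
  have hN : N * M.map f = 1 := by
    rw [show N * M.map f = LinearMap.toMatrix' g * LinearMap.toMatrix' (Matrix.mulVecLin (M.map f)) from
      congrArg (N * ·) (LinearMap.toMatrix'_toLin' _).symm, ← LinearMap.toMatrix'_comp, hg, LinearMap.toMatrix'_id]
  obtain ⟨b, hb⟩ := IsLocalization.exist_integer_multiples_of_finite (nonZeroDivisors (MvPolynomial σ k))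
    (fun ij : ι × κ => N ij.1 ij.2)
  choose c hc using hb
  let N₀ : Matrix ι κ (MvPolynomial σ k) := fun i j => c (i, j)
  have hN₀ : N₀ * M = (b : MvPolynomial σ k) • (1 : Matrix ι ι (MvPolynomial σ k)) := by
    refine Matrix.map_injective (IsFractionRing.injective (MvPolynomial σ k) K) ?_
    show (N₀ * M).map f = ((b : MvPolynomial σ k) • (1 : Matrix ι ι (MvPolynomial σ k))).map f
    rw [Matrix.map_mul, show N₀.map f = f (b : MvPolynomial σ k) • N from
      Matrix.ext fun i j => (hc (i, j)).trans (Algebra.smul_def _ _), Matrix.smul_mul, hN]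
    ext i j
    by_cases hij : i = j <;> simp [hij, Matrix.one_apply, Matrix.smul_apply]
  obtain ⟨z, hz⟩ : ∃ z : σ → k, eval z (b : MvPolynomial σ k) ≠ 0 := by
    by_contra! hall
    exact nonZeroDivisors.ne_zero b.2 (MvPolynomial.funext fun z => (hall z).trans (map_zero _).symm)
  obtain ⟨v, hv0, hv⟩ := h z
  have h1 : (N₀.map (eval z) * M.map (eval z)).mulVec v = eval z (b : MvPolynomial σ k) • v := by
    rw [← Matrix.map_mul, hN₀]
    have : ((b : MvPolynomial σ k) • (1 : Matrix ι ι (MvPolynomial σ k))).map (eval z) =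
        eval z (b : MvPolynomial σ k) • (1 : Matrix ι ι k) := by
      ext i j
      by_cases hij : i = j <;> simp [hij, Matrix.one_apply, Matrix.smul_apply]
    rw [this, Matrix.smul_mulVec, Matrix.one_mulVec]
  rw [← Matrix.mulVec_mulVec, hv, Matrix.mulVec_zero] at h1
  exact hv0 ((smul_eq_zero.1 h1.symm).resolve_left hz)

/-- A divisor of every `c * U b` divides `c` if it shares no prime with all the `U b`. -/
theorem dvd_of_dvd_mul_all {R : Type*} [CommRing R] [IsDomain R] [UniqueFactorizationMonoid R] {ι : Type*}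
    (U : ι → R) {u : R} (hu : u ≠ 0) (h : ∀ q, Prime q → q ∣ u → ∃ i, ¬ q ∣ U i) :
    ∀ c : R, (∀ i, u ∣ c * U i) → u ∣ c := by
  induction u using UniqueFactorizationMonoid.induction_on_prime with
  | h₁ => exact absurd rfl hu
  | h₂ x hx => exact fun c _ => hx.dvd
  | h₃ a q ha hq ih =>
    intro c hc
    obtain ⟨i, hi⟩ := h q hq (dvd_mul_right q a)
    obtain ⟨c', rfl⟩ := (hq.dvd_or_dvd ((dvd_mul_right q a).trans (hc i))).resolve_right hi
    refine mul_dvd_mul_left q (ih ha (fun q' hq' hq'a => h q' hq' (hq'a.trans (dvd_mul_left a q))) c' fun j => ?_)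
    have := hc j
    rwa [mul_assoc, mul_dvd_mul_iff_left hq.ne_zero] at this

variable (k m)

/-- The variables: two on the line, `2 m` parameters. -/
abbrev Va := Fin 2 ⊕ (Fin m ⊕ Fin m)

/-- Polynomials on the family of lines. -/
abbrev A := MvPolynomial (Va m) k

/-- Forms on the projective space. -/
abbrev S := MvPolynomial (Fin (m + 2)) k

/-- Forms with line parameters. -/
abbrev B := MvPolynomial (Fin (m + 2) ⊕ Fin m) k

/-- Forms on a line. -/
abbrev Ln := MvPolynomial (Fin 2) k

variable {k m}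

/-- The parametrised line. -/
def yImg : Fin (m + 2) → A k m :=
  Fin.cons (X (Sum.inl 0)) (Fin.cons (X (Sum.inl 1))
    fun i => X (Sum.inr (Sum.inl i)) * X (Sum.inl 0) + X (Sum.inr (Sum.inr i)) * X (Sum.inl 1))

/-- Restriction to the parametrised line. -/
def phi : S k m →ₐ[k] A k m := aeval yImg

/-- Restriction, keeping the slopes. -/
def psi : B k m →ₐ[k] A k m := aeval (Sum.elim yImg fun i => X (Sum.inr (Sum.inl i)))

/-- A member of the family. -/
def spec (z : Fin m ⊕ Fin m → k) : A k m →ₐ[k] Ln k := aeval (Sum.elim X fun v => C (z v))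

/-- Restriction to a line. -/
def line (z : Fin m ⊕ Fin m → k) : S k m →ₐ[k] Ln k := (spec z).comp phi

/-- Weights of the variables on the line. -/
def wA : Va m → ℕ := Sum.elim (fun _ => 1) fun _ => 0

theorem psi_rename (U : S k m) : psi (rename Sum.inl U) = phi U := by
  rw [psi, phi, aeval_rename]; rfl

theorem weighted_yImg (l : Fin (m + 2)) : IsWeightedHomogeneous wA (yImg (k := k) l) 1 := by
  have hX : ∀ v : Va m, IsWeightedHomogeneous wA (X v : A k m) (wA v) := fun v => isWeightedHomogeneous_X k wA v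
  refine Fin.cases (hX (Sum.inl 0)) (fun l => Fin.cases (hX (Sum.inl 1)) (fun i => ?_) l) l
  exact ((hX (Sum.inr (Sum.inl i))).mul (hX (Sum.inl 0))).add ((hX (Sum.inr (Sum.inr i))).mul (hX (Sum.inl 1)))

theorem spec_homogeneous (z : Fin m ⊕ Fin m → k) {f : A k m} {d : ℕ} (hf : IsWeightedHomogeneous wA f d) :
    (spec z f).IsHomogeneous d := by
  rw [f.as_sum, map_sum]
  refine IsHomogeneous.sum _ _ _ fun e he => ?_
  rw [spec, aeval_monomial, Finsupp.prod]
  have hd : ∑ v ∈ e.support, wA v * e v = d := by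
    have h := hf (MvPolynomial.mem_support_iff.1 he)
    rw [Finsupp.weight_apply, Finsupp.sum] at h
    exact (Finset.sum_congr rfl fun v _ => mul_comm _ _).trans (by simpa using h)
  rw [← zero_add d, ← hd]
  refine (isHomogeneous_C _ _).mul (IsHomogeneous.prod _ _ _ fun v _ => IsHomogeneous.pow ?_ _)
  rcases v with j | v
  · exact isHomogeneous_X k j
  · exact isHomogeneous_C _ _

theorem eq_zero_of_spec [Infinite k] {f : A k m} (h : ∀ z, spec z f = 0) : f = 0 :=
  MvPolynomial.funext fun x => by
    have := congrArg (eval fun j => x (Sum.inl j)) (h fun v => x (Sum.inr v))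
    rw [map_zero] at this
    rw [map_zero, ← this, spec, ← aeval_eq_eval, ← aeval_eq_eval,
      ← AlgHom.comp_apply (aeval fun j => x (Sum.inl j)), comp_aeval]
    congr 2
    funext v
    rcases v with j | v <;> simp

theorem psi_injective [Infinite k] : Function.Injective (psi : B k m → A k m) := by
  refine (injective_iff_map_eq_zero _).2 fun F hF => ?_
  have h : F * X (Sum.inl 1) = 0 := MvPolynomial.funext fun y => by
    rw [map_mul, map_zero, eval_X]
    by_cases hy : y (Sum.inl 1) = 0
    · rw [hy, mul_zero]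
    refine mul_eq_zero.2 (Or.inl ?_)
    let x : Va m → k := Sum.elim (fun j => y (Sum.inl (Fin.castLE (by omega) j)))
      (Sum.elim (fun i => y (Sum.inr i))
        fun i => (y (Sum.inl i.succ.succ) - y (Sum.inr i) * y (Sum.inl 0)) / y (Sum.inl 1))
    have hx := congrArg (eval x) hF
    rw [map_zero] at hx
    rw [← hx, psi, ← aeval_eq_eval, ← aeval_eq_eval, ← AlgHom.comp_apply (aeval x), comp_aeval]
    congr 2
    funext v
    rcases v with l | i
    · refine Fin.cases (by simp [x, yImg]) (fun l => Fin.cases (by simp [x, yImg]; exact congrArg (fun t => y (Sum.inl t)) (Fin.ext (by simp))) (fun i => ?_) l) l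
      simp only [x, yImg, Sum.elim_inl, Fin.cons_succ, map_add, map_mul, aeval_X, Sum.elim_inr]
      rw [show (Fin.castLE (by omega : 2 ≤ m + 2) (1 : Fin 2)) = (1 : Fin (m + 2)) from Fin.ext (by simp),
        show (Fin.castLE (by omega : 2 ≤ m + 2) (0 : Fin 2)) = 0 from Fin.ext (by simp), div_mul_cancel₀ _ hy]
      ring
    · simp [x]
  exact (mul_eq_zero.1 h).resolve_right (X_ne_zero _)

theorem phi_injective [Infinite k] : Function.Injective (phi : S k m → A k m) := fun a b h =>
  rename_injective _ Sum.inl_injective (psi_injective (by rwa [psi_rename, psi_rename]))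

/-- Every polynomial lies in the range of `psi` after multiplying by a power of the second coordinate. -/
theorem exists_lift (f : A k m) : ∀ᶠ D in Filter.atTop, ∃ F : B k m, psi F = X (Sum.inl 1) ^ D * f := by
  have hx : ∀ j : Fin 2, psi (X (Sum.inl (Fin.castLE (by omega : 2 ≤ m + 2) j))) = (X (Sum.inl j) : A k m) := fun j => by
    fin_cases j <;> simp [psi, yImg] <;> rfl
  have hx1 : psi (X (Sum.inl 1)) = (X (Sum.inl 1) : A k m) := by simp [psi, yImg]
  have key : ∀ g : A k m, ∀ D, (∃ F : B k m, psi F = X (Sum.inl 1) ^ D * g) → ∀ D', D ≤ D' →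
      ∃ F : B k m, psi F = X (Sum.inl 1) ^ D' * g := fun g D ⟨F, hF⟩ D' hD => by
    refine ⟨X (Sum.inl 1) ^ (D' - D) * F, ?_⟩
    rw [map_mul, map_pow, hx1, hF, ← mul_assoc, ← pow_add, Nat.sub_add_cancel hD]
  suffices ∃ D, ∃ F : B k m, psi F = X (Sum.inl 1) ^ D * f by
    obtain ⟨D, hD⟩ := this
    exact Filter.eventually_atTop.2 ⟨D, key f D hD⟩
  induction f using MvPolynomial.induction_on with
  | C a => exact ⟨0, C a, by simp [psi]⟩
  | add g h hg hh =>
    obtain ⟨D, hD⟩ := hg
    obtain ⟨D', hD'⟩ := hh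
    obtain ⟨F, hF⟩ := key g D hD (D + D') (Nat.le_add_right _ _)
    obtain ⟨G, hG⟩ := key h D' hD' (D + D') (Nat.le_add_left _ _)
    exact ⟨D + D', F + G, by rw [map_add, hF, hG, mul_add]⟩
  | mul_X g v hg =>
    obtain ⟨D, F, hF⟩ := hg
    rcases v with j | i | i
    · exact ⟨D, F * X (Sum.inl (Fin.castLE (by omega) j)), by rw [map_mul, hF, hx, mul_assoc]⟩
    · exact ⟨D, F * X (Sum.inr i), by rw [map_mul, hF, mul_assoc]; simp [psi]⟩
    · refine ⟨D + 1, F * (X (Sum.inl i.succ.succ) - X (Sum.inr i) * X (Sum.inl 0)), ?_⟩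
      rw [map_mul, hF, map_sub, map_mul]
      simp only [psi, aeval_X, Sum.elim_inl, Sum.elim_inr, yImg, Fin.cons_succ, Fin.cons_zero]
      ring

/-- The vector field moving the line around a fixed point. -/
def vf (i : Fin m) : Derivation k (A k m) (A k m) :=
  (X (Sum.inl 1) : A k m) • pderiv (Sum.inr (Sum.inl i)) - (X (Sum.inl 0) : A k m) • pderiv (Sum.inr (Sum.inr i))

theorem vf_apply (i : Fin m) (f : A k m) : vf i f =
    X (Sum.inl 1) * pderiv (Sum.inr (Sum.inl i)) f - X (Sum.inl 0) * pderiv (Sum.inr (Sum.inr i)) f := rfl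

theorem vf_psi (i : Fin m) (F : B k m) : vf i (psi F) = X (Sum.inl 1) * psi (pderiv (Sum.inr i) F) := by
  induction F using MvPolynomial.induction_on with
  | C a => simp [psi, vf_apply]
  | add f g hf hg => rw [map_add, map_add, hf, hg, map_add, map_add, mul_add]
  | mul_X f v hf =>
    rw [map_mul, Derivation.leibniz, hf, pderiv_mul, map_add, map_mul, map_mul, smul_eq_mul, smul_eq_mul]
    rcases v with l | j
    · have : vf i (psi (X (Sum.inl l) : B k m)) = 0 := by
        rw [vf_apply]
        refine Fin.cases (by simp [psi, yImg, Pi.single_apply]) (fun l => Fin.cases (by simp [psi, yImg, Pi.single_apply])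
          (fun j => ?_) l) l
        simp only [psi, aeval_X, Sum.elim_inl, yImg, Fin.cons_succ, map_add, pderiv_mul, pderiv_X, Pi.single_apply,
          Sum.inr.injEq, Sum.inl.injEq, reduceCtorEq, if_false]
        split_ifs <;> ring
      rw [this, pderiv_X_of_ne (by simp)]
      simp only [mul_zero, map_zero, zero_add, add_zero]
      ring
    · have : vf i (psi (X (Sum.inr j) : B k m)) = X (Sum.inl 1) * psi (pderiv (Sum.inr i) (X (Sum.inr j) : B k m)) := by
        rw [vf_apply]
        simp only [psi, aeval_X, Sum.elim_inr, pderiv_X, Pi.single_apply, Sum.inr.injEq, Sum.inl.injEq, reduceCtorEq,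
          if_false]
        split_ifs <;> simp
      rw [this]
      ring

theorem vf_phi (i : Fin m) (U : S k m) : vf i (phi U) = 0 := by
  rw [← psi_rename, vf_psi]
  have : pderiv (Sum.inr i) (rename Sum.inl U : B k m) = 0 := by
    refine pderiv_eq_zero_of_notMem_vars fun h => ?_
    have := MvPolynomial.vars_rename _ U h
    simp at this
  rw [this, map_zero, mul_zero]

theorem weighted_vf (i : Fin m) {f : A k m} {d : ℕ} (hf : IsWeightedHomogeneous wA f d) :
    IsWeightedHomogeneous wA (vf i f) (d + 1) := by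
  have hX : ∀ v : Va m, IsWeightedHomogeneous wA (X v : A k m) (wA v) := fun v => isWeightedHomogeneous_X k wA v
  rw [vf_apply, sub_eq_add_neg, ← neg_mul, add_comm d 1]
  refine ((hX (Sum.inl 1)).mul (hf.pderiv rfl)).add (IsWeightedHomogeneous.mul ?_ (hf.pderiv rfl))
  exact Submodule.neg_mem (weightedHomogeneousSubmodule k wA 1) (hX (Sum.inl 0))

/-- A polynomial killed by all slope derivatives comes from the projective space. -/
theorem exists_rename [CharZero k] (F : B k m) (h : ∀ i, pderiv (Sum.inr i) F = 0) :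
    ∃ U : S k m, rename Sum.inl U = F := by
  classical
  refine exists_rename_eq_of_vars_subset_range F Sum.inl Sum.inl_injective fun v hv => ?_
  rcases v with l | i
  · exact ⟨l, rfl⟩
  exfalso
  obtain ⟨e, he, hei⟩ := (mem_vars _).1 (Finset.mem_coe.1 hv)
  have h1 : 1 ≤ e (Sum.inr i) := Nat.one_le_iff_ne_zero.2 (Finsupp.mem_support_iff.1 hei)
  have hc := congrArg (coeff (e - Finsupp.single (Sum.inr i) 1)) (h i)
  rw [coeff_pderiv, coeff_zero,
    tsub_add_cancel_of_le (Finsupp.single_le_iff.2 h1), Finsupp.tsub_apply, Finsupp.single_eq_same] at hc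
  rcases mul_eq_zero.1 hc with h2 | h2
  · exact MvPolynomial.mem_support_iff.1 he h2
  · have : ((e (Sum.inr i) - 1 + 1 : ℕ) : k) = 0 := by push_cast; exact h2
    rw [Nat.cast_eq_zero] at this
    omega

/-- A quotient constant along the slopes is a quotient of forms. -/
theorem exists_quotient [CharZero k] (F G : B k m) (hG : G ≠ 0)
    (h : ∀ i, G * pderiv (Sum.inr i) F = F * pderiv (Sum.inr i) G) :
    ∃ U V : S k m, V ≠ 0 ∧ F * rename Sum.inl V = G * rename Sum.inl U := by
  obtain ⟨G₀, F₀, c, hrel, rfl, rfl⟩ := UniqueFactorizationMonoid.exists_reduced_factors G hG F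
  have hc : c ≠ 0 := left_ne_zero_of_mul hG
  have hG0 : G₀ ≠ 0 := right_ne_zero_of_mul hG
  have h' : ∀ i, G₀ * pderiv (Sum.inr i) F₀ = F₀ * pderiv (Sum.inr i) G₀ := fun i => by
    have := h i
    rw [pderiv_mul, pderiv_mul] at this
    refine mul_left_cancel₀ (pow_ne_zero 2 hc) ?_
    linear_combination this
  have hG' : ∀ i, pderiv (Sum.inr i) G₀ = 0 := fun i => by
    by_contra hd
    obtain ⟨t, ht⟩ : G₀ ∣ pderiv (Sum.inr i) G₀ := hrel.dvd_of_dvd_mul_left ⟨_, (h' i).symm⟩
    have htne : t ≠ 0 := fun h0 => hd (by rw [ht, h0, mul_zero])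
    have h1 : (pderiv (Sum.inr i) G₀).totalDegree + 1 ≤ G₀.totalDegree := by
      obtain ⟨e, he, hmax⟩ := Finset.exists_mem_eq_sup (pderiv (Sum.inr i) G₀).support
        (by rwa [Finset.nonempty_iff_ne_empty, ne_eq, MvPolynomial.support_eq_empty]) fun s => s.sum fun _ e => e
      rw [show (pderiv (Sum.inr i) G₀).totalDegree = _ from hmax]
      have hmem : e + Finsupp.single (Sum.inr i) 1 ∈ G₀.support := by
        rw [MvPolynomial.mem_support_iff] at he ⊢
        rw [coeff_pderiv] at he
        exact left_ne_zero_of_mul he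
      have := MvPolynomial.le_totalDegree hmem
      rwa [Finsupp.sum_add_index' (fun _ => rfl) (fun _ _ _ => rfl), Finsupp.sum_single_index rfl] at this
    rw [ht, totalDegree_mul_of_isDomain hG0 htne] at h1
    omega
  obtain ⟨V, hV⟩ := exists_rename G₀ hG'
  obtain ⟨U, hU⟩ := exists_rename F₀ fun i => by
    have := h' i
    rw [hG' i, mul_zero] at this
    exact (mul_eq_zero.1 this).resolve_left hG0
  refine ⟨U, V, fun h0 => hG0 (by rw [← hV, h0, map_zero]), ?_⟩
  rw [hV, hU]
  ring

/-- Scaling the line coordinates. -/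
def lamA : A k m →ₐ[k] Polynomial (A k m) :=
  aeval fun v => Polynomial.C (X v) * Polynomial.X ^ wA v

/-- Scaling all coordinates. -/
def lamS : S k m →ₐ[k] Polynomial (S k m) :=
  aeval fun l => Polynomial.C (X l) * Polynomial.X

theorem lamA_phi (U : S k m) : lamA (phi U) = (lamS U).map (phi : S k m →ₐ[k] A k m).toRingHom := by
  have h : (lamA.comp phi : S k m →ₐ[k] Polynomial (A k m)) = (Polynomial.mapAlgHom phi).comp lamS := by
    refine MvPolynomial.algHom_ext fun l => ?_
    refine Fin.cases ?_ (fun l => Fin.cases ?_ (fun i => ?_) l) l <;>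
      simp [lamA, lamS, phi, yImg, wA] <;> ring
  exact AlgHom.congr_fun h U

theorem lamA_monomial (e : Va m →₀ ℕ) (a : k) :
    lamA (monomial e a) = Polynomial.C (monomial e a) * Polynomial.X ^ (Finsupp.weight wA e) := by
  rw [lamA, aeval_monomial, monomial_eq, map_mul, Finsupp.weight_apply]
  simp only [Finsupp.prod, mul_pow, Finset.prod_mul_distrib, map_prod, map_pow, ← pow_mul, Finsupp.sum,
    smul_eq_mul]
  rw [Finset.prod_pow_eq_pow_sum, mul_assoc, Finset.sum_congr rfl fun v _ => Nat.mul_comm (wA v) (e v)]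
  rfl

theorem lamS_monomial (e : Fin (m + 2) →₀ ℕ) (a : k) :
    lamS (monomial e a) = Polynomial.C (monomial e a) * Polynomial.X ^ e.degree := by
  rw [lamS, aeval_monomial, monomial_eq, map_mul, Finsupp.degree_apply]
  simp only [Finsupp.prod, mul_pow, Finset.prod_mul_distrib, map_prod, map_pow, Finset.prod_pow_eq_pow_sum]
  rw [mul_assoc]
  rfl

theorem lamS_homogeneous {U : S k m} {d : ℕ} (h : U.IsHomogeneous d) :
    lamS U = Polynomial.C U * Polynomial.X ^ d := by
  conv_lhs => rw [U.as_sum]
  conv_rhs => rw [U.as_sum, map_sum, Finset.sum_mul]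
  rw [map_sum]
  refine Finset.sum_congr rfl fun e he => ?_
  rw [lamS_monomial, ← h (MvPolynomial.mem_support_iff.1 he), Finsupp.degree_eq_weight_one]
  rfl

theorem lamA_homogeneous {U : A k m} {d : ℕ} (h : IsWeightedHomogeneous wA U d) :
    lamA U = Polynomial.C U * Polynomial.X ^ d := by
  conv_lhs => rw [U.as_sum]
  conv_rhs => rw [U.as_sum, map_sum, Finset.sum_mul]
  rw [map_sum]
  exact Finset.sum_congr rfl fun e he => by rw [lamA_monomial, h (MvPolynomial.mem_support_iff.1 he)]

theorem isHomogeneous_coeff_lamS (U : S k m) (i : ℕ) : ((lamS U).coeff i).IsHomogeneous i := by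
  induction U using MvPolynomial.induction_on' with
  | monomial e a =>
    rw [lamS_monomial, Polynomial.coeff_C_mul_X_pow]
    split_ifs with hi
    · subst hi; exact isHomogeneous_monomial a rfl
    · exact isHomogeneous_zero _ _ _
  | add p q hp hq => rw [map_add, Polynomial.coeff_add]; exact hp.add hq

theorem lamA_injective : Function.Injective (lamA : A k m → Polynomial (A k m)) := by
  refine Function.LeftInverse.injective (g := Polynomial.eval 1) fun f => ?_
  induction f using MvPolynomial.induction_on' with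
  | monomial e a => rw [lamA_monomial]; simp
  | add p q hp hq => rw [map_add, Polynomial.eval_add, hp, hq]

/-- Kernel vectors of degree `d` on all lines give a polynomial family of them. -/
theorem exists_family [Infinite k] {N R d : ℕ} (Ψ : Fin R → Fin N → S k m)
    (h : ∀ z, ∃ v : Fin N → Ln k, v ≠ 0 ∧ (∀ b, (v b).IsHomogeneous d) ∧ ∀ r, ∑ b, line z (Ψ r b) * v b = 0) :
    ∃ s : Fin N → A k m, s ≠ 0 ∧ (∀ b, IsWeightedHomogeneous wA (s b) d) ∧ ∀ r, ∑ b, phi (Ψ r b) * s b = 0 := by
  classical
  let e2 : Fin (d + 1) → (Fin 2 →₀ ℕ) := fun a =>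
    Finsupp.single 0 (a : ℕ) + Finsupp.single 1 (d - a)
  let mo : Fin (d + 1) → Ln k := fun a => monomial (e2 a) 1
  let mA : Fin (d + 1) → A k m := fun a => rename Sum.inl (mo a)
  let toP : A k m ≃ₐ[k] MvPolynomial (Fin 2) (MvPolynomial (Fin m ⊕ Fin m) k) := sumAlgEquiv k (Fin 2) (Fin m ⊕ Fin m)
  have hP : ∀ z (f : A k m), MvPolynomial.map (eval z) (toP f) = spec z f := fun z f => by
    induction f using MvPolynomial.induction_on with
    | C a => rw [sumAlgEquiv_C_inl, map_C, eval_C, spec, aeval_C]; rfl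
    | add p q hp hq => rw [map_add, map_add, hp, hq, map_add]
    | mul_X p v hp =>
      rw [map_mul, map_mul, hp, map_mul]
      congr 1
      rcases v with j | v
      · rw [sumAlgEquiv_X_inl, map_X]; simp [spec]
      · rw [sumAlgEquiv_X_inr, map_C, eval_X]; simp [spec]
  let Ent : Fin R → Fin N × Fin (d + 1) → MvPolynomial (Fin 2) (MvPolynomial (Fin m ⊕ Fin m) k) :=
    fun r ba => toP (phi (Ψ r ba.1) * mA ba.2)
  let T : Finset (Fin 2 →₀ ℕ) := Finset.univ.biUnion fun r => Finset.univ.biUnion fun ba => (Ent r ba).support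
  let M : Matrix (Fin R × T) (Fin N × Fin (d + 1)) (MvPolynomial (Fin m ⊕ Fin m) k) :=
    fun re ba => (Ent re.1 ba).coeff re.2.1
  have hspecm : ∀ z a, spec z (mA a) = mo a := fun z a => by
    rw [spec, aeval_rename]; exact MvPolynomial.aeval_X_left_apply (mo a)
  have hmo : ∀ {f : Ln k}, f.IsHomogeneous d → f = ∑ a, C (f.coeff (e2 a)) * mo a := fun {f} hf => by
    ext e
    simp only [coeff_sum, mo, C_mul_monomial, mul_one, coeff_monomial]
    by_cases he : e 0 + e 1 = d
    · rw [Finset.sum_eq_single ⟨e 0, by omega⟩]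
      · have : e2 ⟨e 0, by omega⟩ = e := by
          ext j; fin_cases j <;> simp [e2] <;> omega
        rw [if_pos this, this]
      · intro a _ ha
        rw [if_neg]
        intro hea
        exact ha (Fin.ext (by simpa [e2] using DFunLike.congr_fun hea 0))
      · simp
    · rw [show f.coeff e = 0 from hf.coeff_eq_zero (by rw [Finsupp.degree_eq_sum, Fin.sum_univ_two]; exact he),
        Finset.sum_eq_zero]
      intro a _
      rw [if_neg]
      intro hea
      apply he
      rw [← hea]
      simp [e2]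
      omega
  have hM : ∀ z, ∃ c : Fin N × Fin (d + 1) → k, c ≠ 0 ∧ (M.map (eval z)).mulVec c = 0 := fun z => by
    obtain ⟨v, hv0, hvh, hv⟩ := h z
    refine ⟨fun ba => (v ba.1).coeff (e2 ba.2), fun h0 => hv0 (funext fun b => ?_), funext fun re => ?_⟩
    · rw [hmo (hvh b), Pi.zero_apply, Finset.sum_eq_zero]
      intro a _
      rw [show (v b).coeff (e2 a) = 0 from congrFun h0 (b, a), map_zero, zero_mul]
    · have h1 := congrArg (coeff re.2.1) (hv re.1)
      rw [coeff_zero] at h1
      rw [Pi.zero_apply, ← h1, coeff_sum]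
      simp only [Matrix.mulVec, dotProduct, Matrix.map_apply, M]
      rw [Fintype.sum_prod_type]
      refine Finset.sum_congr rfl fun b _ => ?_
      conv_rhs => rw [hmo (hvh b), Finset.mul_sum, coeff_sum]
      refine Finset.sum_congr rfl fun a _ => ?_
      rw [mul_left_comm, coeff_C_mul]
      show eval z ((Ent re.1 (b, a)).coeff re.2.1) * (v b).coeff (e2 a) = _
      rw [← coeff_map, hP, map_mul, hspecm, mul_comm]
      rfl
  obtain ⟨c, hc0, hc⟩ := exists_kernel_poly M hM
  let s : Fin N → A k m := fun b => ∑ a, rename Sum.inr (c (b, a)) * mA a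
  have hsc : ∀ z b, spec z (s b) = ∑ a, C (eval z (c (b, a))) * mo a := fun z b => by
    simp only [s, map_sum, map_mul, hspecm]
    refine Finset.sum_congr rfl fun a _ => congrArg (· * mo a) ?_
    rw [spec, aeval_rename]
    induction c (b, a) using MvPolynomial.induction_on with
    | C x => simp
    | add p q hp hq => rw [map_add, hp, hq, map_add, map_add]
    | mul_X p v hp => rw [map_mul, hp, map_mul, map_mul]; simp
  refine ⟨s, fun h0 => hc0 (funext fun ba => ?_), fun b => ?_, fun r => ?_⟩
  · refine MvPolynomial.funext fun z => ?_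
    have h1 := hsc z ba.1
    rw [h0, Pi.zero_apply, map_zero] at h1
    have h2 := congrArg (coeff (e2 ba.2)) h1.symm
    simp only [coeff_sum, mo, C_mul_monomial, mul_one, coeff_monomial, coeff_zero] at h2
    rw [Finset.sum_eq_single ba.2 (fun a _ ha => if_neg fun hea => ha (Fin.ext (by
      simpa [e2] using DFunLike.congr_fun hea 0))) (by simp), if_pos rfl] at h2
    rw [Pi.zero_apply, map_zero]
    exact h2
  · refine IsWeightedHomogeneous.sum _ _ _ fun a _ => ?_
    suffices h01 : IsWeightedHomogeneous wA (rename Sum.inr (c (b, a)) : A k m) 0 ∧ IsWeightedHomogeneous wA (mA a) d by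
      have := h01.1.mul h01.2
      rwa [zero_add] at this
    refine ⟨?_, ?_⟩
    · induction c (b, a) using MvPolynomial.induction_on with
      | C x => rw [rename_C]; exact isWeightedHomogeneous_C _ _
      | add p q hp hq => rw [map_add]; exact hp.add hq
      | mul_X p v hp => rw [map_mul, rename_X, ← zero_add 0]; exact hp.mul (isWeightedHomogeneous_X k wA (Sum.inr v))
    · simp only [mA, mo, rename_monomial]
      refine isWeightedHomogeneous_monomial _ _ _ ?_
      show Finsupp.weight wA ((e2 a).mapDomain Sum.inl) = d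
      rw [Finsupp.mapDomain_add, Finsupp.mapDomain_single, Finsupp.mapDomain_single, map_add, Finsupp.weight_single, Finsupp.weight_single]
      simp [wA]
      have := a.isLt; omega
  · refine eq_zero_of_spec fun z => ?_
    ext e
    rw [coeff_zero, map_sum, coeff_sum]
    have hexp : ∀ b, coeff e (spec z (phi (Ψ r b) * s b)) = ∑ a, eval z ((Ent r (b, a)).coeff e) * eval z (c (b, a)) := fun b => by
      rw [map_mul, hsc, Finset.mul_sum, coeff_sum]
      refine Finset.sum_congr rfl fun a _ => ?_
      rw [mul_left_comm, coeff_C_mul, mul_comm, ← coeff_map, hP, map_mul, hspecm]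
    rw [Finset.sum_congr rfl fun b _ => hexp b]
    by_cases he : e ∈ T
    · have h1 := congrArg (eval z) (congrFun hc (r, ⟨e, he⟩))
      rw [Pi.zero_apply, map_zero] at h1
      rw [← h1]
      simp only [Matrix.mulVec, dotProduct, M, map_sum, map_mul]
      rw [Fintype.sum_prod_type]
    · refine Finset.sum_eq_zero fun b _ => Finset.sum_eq_zero fun a _ => ?_
      rw [show (Ent r (b, a)).coeff e = 0 from not_not.1 fun hne => he (Finset.mem_biUnion.2
        ⟨r, Finset.mem_univ _, Finset.mem_biUnion.2 ⟨(b, a), Finset.mem_univ _, MvPolynomial.mem_support_iff.2 hne⟩⟩),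
        map_zero, zero_mul]

/-- A family proportional along the vector fields descends. -/
theorem descend [CharZero k] {N d : ℕ} (s : Fin N → A k m) (hs0 : s ≠ 0)
    (hV : ∀ i a b, s a * vf i (s b) = s b * vf i (s a)) (hd : ∀ b, IsWeightedHomogeneous wA (s b) d) :
    ∃ (h : A k m) (U : Fin N → S k m), h ≠ 0 ∧ ∀ b, s b = h * phi (U b) := by
  classical
  obtain ⟨D, hD⟩ := (Filter.eventually_all.2 fun b => exists_lift (s b)).exists
  choose G hG using hD
  obtain ⟨a₀, ha₀⟩ := Function.ne_iff.1 hs0
  have hx1 : (X (Sum.inl 1) : A k m) ≠ 0 := X_ne_zero _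
  have hG0 : G a₀ ≠ 0 := fun h0 => mul_ne_zero (pow_ne_zero D hx1) ha₀ (by rw [← hG, h0, map_zero])
  have hrel : ∀ i b, G a₀ * pderiv (Sum.inr i) (G b) = G b * pderiv (Sum.inr i) (G a₀) := fun i b => by
    have hpow : vf i ((X (Sum.inl 1) : A k m) ^ D) = 0 := by
      rw [Derivation.leibniz_pow, vf_apply]
      simp
    have key : ∀ b, X (Sum.inl 1) ^ D * vf i (s b) = X (Sum.inl 1) * psi (pderiv (Sum.inr i) (G b)) := fun b => by
      rw [← vf_psi, hG, Derivation.leibniz, hpow, smul_zero, add_zero, smul_eq_mul]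
    refine psi_injective (mul_left_cancel₀ hx1 ?_)
    rw [map_mul, map_mul, mul_left_comm, ← key, mul_left_comm _ (psi (G b)), ← key, hG, hG]
    linear_combination (X (Sum.inl 1) ^ D * X (Sum.inl 1) ^ D) * hV i a₀ b
  choose F W hW hFW using fun b => exists_quotient (G b) (G a₀) hG0 fun i => hrel i b
  let U₁ : Fin N → S k m := fun b => F b * ∏ c ∈ Finset.univ.erase b, W c
  let u₁ : S k m := ∏ c, W c
  have hU₁ : ∀ b, G b * rename Sum.inl u₁ = G a₀ * rename Sum.inl (U₁ b) := fun b => by
    simp only [u₁, U₁, ← Finset.mul_prod_erase Finset.univ W (Finset.mem_univ b), map_mul]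
    linear_combination (rename Sum.inl (∏ c ∈ Finset.univ.erase b, W c)) * hFW b
  -- a common denominator of least degree
  have hex : ∃ t : ℕ, ∃ (u : S k m) (U : Fin N → S k m), u ≠ 0 ∧ u.totalDegree = t ∧
      ∀ b, G b * rename Sum.inl u = G a₀ * rename Sum.inl (U b) :=
    ⟨_, u₁, U₁, Finset.prod_ne_zero_iff.2 fun c _ => hW c, rfl, hU₁⟩
  obtain ⟨u, U, hu, hut, hU⟩ := Nat.find_spec hex
  have hprim : ∀ q : S k m, Prime q → (∀ b, q ∣ U b) → False := fun q hq hall => by
    have hUa : U a₀ = u := rename_injective _ Sum.inl_injective (mul_left_cancel₀ hG0 (hU a₀)).symm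
    obtain ⟨u', hu'⟩ := hUa ▸ hall a₀
    choose U' hU' using hall
    have hu'0 : u' ≠ 0 := fun h0 => hu (by rw [hu', h0, mul_zero])
    have hlt : u'.totalDegree < Nat.find hex := by
      rw [← hut, hu', totalDegree_mul_of_isDomain hq.ne_zero hu'0]
      have : q.totalDegree ≠ 0 := fun h0 => by
        obtain ⟨c, hc⟩ : ∃ c, q = C c := ⟨_, totalDegree_eq_zero_iff_eq_C.1 h0⟩
        refine hq.not_unit ?_
        rw [hc]
        exact (isUnit_iff_ne_zero.2 fun hc0 => hq.ne_zero (by rw [hc, hc0, map_zero])).map C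
      omega
    refine Nat.find_min hex hlt ⟨u', U', hu'0, rfl, fun b => ?_⟩
    have := hU b
    rw [hu', hU' b, map_mul, map_mul] at this
    refine mul_left_cancel₀ (fun h0 : rename Sum.inl q = (0 : B k m) => hq.ne_zero
      (rename_injective _ Sum.inl_injective (h0.trans (map_zero _).symm))) ?_
    linear_combination this
  let ι : S k m → B k m := fun f => rename Sum.inl f
  have hιu : ι u ≠ 0 := fun h0 => hu (rename_injective _ Sum.inl_injective (h0.trans (map_zero _).symm))
  obtain ⟨g, hg⟩ : ι u ∣ G a₀ := by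
    refine dvd_of_dvd_mul_all (fun b => ι (U b)) hιu (fun q hq hqu => ?_) _ fun b => ⟨G b, by
      rw [← hU b]; exact mul_comm _ _⟩
    by_contra! hall
    obtain ⟨t, ht⟩ := hqu
    have ht0 : t ≠ 0 := fun h0 => hιu (by rw [ht, h0, mul_zero])
    obtain ⟨q₀, hq₀⟩ := exists_rename q fun i => by
      refine pderiv_eq_zero_of_notMem_vars fun hmem => ?_
      have h1 : 0 < degreeOf (Sum.inr i) q := by
        obtain ⟨e, he, hei⟩ := (mem_vars _).1 hmem
        exact lt_of_lt_of_le (Nat.pos_of_ne_zero (Finsupp.mem_support_iff.1 hei)) (monomial_le_degreeOf _ he)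
      have h2 : degreeOf (Sum.inr i) (ι u) = 0 := by
        by_contra hne
        obtain ⟨e, he, hei⟩ : ∃ e ∈ (ι u).support, e (Sum.inr i) ≠ 0 := by
          by_contra! h3
          exact hne (Nat.le_zero.1 (degreeOf_le_iff.2 fun e he => (h3 e he).le))
        have := MvPolynomial.vars_rename _ u ((mem_vars _).2 ⟨e, he, Finsupp.mem_support_iff.2 hei⟩)
        simp at this
      rw [ht, degreeOf_mul_eq hq.ne_zero ht0] at h2
      omega
    let r : B k m →ₐ[k] S k m := aeval (Sum.elim X fun _ => 0)
    have hr : ∀ f : S k m, r (ι f) = f := fun f => by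
      simp only [r, ι, aeval_rename]
      exact MvPolynomial.aeval_X_left_apply f
    have hdvd : ∀ b, q₀ ∣ U b := fun b => by
      obtain ⟨t', ht'⟩ := hall b
      exact ⟨r t', by rw [← hr (U b), ht', map_mul, ← hq₀, hr]⟩
    refine hprim q₀ ?_ hdvd
    refine ⟨fun h0 => hq.ne_zero (by rw [← hq₀, h0, map_zero]), fun hu' => hq.not_unit (hq₀ ▸ hu'.map _), fun a b hab => ?_⟩
    have : q ∣ ι a * ι b := by
      obtain ⟨t', ht'⟩ := hab
      exact ⟨ι t', by rw [← hq₀, ← map_mul, ← map_mul, ht']⟩
    rcases hq.dvd_or_dvd this with ⟨t', ht'⟩ | ⟨t', ht'⟩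
    · exact Or.inl ⟨r t', by rw [← hr a, ht', map_mul, ← hq₀, hr]⟩
    · exact Or.inr ⟨r t', by rw [← hr b, ht', map_mul, ← hq₀, hr]⟩
  have hsg : ∀ b, X (Sum.inl 1) ^ D * s b = psi g * phi (U b) := fun b => by
    rw [← hG, ← psi_rename, ← map_mul]
    refine congrArg psi (mul_left_cancel₀ hιu ?_)
    have := hU b
    rw [hg] at this
    linear_combination this
  have hp : Prime (X (Sum.inl 1) : A k m) := MvPolynomial.X_prime
  obtain ⟨b₁, hb₁⟩ : ∃ b, ¬ (X (Sum.inl 1) : A k m) ∣ phi (U b) := by
    by_contra! hall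
    refine hprim (X 1) (MvPolynomial.X_prime) fun b => ?_
    obtain ⟨t, ht⟩ := hall b
    let r₁ : S k m →ₐ[k] S k m := aeval fun l => if l = 1 then 0 else X l
    have h0 : r₁ (U b) * X 0 = 0 := MvPolynomial.funext fun y => by
      rw [map_mul, map_zero, eval_X]
      by_cases hy : y 0 = 0
      · rw [hy, mul_zero]
      refine mul_eq_zero.2 (Or.inl ?_)
      let x : Va m → k := Sum.elim ![y 0, 0] (Sum.elim (fun i => y i.succ.succ / y 0) fun _ => 0)
      have h1 := congrArg (eval x) ht
      rw [map_mul, eval_X, show x (Sum.inl 1) = 0 from rfl, zero_mul] at h1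
      rw [← h1, phi, ← aeval_eq_eval, ← aeval_eq_eval]
      simp only [r₁, ← AlgHom.comp_apply, comp_aeval]
      congr 2
      funext l
      refine Fin.cases (by simp [x, yImg]) (fun l => Fin.cases (by simp [x, yImg]) (fun i => ?_) l) l
      rw [if_neg (by simp [Fin.ext_iff])]
      simp [x, yImg, div_mul_cancel₀ _ hy]
    have h2 : r₁ (U b) = 0 := (mul_eq_zero.1 h0).resolve_right (X_ne_zero _)
    have h3 : ∀ f : S k m, X 1 ∣ f - r₁ f := fun f => by
      induction f using MvPolynomial.induction_on with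
      | C a => simp [r₁]
      | add p q hp hq => rw [map_add, add_sub_add_comm]; exact dvd_add hp hq
      | mul_X p l hp =>
        rw [map_mul, show r₁ (X l) = if l = 1 then 0 else X l from aeval_X _ _]
        split_ifs with hl
        · rw [mul_zero, sub_zero, hl]; exact dvd_mul_left _ _
        · rw [← sub_mul]; exact hp.mul_right _
    have := h3 (U b)
    rwa [h2, sub_zero] at this
  obtain ⟨h, hh⟩ : (X (Sum.inl 1) : A k m) ^ D ∣ psi g := hp.pow_dvd_of_dvd_mul_right D hb₁ ⟨s b₁, (hsg b₁).symm⟩
  refine ⟨h, U, fun h0 => ?_, fun b => mul_left_cancel₀ (pow_ne_zero D hx1) ?_⟩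
  · refine mul_ne_zero (pow_ne_zero D hx1) ha₀ ?_
    rw [hsg, hh, h0, mul_zero, zero_mul]
  · rw [hsg, hh, mul_assoc]

/-- A family of kernel vectors, proportional along the vector fields, gives a global one. -/
theorem exists_kernel_of_family [CharZero k] {N R d g : ℕ} (Ψ : Fin R → Fin N → S k m) (hΨ : ∀ r b, (Ψ r b).IsHomogeneous g)
    (s : Fin N → A k m) (hs0 : s ≠ 0) (hsd : ∀ b, IsWeightedHomogeneous wA (s b) d)
    (hsk : ∀ r, ∑ b, phi (Ψ r b) * s b = 0) (hV : ∀ i a b, s a * vf i (s b) = s b * vf i (s a)) :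
    ∃ T : Fin N → S k m, T ≠ 0 ∧ (∀ b, (T b).IsHomogeneous d) ∧ ∀ r, ∑ b, Ψ r b * T b = 0 := by
  classical
  obtain ⟨h, U, hh0, hU⟩ := descend s hs0 hV hsd
  have hUk : ∀ r, ∑ b, Ψ r b * U b = 0 := fun r => phi_injective (by
    rw [map_zero, map_sum]
    refine (mul_eq_zero.1 (?_ : h * ∑ b, phi (Ψ r b * U b) = 0)).resolve_left hh0
    rw [Finset.mul_sum, ← hsk r]
    exact Finset.sum_congr rfl fun b _ => by rw [hU, map_mul]; ring)
  let L := lamA h
  have hL : L ≠ 0 := fun h0 => hh0 (lamA_injective (h0.trans (map_zero _).symm))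
  let j := L.natTrailingDegree
  have hex : ∃ i, ∃ b, (lamS (U b)).coeff i ≠ 0 := by
    obtain ⟨b, hb⟩ := Function.ne_iff.1 hs0
    have : lamS (U b) ≠ 0 := fun h0 => hb (by
      rw [hU, Pi.zero_apply]
      refine lamA_injective ?_
      rw [map_mul, lamA_phi, h0, Polynomial.map_zero, mul_zero, map_zero])
    exact ⟨_, b, (Polynomial.trailingCoeff_nonzero_iff_nonzero.2 this)⟩
  let i := Nat.find hex
  obtain ⟨b₀, hb₀⟩ := Nat.find_spec hex
  have hij : j + i = d := by
    have hne : phi ((lamS (U b₀)).coeff i) ≠ 0 := fun h0 => hb₀ (phi_injective (h0.trans (map_zero _).symm))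
    have hlt : ∀ l < i, (lamS (U b₀)).coeff l = 0 := fun l hl => not_not.1 fun hne => Nat.find_min hex hl ⟨b₀, hne⟩
    let P := (lamS (U b₀)).map (phi : S k m →ₐ[k] A k m).toRingHom
    have hP : P ≠ 0 := fun h0 => hne (by
      have := congrArg (Polynomial.coeff · i) h0
      simpa [P] using this)
    have hPi : P.natTrailingDegree = i := by
      refine le_antisymm (Polynomial.natTrailingDegree_le_of_ne_zero (by simpa [P] using hne))
        (Polynomial.le_natTrailingDegree hP fun l hl => ?_)
      simp [P, hlt l hl]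
    have e : L * P = Polynomial.C (s b₀) * Polynomial.X ^ d := by
      rw [← lamA_homogeneous (hsd b₀), hU, map_mul, lamA_phi]
    have h3 := Polynomial.natTrailingDegree_mul hL hP
    rw [e, hPi] at h3
    have hs : s b₀ ≠ 0 := fun h0 => mul_ne_zero hL hP (by rw [e, h0, map_zero, zero_mul])
    rw [Polynomial.natTrailingDegree_mul_X_pow (Polynomial.C_ne_zero.2 hs), Polynomial.natTrailingDegree_C, zero_add] at h3
    omega
  refine ⟨fun b => X 1 ^ j * (lamS (U b)).coeff i, fun h0 => hb₀ ?_, fun b => ?_, fun r => ?_⟩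
  · exact (mul_eq_zero.1 (congrFun h0 b₀)).resolve_left (pow_ne_zero _ (X_ne_zero _))
  · rw [← hij]
    exact (isHomogeneous_X_pow _ _).mul (isHomogeneous_coeff_lamS _ _)
  · have h3 := congrArg (fun f => (lamS f).coeff (i + g)) (hUk r)
    simp only [map_sum, map_mul, map_zero, Polynomial.finsetSum_coeff, Polynomial.coeff_zero,
      lamS_homogeneous (hΨ r _), mul_assoc, Polynomial.coeff_C_mul, mul_comm (Polynomial.X ^ g),
      Polynomial.coeff_mul_X_pow] at h3
    calc ∑ b, Ψ r b * (X 1 ^ j * (lamS (U b)).coeff i) = X 1 ^ j * ∑ b, Ψ r b * (lamS (U b)).coeff i := by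
          rw [Finset.mul_sum]; exact Finset.sum_congr rfl fun b _ => by ring
      _ = 0 := by rw [h3, mul_zero]

/-- The descent of kernel vectors. -/
theorem exists_kernel [CharZero k] {N R d g : ℕ} (Ψ : Fin R → Fin N → S k m) (hΨ : ∀ r b, (Ψ r b).IsHomogeneous g)
    (h1 : ∀ z, ∃ v : Fin N → Ln k, v ≠ 0 ∧ (∀ b, (v b).IsHomogeneous d) ∧ ∀ r, ∑ b, line z (Ψ r b) * v b = 0)
    (h2 : ∀ z (v w : Fin N → Ln k), (∀ b, (v b).IsHomogeneous d) → (∀ b, (w b).IsHomogeneous (d + 1)) →
      (∀ r, ∑ b, line z (Ψ r b) * v b = 0) → (∀ r, ∑ b, line z (Ψ r b) * w b = 0) → ∀ a b, v a * w b = v b * w a) :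
    ∃ T : Fin N → S k m, T ≠ 0 ∧ (∀ b, (T b).IsHomogeneous d) ∧ ∀ r, ∑ b, Ψ r b * T b = 0 := by
  classical
  obtain ⟨s, hs0, hsd, hsk⟩ := exists_family Ψ h1
  have hV : ∀ i a b, s a * vf i (s b) = s b * vf i (s a) := fun i a b => by
    rw [← sub_eq_zero]
    refine eq_zero_of_spec fun z => ?_
    rw [map_sub, map_mul, map_mul, sub_eq_zero]
    refine h2 z (fun c => spec z (s c)) (fun c => spec z (vf i (s c))) (fun c => spec_homogeneous z (hsd c))
      (fun c => spec_homogeneous z (weighted_vf i (hsd c))) (fun r => ?_) (fun r => ?_) a b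
    · have := congrArg (spec z) (hsk r)
      simpa [line] using this
    · have := congrArg (fun f => spec z (vf i f)) (hsk r)
      simp only [map_sum, map_zero, Derivation.leibniz, vf_phi, smul_zero, add_zero, smul_eq_mul, map_mul] at this
      simpa [line] using this
  exact exists_kernel_of_family Ψ hΨ s hs0 hsd hsk hV

end Groth.Agent.RankTwo11.GMAlg
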