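import Groth.Agent.Lib.RankTwo11.GMAlg
import Mathlib.LinearAlgebra.Matrix.NonsingularInverse
import Mathlib.LinearAlgebra.Matrix.Nondegenerate
import Mathlib.Data.Fin.Tuple.Basic

/-!
# Kernel vectors on hyperplanes descend
-/

set_option autoImplicit false
set_option linter.unusedSectionVars false
set_option maxHeartbeats 1000000

universe u

open MvPolynomial

noncomputable section

namespace Groth.Agent.RankTwo11.GMAlg

variable {k : Type u} [Field k] {m : ℕ}

theorem spec_rename_inr (z : Fin m ⊕ Fin m → k) (f : MvPolynomial (Fin m ⊕ Fin m) k) :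
    spec z (rename Sum.inr f) = C (eval z f) := by
  rw [spec, aeval_rename]
  induction f using MvPolynomial.induction_on with
  | C x => simp
  | add p q hp hq => rw [map_add, hp, hq, map_add, map_add]
  | mul_X p v hp => rw [map_mul, hp, map_mul, map_mul]; simp

/-- The monomials of degree `d` on a line. -/
def mon (d : ℕ) (a : Fin (d + 1)) : Ln k :=
  monomial (Finsupp.single 0 (a : ℕ) + Finsupp.single 1 (d - a) : Fin 2 →₀ ℕ) 1

theorem isHomogeneous_mon (d : ℕ) (a : Fin (d + 1)) : (mon d a : Ln k).IsHomogeneous d := by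
  refine isHomogeneous_monomial _ ?_
  rw [Finsupp.degree_eq_sum, Fin.sum_univ_two]
  simp
  have := a.isLt
  omega

/-- A vector from its coefficients. -/
def vecC {N d : ℕ} (c : Fin N × Fin (d + 1) → k) (b : Fin N) : Ln k := ∑ a, C (c (b, a)) * mon d a

theorem vecC_coeff {N d : ℕ} (v : Fin N → Ln k) (hv : ∀ b, (v b).IsHomogeneous d) :
    v = vecC fun ba : Fin N × Fin (d + 1) =>
      (v ba.1).coeff (Finsupp.single 0 (ba.2 : ℕ) + Finsupp.single 1 (d - ba.2) : Fin 2 →₀ ℕ) := by
  funext b
  ext e
  simp only [vecC, mon, coeff_sum, C_mul_monomial, mul_one, coeff_monomial]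
  by_cases he : e 0 + e 1 = d
  · rw [Finset.sum_eq_single ⟨e 0, by omega⟩]
    · have : (Finsupp.single 0 (e 0) + Finsupp.single 1 (d - e 0) : Fin 2 →₀ ℕ) = e := by
        ext j; fin_cases j <;> simp <;> omega
      rw [if_pos this]
      exact congrArg (fun t => coeff t (v b)) this.symm
    · intro a _ ha
      rw [if_neg]
      intro hea
      exact ha (Fin.ext (by simpa using DFunLike.congr_fun hea 0))
    · exact fun h => absurd (Finset.mem_univ _) h
  · rw [show (v b).coeff e = 0 from (hv b).coeff_eq_zero (by rw [Finsupp.degree_eq_sum, Fin.sum_univ_two]; exact he),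
      Finset.sum_eq_zero]
    intro a _
    rw [if_neg]
    intro hea
    apply he
    rw [← hea]
    simp
    omega

theorem vecC_add {N d : ℕ} (c c' : Fin N × Fin (d + 1) → k) : vecC (c + c') = vecC c + vecC c' :=
  funext fun b => by simp [vecC, add_mul, Finset.sum_add_distrib]

theorem vecC_smul {N d : ℕ} (x : k) (c : Fin N × Fin (d + 1) → k) : vecC (x • c) = fun b => C x * vecC c b :=
  funext fun b => by simp [vecC, Finset.mul_sum, mul_assoc]

theorem vecC_injective {N d : ℕ} : Function.Injective (vecC : (Fin N × Fin (d + 1) → k) → Fin N → Ln k) := by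
  intro c c' h
  funext ⟨b, a⟩
  have h1 := congrArg (coeff (Finsupp.single 0 (a : ℕ) + Finsupp.single 1 (d - a) : Fin 2 →₀ ℕ)) (congrFun h b)
  simp only [vecC, mon, coeff_sum, C_mul_monomial, mul_one, coeff_monomial] at h1
  rwa [Finset.sum_eq_single a (fun a' _ ha => if_neg fun hea => ha (Fin.ext (by simpa using DFunLike.congr_fun hea 0)))
      (fun h => absurd (Finset.mem_univ _) h),
    Finset.sum_eq_single a (fun a' _ ha => if_neg fun hea => ha (Fin.ext (by simpa using DFunLike.congr_fun hea 0)))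
      (fun h => absurd (Finset.mem_univ _) h), if_pos rfl, if_pos rfl] at h1

/-- The linear system for kernel vectors on a line. -/
theorem exists_system {N R : ℕ} (d : ℕ) (Ψ : Fin R → Fin N → S k m) :
    ∃ (T : Finset (Fin 2 →₀ ℕ)) (M : Matrix (Fin R × T) (Fin N × Fin (d + 1)) (MvPolynomial (Fin m ⊕ Fin m) k)),
      ∀ z c, (M.map (eval z)).mulVec c = 0 ↔ ∀ r, ∑ b, line z (Ψ r b) * vecC c b = 0 := by
  classical
  let toP : A k m ≃ₐ[k] MvPolynomial (Fin 2) (MvPolynomial (Fin m ⊕ Fin m) k) := sumAlgEquiv k (Fin 2) (Fin m ⊕ Fin m)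
  have hP : ∀ z (f : A k m), MvPolynomial.map (eval z) (toP f) = spec z f := fun z f => by
    induction f using MvPolynomial.induction_on with
    | C a => rw [sumAlgEquiv_C_inl, map_C, eval_C, spec, aeval_C]; rfl
    | add p q hp hq => rw [map_add, map_add, hp, hq, map_add]
    | mul_X p v hp =>
      rw [map_mul, map_mul, hp, map_mul]
      congr 1
      rcases v with j | v
      · rw [sumAlgEquiv_X_inl, map_X]; simp [spec]
      · rw [sumAlgEquiv_X_inr, map_C, eval_X]; simp [spec]
  let Ent : Fin R → Fin N × Fin (d + 1) → MvPolynomial (Fin 2) (MvPolynomial (Fin m ⊕ Fin m) k) :=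
    fun r ba => toP (phi (Ψ r ba.1) * rename Sum.inl (mon d ba.2))
  let T : Finset (Fin 2 →₀ ℕ) := Finset.univ.biUnion fun r => Finset.univ.biUnion fun ba => (Ent r ba).support
  refine ⟨T, fun re ba => (Ent re.1 ba).coeff re.2.1, fun z c => ?_⟩
  have key : ∀ r e, coeff e (∑ b, line z (Ψ r b) * vecC c b) = ∑ ba, eval z ((Ent r ba).coeff e) * c ba := fun r e => by
    rw [coeff_sum, Fintype.sum_prod_type]
    refine Finset.sum_congr rfl fun b _ => ?_
    rw [vecC, Finset.mul_sum, coeff_sum]
    refine Finset.sum_congr rfl fun a _ => ?_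
    rw [mul_left_comm, coeff_C_mul, ← coeff_map, hP, map_mul, show spec z (rename Sum.inl (mon d a)) = mon d a by
      rw [spec, aeval_rename]; exact MvPolynomial.aeval_X_left_apply _, mul_comm]
    rfl
  constructor
  · intro h r
    ext e
    rw [coeff_zero, key]
    by_cases he : e ∈ T
    · exact congrFun h (r, ⟨e, he⟩)
    · refine Finset.sum_eq_zero fun ba _ => ?_
      rw [show (Ent r ba).coeff e = 0 from not_not.1 fun hne => he (Finset.mem_biUnion.2
        ⟨r, Finset.mem_univ _, Finset.mem_biUnion.2 ⟨ba, Finset.mem_univ _, MvPolynomial.mem_support_iff.2 hne⟩⟩),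
        map_zero, zero_mul]
  · intro h
    funext re
    show ∑ ba, eval z ((Ent re.1 ba).coeff re.2.1) * c ba = 0
    rw [← key, h, coeff_zero]

/-- Uniqueness on one line is uniqueness on an open set of lines. -/
theorem exists_delta {N R d : ℕ} (Ψ : Fin R → Fin N → S k m) (z₀ : Fin m ⊕ Fin m → k) (v₀ : Fin N → Ln k)
    (h : ∀ v : Fin N → Ln k, (∀ b, (v b).IsHomogeneous d) → (∀ r, ∑ b, line z₀ (Ψ r b) * v b = 0) →
      ∃ x : k, ∀ b, v b = C x * v₀ b) :
    ∃ δ : MvPolynomial (Fin m ⊕ Fin m) k, eval z₀ δ ≠ 0 ∧ ∀ z, eval z δ ≠ 0 → ∀ v w : Fin N → Ln k,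
      (∀ b, (v b).IsHomogeneous d) → (∀ b, (w b).IsHomogeneous d) →
      (∀ r, ∑ b, line z (Ψ r b) * v b = 0) → (∀ r, ∑ b, line z (Ψ r b) * w b = 0) → ∀ a b, v a * w b = v b * w a := by
  classical
  obtain ⟨T, M, hM⟩ := exists_system d Ψ
  let e2 : Fin N × Fin (d + 1) → (Fin 2 →₀ ℕ) := fun ba => Finsupp.single 0 (ba.2 : ℕ) + Finsupp.single 1 (d - ba.2)
  let c₀ : Fin N × Fin (d + 1) → k := fun ba => (v₀ ba.1).coeff (e2 ba)
  have hker : ∀ c, (M.map (eval z₀)).mulVec c = 0 → ∃ x : k, c = x • c₀ := fun c hc => by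
    obtain ⟨x, hx⟩ := h (vecC c) (fun b => IsHomogeneous.sum _ _ _ fun a _ => (isHomogeneous_mon d a).C_mul _)
      ((hM z₀ c).1 hc)
    refine ⟨x, funext fun ba => ?_⟩
    have h1 := congrArg (coeff (e2 ba)) (hx ba.1)
    rw [coeff_C_mul] at h1
    refine Eq.trans ?_ h1
    have h2 := vecC_injective (vecC_coeff (vecC c) fun b => IsHomogeneous.sum _ _ _ fun a _ => (isHomogeneous_mon d a).C_mul _)
    exact congrFun h2 ba
  obtain ⟨p, hp⟩ : ∃ p : Option (Fin N × Fin (d + 1)), ∀ x : k, (∀ q ∈ p, (x • c₀) q = 0) → x • c₀ = 0 := by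
    by_cases hc : c₀ = 0
    · exact ⟨none, fun x _ => by rw [hc, smul_zero]⟩
    · obtain ⟨q, hq⟩ := Function.ne_iff.1 hc
      exact ⟨some q, fun x hx => by rw [(mul_eq_zero.1 (hx q rfl)).resolve_right hq, zero_smul]⟩
  let M' : Matrix ((Fin R × T) ⊕ Unit) (Fin N × Fin (d + 1)) (MvPolynomial (Fin m ⊕ Fin m) k) := fun x ba =>
    Sum.elim (fun re => M re ba) (fun _ => if p = some ba then 1 else 0) x
  have hM' : ∀ z c, (M'.map (eval z)).mulVec c = 0 →
      (M.map (eval z)).mulVec c = 0 ∧ ∀ q ∈ p, c q = 0 := fun z c hc => by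
    refine ⟨funext fun re => congrFun hc (Sum.inl re), fun q hq => ?_⟩
    have h1 : ∑ ba, eval z (if p = some ba then (1 : MvPolynomial (Fin m ⊕ Fin m) k) else 0) * c ba = 0 :=
      congrFun hc (Sum.inr ())
    rw [Finset.sum_eq_single q (fun ba _ hne => by
      rw [if_neg (fun he => hne (Option.some_injective _ (he.symm.trans hq))), map_zero, zero_mul])
      (fun hx => absurd (Finset.mem_univ _) hx), if_pos (show p = some q from hq), map_one, one_mul] at h1
    exact h1
  have hinj : Function.Injective (Matrix.mulVecLin (M'.map (eval z₀))) := by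
    refine (injective_iff_map_eq_zero _).2 fun c hc => ?_
    obtain ⟨h1, h2⟩ := hM' z₀ c hc
    obtain ⟨x, rfl⟩ := hker c h1
    exact hp x h2
  obtain ⟨g, hg⟩ := LinearMap.exists_leftInverse_of_injective _ (LinearMap.ker_eq_bot.2 hinj)
  let N₀ := LinearMap.toMatrix' g
  have hN : N₀ * M'.map (eval z₀) = 1 := by
    rw [show N₀ * M'.map (eval z₀) = LinearMap.toMatrix' g * LinearMap.toMatrix' (Matrix.mulVecLin (M'.map (eval z₀))) from
      congrArg (N₀ * ·) (LinearMap.toMatrix'_toLin' _).symm, ← LinearMap.toMatrix'_comp, hg, LinearMap.toMatrix'_id]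
  have hmap : ∀ z, (eval z) (N₀.map C * M').det = (N₀ * M'.map (eval z)).det := fun z => by
    rw [RingHom.map_det, RingHom.mapMatrix_apply, Matrix.map_mul]
    congr 2
    ext a b
    simp
  refine ⟨(N₀.map C * M').det, ?_, fun z hz v w hv hw hkv hkw a b => ?_⟩
  · rw [hmap, hN, Matrix.det_one]
    exact one_ne_zero
  rw [hmap] at hz
  have hinj' : ∀ c, (M'.map (eval z)).mulVec c = 0 → c = 0 := fun c hc => by
    refine Matrix.eq_zero_of_mulVec_eq_zero hz ?_
    rw [← Matrix.mulVec_mulVec, hc, Matrix.mulVec_zero]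
  obtain ⟨cv, rfl⟩ : ∃ c, v = vecC c := ⟨_, vecC_coeff v hv⟩
  obtain ⟨cw, rfl⟩ : ∃ c, w = vecC c := ⟨_, vecC_coeff w hw⟩
  rcases p with _ | q
  · have : cv = 0 := hinj' cv (funext fun x => by
      rcases x with re | u
      · exact congrFun ((hM z cv).2 hkv) re
      · show ∑ ba, eval z (if none = some ba then (1 : MvPolynomial (Fin m ⊕ Fin m) k) else 0) * cv ba = 0
        simp)
    subst this
    simp [vecC]
  · have hx : cw q • cv = cv q • cw := by
      refine sub_eq_zero.1 (hinj' _ (funext fun x => ?_))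
      rcases x with re | u
      · have h1 := congrFun ((hM z cv).2 hkv) re
        have h2 := congrFun ((hM z cw).2 hkw) re
        show (M.map (eval z)).mulVec (cw q • cv - cv q • cw) re = 0
        rw [Matrix.mulVec_sub, Matrix.mulVec_smul, Matrix.mulVec_smul]
        simp [h1, h2]
      · show ∑ ba, eval z (if some q = some ba then (1 : MvPolynomial (Fin m ⊕ Fin m) k) else 0) *
            (cw q • cv - cv q • cw) ba = 0
        simp [mul_comm]
    have h3 : ∀ b, C (cw q) * vecC cv b = C (cv q) * vecC cw b := fun b => by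
      have := congrArg (fun c => vecC c b) hx
      simpa only [vecC_smul] using this
    by_cases hv0 : cv q = 0
    · by_cases hw0 : cw q = 0
      · have : cv = 0 := hinj' cv (funext fun x => by
          rcases x with re | u
          · exact congrFun ((hM z cv).2 hkv) re
          · show ∑ ba, eval z (if some q = some ba then (1 : MvPolynomial (Fin m ⊕ Fin m) k) else 0) * cv ba = 0
            simp [hv0])
        subst this
        simp [vecC]
      · have : ∀ b, vecC cv b = 0 := fun b => by
          have := h3 b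
          rw [hv0, map_zero, zero_mul, mul_eq_zero] at this
          exact this.resolve_left (by simpa using hw0)
        simp [this]
    · refine mul_left_cancel₀ (show C (cv q) ≠ (0 : Ln k) by simpa using hv0) ?_
      linear_combination vecC cv b * h3 a - vecC cv a * h3 b

/-- Cutting by a hyperplane through the fixed line. -/
def cutImg (j : Fin (m + 1)) (p q : k) : Fin (m + 1 + 2) → S k m :=
  Fin.cons (X 0) (Fin.cons (X 1) (j.insertNth (C p * X 0 + C q * X 1) fun i => X i.succ.succ))

/-- Cutting, on forms. -/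
def cut (j : Fin (m + 1)) (p q : k) : S k (m + 1) →ₐ[k] S k m := aeval (cutImg j p q)

/-- Cutting, on the family. -/
def cutA (j : Fin (m + 1)) (p q : k) : A k (m + 1) →ₐ[k] A k m :=
  aeval (Sum.elim (fun a => X (Sum.inl a))
    (Sum.elim (j.insertNth (C p) fun i => X (Sum.inr (Sum.inl i))) (j.insertNth (C q) fun i => X (Sum.inr (Sum.inr i)))))

/-- Parameters of a line in the cut. -/
def extPar (j : Fin (m + 1)) (p q : k) (z : Fin m ⊕ Fin m → k) : Fin (m + 1) ⊕ Fin (m + 1) → k :=
  Sum.elim (j.insertNth p fun i => z (Sum.inl i)) (j.insertNth q fun i => z (Sum.inr i))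

theorem cutA_phi (j : Fin (m + 1)) (p q : k) (U : S k (m + 1)) : cutA j p q (phi U) = phi (cut j p q U) := by
  have h : (cutA j p q).comp (phi : S k (m + 1) →ₐ[k] A k (m + 1)) = (phi : S k m →ₐ[k] A k m).comp (cut j p q) := by
    refine MvPolynomial.algHom_ext fun l => ?_
    refine Fin.cases (by simp [cutA, cut, cutImg, phi, yImg]) (fun l => Fin.cases (by simp [cutA, cut, cutImg, phi, yImg])
      (fun i => ?_) l) l
    simp only [cutA, cut, cutImg, phi, yImg, AlgHom.comp_apply, aeval_X, Fin.cons_succ, map_add, map_mul, Sum.elim_inl,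
      Sum.elim_inr]
    induction i using Fin.succAboveCases j with
    | x => simp [Fin.insertNth_apply_same]
    | p i' => simp [Fin.insertNth_apply_succAbove]
  exact AlgHom.congr_fun h U

theorem spec_cutA (j : Fin (m + 1)) (p q : k) (z : Fin m ⊕ Fin m → k) (f : A k (m + 1)) :
    spec z (cutA j p q f) = spec (extPar j p q z) f := by
  have h : (spec z).comp (cutA j p q) = spec (extPar j p q z) := by
    refine MvPolynomial.algHom_ext fun v => ?_
    rcases v with a | i | i
    · simp [spec, cutA]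
    all_goals
      simp only [spec, cutA, extPar, AlgHom.comp_apply, aeval_X, Sum.elim_inr, Sum.elim_inl]
      induction i using Fin.succAboveCases j with
      | x => simp [Fin.insertNth_apply_same]
      | p i' => simp [Fin.insertNth_apply_succAbove]
  exact AlgHom.congr_fun h f

theorem cutA_vf (j : Fin (m + 1)) (p q : k) (i : Fin m) (f : A k (m + 1)) :
    cutA j p q (vf (j.succAbove i) f) = vf i (cutA j p q f) := by
  induction f using MvPolynomial.induction_on with
  | C a => simp [vf_apply, cutA]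
  | add g h hg hh => rw [map_add, map_add, hg, hh, map_add, map_add]
  | mul_X g v hg =>
    rw [Derivation.leibniz, map_mul, Derivation.leibniz, map_add, smul_eq_mul, smul_eq_mul, map_mul, map_mul, hg,
      smul_eq_mul, smul_eq_mul]
    congr 2
    rcases v with a | l | l
    · simp [cutA, vf_apply, Pi.single_apply]
    all_goals
      induction l using Fin.succAboveCases j with
      | x => simp [cutA, vf_apply, Pi.single_apply, Fin.succAbove_ne, Fin.ne_succAbove, Fin.insertNth_apply_same]
      | p i' =>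
        simp only [cutA, vf_apply, aeval_X, Sum.elim_inr, Sum.elim_inl, Fin.insertNth_apply_succAbove, pderiv_X,
          Pi.single_apply, Sum.inr.injEq, Sum.inl.injEq, reduceCtorEq, if_false, Fin.succAbove_right_inj]
        split_ifs <;> simp

theorem spec_phi_homogeneous (z : Fin m ⊕ Fin m → k) {U : S k m} {d : ℕ} (h : U.IsHomogeneous d) :
    (spec z (phi U)).IsHomogeneous d := by
  have h1 : (spec z).comp (phi : S k m →ₐ[k] A k m) = aeval fun l => spec z (yImg l) :=
    MvPolynomial.algHom_ext fun l => by simp [phi]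
  rw [show spec z (phi U) = _ from AlgHom.congr_fun h1 U]
  have h2 := h.aeval (fun l => spec z (yImg l)) fun l => spec_homogeneous z (weighted_yImg (k := k) l)
  rwa [one_mul] at h2

/-- Kernel vectors on all hyperplanes through lines, unique on one line, descend. -/
theorem exists_kernel_odd [CharZero k] {N R d g : ℕ} (hm : 1 ≤ m) (Ψ : Fin R → Fin N → S k (m + 1))
    (hΨ : ∀ r b, (Ψ r b).IsHomogeneous g)
    (h1 : ∀ z, ∃ v : Fin N → Ln k, v ≠ 0 ∧ (∀ b, (v b).IsHomogeneous d) ∧ ∀ r, ∑ b, line z (Ψ r b) * v b = 0)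
    (hgood : ∃ (z₀ : Fin (m + 1) ⊕ Fin (m + 1) → k) (v₀ : Fin N → Ln k), ∀ v : Fin N → Ln k, (∀ b, (v b).IsHomogeneous d) →
      (∀ r, ∑ b, line z₀ (Ψ r b) * v b = 0) → ∃ x : k, ∀ b, v b = C x * v₀ b)
    (hcut : ∀ (j : Fin (m + 1)) (p q : k), ∃ T : Fin N → S k m, T ≠ 0 ∧ (∀ b, (T b).IsHomogeneous d) ∧
      ∀ r, ∑ b, cut j p q (Ψ r b) * T b = 0) :
    ∃ T : Fin N → S k (m + 1), T ≠ 0 ∧ (∀ b, (T b).IsHomogeneous d) ∧ ∀ r, ∑ b, Ψ r b * T b = 0 := by
  classical
  obtain ⟨s, hs0, hsd, hsk⟩ := exists_family Ψ h1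
  obtain ⟨z₀, v₀, hv₀⟩ := hgood
  obtain ⟨δ, hδ0, hδ⟩ := exists_delta Ψ z₀ v₀ hv₀
  let δA : A k (m + 1) := rename Sum.inr δ
  have hδA : δA ≠ 0 := fun h0 => hδ0 (by
    have := congrArg (spec z₀) h0
    rw [map_zero, spec_rename_inr] at this
    simpa using this)
  refine exists_kernel_of_family Ψ hΨ s hs0 hsd hsk fun i a b => ?_
  rw [← sub_eq_zero]
  refine (mul_eq_zero.1 (eq_zero_of_spec fun z => ?_ : δA * (s a * vf i (s b) - s b * vf i (s a)) = 0)).resolve_left hδA
  rw [map_mul, spec_rename_inr, map_sub, map_mul, map_mul]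
  by_cases hz : eval z δ = 0
  · rw [hz, map_zero, zero_mul]
  refine mul_eq_zero.2 (Or.inr (sub_eq_zero.2 ?_))
  haveI : Nontrivial (Fin (m + 1)) := Fin.nontrivial_iff_two_le.2 (by omega)
  obtain ⟨j, hj⟩ := exists_ne i
  obtain ⟨i', rfl⟩ := Fin.exists_succAbove_eq hj.symm
  let p := z (Sum.inl j)
  let q := z (Sum.inr j)
  let z' : Fin m ⊕ Fin m → k := fun v => z (Sum.map j.succAbove j.succAbove v)
  have hz' : extPar j p q z' = z := by
    funext v
    rcases v with l | l <;> induction l using Fin.succAboveCases j with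
    | x => simp [extPar, p, q]
    | p l' => simp [extPar, z']
  obtain ⟨T, hT0, hTd, hTk⟩ := hcut j p q
  let δ' : A k m := cutA j p q δA
  have hδ' : δ' ≠ 0 := fun h0 => hz (by
    have := congrArg (spec z') h0
    rw [map_zero, spec_cutA, hz', spec_rename_inr] at this
    simpa using this)
  let s' := fun c => cutA j p q (s c)
  let t := fun c => (phi (T c) : A k m)
  have hcross : ∀ a b, s' a * t b = s' b * t a := fun a b => by
    rw [← sub_eq_zero]
    refine (mul_eq_zero.1 (eq_zero_of_spec fun w => ?_ : δ' * (s' a * t b - s' b * t a) = 0)).resolve_left hδ'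
    rw [map_mul, spec_cutA, spec_rename_inr, map_sub, map_mul, map_mul]
    by_cases hw : eval (extPar j p q w) δ = 0
    · rw [hw, map_zero, zero_mul]
    refine mul_eq_zero.2 (Or.inr (sub_eq_zero.2 ?_))
    refine hδ (extPar j p q w) hw (fun c => spec w (s' c)) (fun c => spec w (t c)) (fun c => ?_)
      (fun c => spec_phi_homogeneous w (hTd c)) (fun r => ?_) (fun r => ?_) a b
    · show (spec w (cutA j p q (s c))).IsHomogeneous d
      rw [spec_cutA]
      exact spec_homogeneous _ (hsd c)
    · have := congrArg (spec (extPar j p q w)) (hsk r)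
      simp only [s', spec_cutA]
      simpa [line] using this
    · have := congrArg (fun f => spec w (phi f)) (hTk r)
      simp only [map_sum, map_mul, map_zero] at this
      refine Eq.trans (Finset.sum_congr rfl fun c _ => ?_) this
      rw [line, AlgHom.comp_apply, ← spec_cutA, cutA_phi]
  obtain ⟨c, hc⟩ := Function.ne_iff.1 hT0
  have htc : t c ≠ 0 := fun h0 => hc (phi_injective (h0.trans (map_zero _).symm))
  have hd : ∀ a b, vf i' (s' a) * t b = vf i' (s' b) * t a := fun a b => by
    have := congrArg (vf i') (hcross a b)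
    simp only [Derivation.leibniz, t, vf_phi, smul_zero, zero_add, smul_eq_mul] at this
    linear_combination this
  have hfin : s' a * vf i' (s' b) = s' b * vf i' (s' a) := by
    refine mul_left_cancel₀ htc ?_
    linear_combination vf i' (s' b) * hcross a c - vf i' (s' a) * hcross b c + s' c * hd b a
  have := congrArg (spec z') hfin
  simp only [s', map_mul, ← cutA_vf, spec_cutA, hz'] at this
  exact this

end Groth.Agent.RankTwo11.GMAlg
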