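import Groth.Agent.Lib.RankTwo11.Hyper
import Groth.Agent.Lib.RankTwo11.Serre
import Groth.Agent.Lib.EnriquesSeveri11.NegVan
import Groth.Agent.Lib.ProjDeg17.Projection

/-!
# Vanishing on a line propagates
-/

set_option autoImplicit false
set_option linter.style.haveILetI false
set_option linter.unusedSectionVars false
set_option backward.isDefEq.respectTransparency false
set_option backward.isDefEq.respectTransparency.types false
set_option maxHeartbeats 1000000

universe u

open CategoryTheory CategoryTheory.Limits AlgebraicGeometry TopologicalSpace Opposite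

noncomputable section

namespace Groth.Agent.RankTwo11.Hyper

open Groth.Agent

variable {k : Type u} [Field k] {m n : ℕ}

/-- `f^* O(-1) ≅ O(-1)`. -/
def pullNegIso (f : CohB1.ProjSpace m k ⟶ CohB1.ProjSpace n k)
    (eO : (Scheme.Modules.pullback f).obj (_root_.Twist.twistProjSpace n k 1) ≅ _root_.Twist.twistProjSpace m k 1) :
    (Scheme.Modules.pullback f).obj (_root_.Twist.twistProjSpace n k (-1)) ≅ _root_.Twist.twistProjSpace m k (-1) :=
  (M2.untwist (negIso (k := k) (n := m) 1) _).symm ≪≫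
    M2.tensorIso ((M2.tensorIso (Iso.refl _) eO.symm) ≪≫ (M2.pullTensorIso f _ _).symm ≪≫
      (Scheme.Modules.pullback f).mapIso (negIso' (k := k) (n := n) 1) ≪≫ PicLoc.pullbackStructureIso f)
      (Iso.refl _) ≪≫ M2.tensorLUnit _

/-- `f^* O(a) ≅ O(a)`. -/
theorem nonempty_pull_twist (f : CohB1.ProjSpace m k ⟶ CohB1.ProjSpace n k)
    (eO : (Scheme.Modules.pullback f).obj (_root_.Twist.twistProjSpace n k 1) ≅ _root_.Twist.twistProjSpace m k 1) (a : ℤ) :
    Nonempty ((Scheme.Modules.pullback f).obj (_root_.Twist.twistProjSpace n k a) ≅ _root_.Twist.twistProjSpace m k a) := by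
  induction a using Int.induction_on with
  | zero => exact ⟨(Scheme.Modules.pullback f).mapIso zeroIso ≪≫ PicLoc.pullbackStructureIso f ≪≫ zeroIso.symm⟩
  | succ i ih =>
    obtain ⟨e⟩ := ih
    exact ⟨(Scheme.Modules.pullback f).mapIso (addIso (i : ℤ) 1).symm ≪≫ M2.pullTensorIso f _ _ ≪≫
      M2.tensorIso e eO ≪≫ addIso (i : ℤ) 1⟩
  | pred i ih =>
    obtain ⟨e⟩ := ih
    exact ⟨(Scheme.Modules.pullback f).mapIso (eqToIso (congrArg _ (sub_eq_add_neg (-(i : ℤ)) 1)) ≪≫
        (addIso (-(i : ℤ)) (-1)).symm) ≪≫ M2.pullTensorIso f _ _ ≪≫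
      M2.tensorIso e (pullNegIso f eO) ≪≫ addIso (-(i : ℤ)) (-1) ≪≫
      eqToIso (congrArg _ (sub_eq_add_neg (-(i : ℤ)) 1).symm)⟩

/-- A bundle without sections in non-positive twists on a line has no sections. -/
theorem subsingleton_of_line [Infinite k] : ∀ (n : ℕ), 1 ≤ n → ∀ (G : (CohB1.ProjSpace n k).Modules),
    FlatMod.IsFinLocFree G → ∀ (i : CohB1.ProjSpace 1 k ⟶ CohB1.ProjSpace n k), IsClosedImmersion i →
    Function.Surjective i.appTop →
    ((Scheme.Modules.pullback i).obj (_root_.Twist.twistProjSpace n k 1) ≅ _root_.Twist.twistProjSpace 1 k 1) →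
    (∀ l : ℕ, Subsingleton (Coh.HH (CohB1.ProjSpace 1 k)
      (CohB1.tensorMod ((Scheme.Modules.pullback i).obj G) (_root_.Twist.twistProjSpace 1 k (-(l : ℤ)))) 0)) →
    Subsingleton (Coh.HH (CohB1.ProjSpace n k) G 0) := by
  intro n
  induction n with
  | zero => intro h; omega
  | succ N ih =>
    intro _ G hG i hi hs eO hl
    rcases Nat.eq_zero_or_pos N with rfl | hN
    · haveI := hi
      haveI : IsIntegral (CohB1.ProjSpace 1 k) := RegExt.isIntegral_projSpace 1 k
      haveI : Surjective i := ⟨ProjDeg17.surjective_of_isFinite_of_dim i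
        (by rw [Groth.Agent.S10829.result k 1])⟩
      haveI : IsIso i := isIso_of_isClosedImmersion_of_surjective i
      have hGq : Coh.IsQCoh G := M2.isQCoh_of_isFinLocFree hG
      haveI : IsIso ((Scheme.Modules.pullbackPushforwardAdjunction i).unit.app G) :=
        M1.isIso_unit_of_ker_smul i G hGq fun U a ha s => by
          rw [i.ker_eq_bot_of_isIso] at ha
          rw [show a = 0 by simpa using ha, zero_smul]
      have h0 : Subsingleton (Coh.HH (CohB1.ProjSpace 1 k) ((Scheme.Modules.pullback i).obj G) 0) :=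
        CMReg18.van_iso k (M2.tensorIso (Iso.refl _) (eqToIso (congrArg _ (by simp)) ≪≫ zeroIso) ≪≫
          M2.tensorRUnit _) (hl 0)
      haveI : Subsingleton Γ((Scheme.Modules.pullback i).obj G, ⊤) :=
        (CurveCoh17.hh0 _).toEquiv.symm.subsingleton
      haveI : Subsingleton Γ((Scheme.Modules.pushforward i).obj ((Scheme.Modules.pullback i).obj G), ⊤) :=
        inferInstanceAs (Subsingleton Γ((Scheme.Modules.pullback i).obj G, ⊤))
      haveI : Subsingleton Γ(G, ⊤) :=
        ⟨fun a b => M1.app_injective ((Scheme.Modules.pullbackPushforwardAdjunction i).unit.app G) ⊤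
          (@Subsingleton.elim _ (inferInstanceAs (Subsingleton Γ((Scheme.Modules.pullback i).obj G, ⊤))) _ _)⟩
      exact (CurveCoh17.hh0 G).toEquiv.subsingleton
    haveI := hi
    obtain ⟨i', j, hi', -, hij, hs', ⟨ej⟩, ⟨ei⟩, hses⟩ := exists_hyperplane (by omega) i hs eO
    let D := CMReg18.projData k (N + 1)
    have hstep : ∀ l : ℕ, Subsingleton (Coh.HH (CohB1.ProjSpace N k)
        ((Scheme.Modules.pullback j).obj (D.tw G (-(l : ℤ)))) 0) := fun l => by
      refine ih hN _ (M2.isFinLocFree_pullback j (M2.isFinLocFree_tensor hG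
        (M2.isFinLocFree_of_ofRank (rank_O (k := k) (n := N + 1) (-(l : ℤ)))))) i' hi' hs' ei fun l' => ?_
      obtain ⟨t⟩ := nonempty_pull_twist i eO (-(l : ℤ))
      exact CMReg18.van_iso k (M2.tensorIso ((Scheme.Modules.pullbackComp i' j).app _ ≪≫
          (Scheme.Modules.pullbackCongr hij).app _ ≪≫ M2.pullTensorIso i _ _ ≪≫ M2.tensorIso (Iso.refl _) t)
          (Iso.refl _) ≪≫ M2.tensorAssoc _ _ _ ≪≫
          M2.tensorIso (Iso.refl _) (addIso (-(l : ℤ)) (-(l' : ℤ)) ≪≫
            eqToIso (congrArg _ (show -(l : ℤ) + -(l' : ℤ) = -((l + l' : ℕ) : ℤ) by push_cast; ring)))).symm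
        (hl (l + l'))
    have hdown : ∀ l : ℕ, Subsingleton (Coh.HH (CohB1.ProjSpace (N + 1) k) (D.tw G (-((l + 1 : ℕ) : ℤ))) 0) →
        Subsingleton (Coh.HH (CohB1.ProjSpace (N + 1) k) (D.tw G (-(l : ℤ))) 0) := fun l h => by
      obtain ⟨S, hS, ⟨e1⟩, ⟨e2⟩, h3⟩ := hses (D.tw G (-(l : ℤ))) (M2.isFinLocFree_tensor hG
        (M2.isFinLocFree_of_ofRank (rank_O (k := k) (n := N + 1) (-(l : ℤ)))))
      haveI : Subsingleton (Coh.HH (CohB1.ProjSpace (N + 1) k) S.X₁ 0) :=
        CMReg18.van_iso k (e1 ≪≫ D.twTwist G (-(l : ℤ)) (-1) ≪≫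
          D.twIso G (show -(l : ℤ) + -1 = -((l + 1 : ℕ) : ℤ) by push_cast; ring)).symm h
      haveI := (h3 0).2 (hstep l)
      refine CMReg18.van_iso k e2 (subsingleton_of_forall_eq 0 fun x => ?_)
      obtain ⟨y, hy⟩ := (CurveCoh17.exact_hmap_hmap k (S := S) hS 0 x).1 (Subsingleton.elim _ _)
      rw [← hy, Subsingleton.elim y 0, map_zero]
    obtain ⟨m₀, hm₀⟩ := ES11.negVan_of_isFinLocFree (k := k) (r := N + 1) 0 (by omega) hG
    have main : ∀ d l : ℕ, m₀ ≤ ((l + d : ℕ) : ℤ) →
        Subsingleton (Coh.HH (CohB1.ProjSpace (N + 1) k) (D.tw G (-(l : ℤ))) 0) := by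
      intro d
      induction d with
      | zero =>
        intro l h
        have := hm₀ (l : ℤ) (by omega)
        exact this
      | succ d hd => exact fun l h => hdown l (hd (l + 1) (by omega))
    exact CMReg18.van_iso k (D.twIso G (show -((0 : ℕ) : ℤ) = 0 by simp) ≪≫ D.twZero G) (main m₀.toNat 0 (by omega))

/-- A rank two bundle trivial on a line has no sections in negative twists. -/
theorem vanish_of_trivial_line [Infinite k] {r : ℕ} (hn : 1 ≤ n) (E : (CohB1.ProjSpace n k).Modules)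
    (hE : FlatMod.IsFinLocFree E) (i : CohB1.ProjSpace 1 k ⟶ CohB1.ProjSpace n k) [IsClosedImmersion i]
    (hs : Function.Surjective i.appTop)
    (eO : (Scheme.Modules.pullback i).obj (_root_.Twist.twistProjSpace n k 1) ≅ _root_.Twist.twistProjSpace 1 k 1)
    (et : (Scheme.Modules.pullback i).obj E ≅ FlatMod.freeMod (CohB1.ProjSpace 1 k) r) {d : ℤ} (hd : 1 ≤ d) :
    Subsingleton (Coh.HH (CohB1.ProjSpace n k) (CohB1.tensorMod E (_root_.Twist.twistProjSpace n k (-d))) 0) := by
  refine subsingleton_of_line n hn _ (M2.isFinLocFree_tensor hE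
    (M2.isFinLocFree_of_ofRank (rank_O (k := k) (n := n) (-d)))) i inferInstance hs eO fun l => ?_
  obtain ⟨t⟩ := nonempty_pull_twist i eO (-d)
  refine CMReg18.van_iso k (M2.tensorIso (M2.pullTensorIso i _ _ ≪≫ M2.tensorIso et t) (Iso.refl _) ≪≫
    M2.tensorAssoc _ _ _ ≪≫ M2.tensorIso (Iso.refl _) (addIso (-d) (-(l : ℤ)))).symm
    (Euler2.subsingleton_HH_freeMod_tensor r _ (S0844.result k 1 _ 0 (by omega) (by omega)))

end Groth.Agent.RankTwo11.Hyper
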