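import Groth.Agent.Lib.RankTwo11.GMAlg
import Groth.Agent.Lib.RankTwo11.LineVanish
import Groth.Agent.Lib.Hyperplane18.Pullback
import Groth.Agent.Lib.RelProj11.Res
import Groth.Agent.Lib.RelDual12.MulSec
import Groth.Agent.Lib.CMReg18.PullVb
import Groth.Agent.Lib.ExtFil4.Uniq
import Groth.Agent.Lib.DetSES2.Main
import Groth.Agent.Lib.Wedge2.Props
import Groth.Agent.Lib.P1Split17.Main

/-!
# Forms, lines and presentations for the restriction theorem
-/

set_option autoImplicit false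
set_option linter.style.haveILetI false
set_option linter.unusedSectionVars false
set_option backward.isDefEq.respectTransparency false
set_option backward.isDefEq.respectTransparency.types false
set_option maxHeartbeats 1000000

universe u

open CategoryTheory CategoryTheory.Limits AlgebraicGeometry TopologicalSpace Opposite
open scoped HomogeneousIdeal

noncomputable section

namespace Groth.Agent.RankTwo11.GM

open Groth.Agent

variable {k : Type u} [Field k] {N : ℕ}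

local notation "GR" => CohB1.polyGrading N k

/-- A form as a map of twists. -/
def fm {c : ℕ} (f : MvPolynomial (Fin (N + 1)) k) (hf : f ∈ GR c) {a b : ℤ} (h : (c : ℤ) + a = b) :
    _root_.Twist.twistProjSpace N k a ⟶ _root_.Twist.twistProjSpace N k b :=
  RelDual12.mulSecHom (𝒜 := GR) h (Twist.globalOf GR ⟨f, hf⟩)

theorem val_fm {c : ℕ} (f : MvPolynomial (Fin (N + 1)) k) (hf : f ∈ GR c) {a b : ℤ} (h : (c : ℤ) + a = b)
    (U : (CohB1.ProjSpace N k).Opens) (σ : Γ(_root_.Twist.twist GR a, U)) (x : ProjectiveSpectrum GR) (hx : x ∈ U) :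
    Twist.val (n := b) ((fm f hf h).app U σ) x hx =
      Localization.mk f ⟨1, Twist.one_notMem N k x⟩ * Twist.val (n := a) σ x hx :=
  RelDual12.val_mulSecHom h _ U σ x hx

theorem fm_ext {a b : ℤ} {φ ψ : _root_.Twist.twistProjSpace N k a ⟶ _root_.Twist.twistProjSpace N k b}
    (h : ∀ (U : (CohB1.ProjSpace N k).Opens) (σ : Γ(_root_.Twist.twist GR a, U)) (x : ProjectiveSpectrum GR) (hx : x ∈ U),
      Twist.val (n := b) (φ.app U σ) x hx = Twist.val (n := b) (ψ.app U σ) x hx) : φ = ψ :=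
  Scheme.Modules.hom_ext _ _ fun U => by
    ext σ
    exact Twist.sec_ext fun x hx => h U σ x hx

theorem fm_comp {c c' c'' : ℕ} (f g q : MvPolynomial (Fin (N + 1)) k) (hf : f ∈ GR c) (hg : g ∈ GR c') (hq : q ∈ GR c'')
    (he : q = g * f) {a b d : ℤ} (h : (c : ℤ) + a = b) (h' : (c' : ℤ) + b = d) (h'' : (c'' : ℤ) + a = d) :
    fm f hf h ≫ fm g hg h' = fm q hq h'' := fm_ext fun U σ x hx => by
  rw [Scheme.Modules.Hom.comp_app, CategoryTheory.comp_apply, val_fm, val_fm, val_fm, he, ← mul_assoc,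
    Localization.mk_mul]
  congr 2
  exact Subtype.ext (show (1 : MvPolynomial (Fin (N + 1)) k) * 1 = 1 from one_mul 1)

theorem fm_zero {c : ℕ} {f : MvPolynomial (Fin (N + 1)) k} (hf : f ∈ GR c) {a b : ℤ} (h : (c : ℤ) + a = b) (h0 : f = 0) :
    fm f hf h = 0 := fm_ext fun U σ x hx => by
  subst h0
  rw [val_fm, Localization.mk_zero, zero_mul]
  rfl

theorem fm_add {c : ℕ} (f g : MvPolynomial (Fin (N + 1)) k) (hf : f ∈ GR c) (hg : g ∈ GR c) (hfg : f + g ∈ GR c)
    {a b : ℤ} (h : (c : ℤ) + a = b) : fm (f + g) hfg h = fm f hf h + fm g hg h := fm_ext fun U σ x hx => by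
  rw [val_fm, ← Localization.add_mk_self f _ g, add_mul]
  exact (congrArg₂ (· + ·) (val_fm f hf h U σ x hx) (val_fm g hg h U σ x hx)).symm

theorem fm_congr {c : ℕ} {f g : MvPolynomial (Fin (N + 1)) k} (hf : f ∈ GR c) (hg : g ∈ GR c) (e : f = g)
    {a b : ℤ} (h : (c : ℤ) + a = b) : fm f hf h = fm g hg h := by subst e; rfl

theorem fm_sum {ι : Type*} (s : Finset ι) {c : ℕ} (f : ι → MvPolynomial (Fin (N + 1)) k) (hf : ∀ i, f i ∈ GR c)
    {a b : ℤ} (h : (c : ℤ) + a = b) :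
    fm (∑ i ∈ s, f i) (Submodule.sum_mem _ fun i _ => hf i) h = ∑ i ∈ s, fm (f i) (hf i) h := by
  classical
  induction s using Finset.induction_on with
  | empty => exact (fm_zero _ _ Finset.sum_empty).trans Finset.sum_empty.symm
  | insert i s hi ih =>
    refine (fm_congr _ (Submodule.add_mem _ (hf i) (Submodule.sum_mem _ fun l _ => hf l)) (Finset.sum_insert hi) h).trans ?_
    rw [fm_add _ _ (hf i) (Submodule.sum_mem _ fun l _ => hf l), ih]
    exact (Finset.sum_insert (f := fun i => fm (f i) (hf i) h) hi).symm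

theorem eq_zero_of_fm {c : ℕ} {f : MvPolynomial (Fin (N + 1)) k} (hf : f ∈ GR c) {a : ℕ} {b : ℤ}
    (h : (c : ℤ) + (a : ℤ) = b) (h0 : fm f hf h = 0) : f = 0 := by
  obtain ⟨e, rfl⟩ : ∃ e : ℕ, b = (e : ℤ) := ⟨c + a, by push_cast; omega⟩
  have hXa : (MvPolynomial.X 0 : MvPolynomial (Fin (N + 1)) k) ^ a ∈ GR a := MvPolynomial.isHomogeneous_X_pow 0 a
  have hp : f * MvPolynomial.X 0 ^ a ∈ GR e := by
    have := SetLike.mul_mem_graded hf hXa
    rwa [show c + a = e by omega] at this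
  have hval : Twist.globalOf GR ⟨_, hp⟩ = Twist.globalOf GR (0 : GR e) := Twist.sec_ext fun x hx => by
    have h1 := congrArg (fun φ => Twist.val (n := (e : ℤ))
      (φ.app ⊤ (Twist.globalOf GR ⟨_, hXa⟩ : Γ(_root_.Twist.twist GR (a : ℤ), ⊤))) x hx) h0
    refine Eq.trans ?_ ((h1.trans ?_).trans (Twist.val_globalOf GR (0 : GR e) x hx (Twist.one_notMem N k x)).symm)
    · refine Eq.trans ?_ (val_fm f hf h ⊤ _ x hx).symm
      refine (Twist.val_globalOf GR (⟨_, hp⟩ : GR e) x hx (Twist.one_notMem N k x)).trans ?_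
      refine Eq.trans ?_ (congrArg (_ * ·) (Twist.val_globalOf GR (⟨_, hXa⟩ : GR a) x hx (Twist.one_notMem N k x)).symm)
      exact (Localization.mk_mul f (MvPolynomial.X 0 ^ a) _ _).trans
        (congrArg (Localization.mk _) (Subtype.ext (one_mul (1 : MvPolynomial (Fin (N + 1)) k)))) |>.symm
    · exact (Localization.mk_zero (⟨1, Twist.one_notMem N k x⟩ : x.asHomogeneousIdeal.toIdeal.primeCompl)).symm
  have := congrArg Subtype.val ((Twist.globalOf_bijective_polyGrading N k e).1 hval)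
  exact (mul_eq_zero.1 this).resolve_right (pow_ne_zero _ (MvPolynomial.X_ne_zero _))

theorem exists_fm {c : ℕ} {a b : ℤ} (h : (c : ℤ) + a = b)
    (φ : _root_.Twist.twistProjSpace N k a ⟶ _root_.Twist.twistProjSpace N k b) :
    ∃ (f : MvPolynomial (Fin (N + 1)) k) (hf : f ∈ GR c), fm f hf h = φ := by
  obtain ⟨σ, hσ⟩ := RelDual12.exists_mulSecHom_eq (𝒜 := GR) (Twist.iSup_basicOpen_one N k) h φ
  obtain ⟨⟨f, hf⟩, e⟩ := (Twist.globalOf_bijective_polyGrading N k c).2 σ
  exact ⟨f, hf, by rw [fm, show Twist.globalOf GR ⟨f, hf⟩ = σ from e]; exact hσ⟩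

section comap

variable {A σ : Type u} [CommRing A] [SetLike σ A] [AddSubgroupClass σ A] {𝒜 : ℕ → σ} [GradedRing 𝒜]
  {B τ : Type u} [CommRing B] [SetLike τ B] [AddSubgroupClass τ B] {ℬ : ℕ → τ} [GradedRing ℬ]
  (ψ : 𝒜 →+*ᵍ ℬ) (hψ : ℬ₊ ≤ (𝒜₊).map ψ)

/-- The generator `f ^ d / 1`. -/
def genPow {f : A} (hf : f ∈ 𝒜 1) (d : ℕ) : Γ(GrTwist.twist 𝒜 (d : ℤ), Proj.basicOpen 𝒜 f) :=
  GrTw11.frac 𝒜 _ (show f ^ d ∈ 𝒜 d by simpa using SetLike.pow_mem_graded d hf) SetLike.GradedOne.one_mem (by simp)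
    fun _ _ => GrTw11.one_notMem_prime 𝒜 _

theorem val_genPow {f : A} (hf : f ∈ 𝒜 1) (d : ℕ) (x : ProjectiveSpectrum 𝒜) (hx : x ∈ Proj.basicOpen 𝒜 f) :
    GrTw11.val (n := (d : ℤ)) (genPow hf d) x hx = Localization.mk (f ^ d) ⟨1, GrTw11.one_notMem_prime 𝒜 x⟩ := rfl

theorem bijective_smul_genPow {f : A} (hf : f ∈ 𝒜 1) (d : ℕ) :
    Function.Bijective fun r : Γ(Proj 𝒜, Proj.basicOpen 𝒜 f) => r • genPow hf d := by
  have h := GrTw11.bijective_smul_of_inverse (n := (d : ℤ)) (U := Proj.basicOpen 𝒜 f) (genPow hf d)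
    (GrTw11.frac 𝒜 _ SetLike.GradedOne.one_mem (show f ^ d ∈ 𝒜 d by simpa using SetLike.pow_mem_graded d hf) (by simp)
      (fun x hx h => hx (x.isPrime.mem_of_pow_mem d h))) (fun x hx => by
      rw [val_genPow]
      exact GrTw11.mk_eq_iff 𝒜 _ _ |>.2 ⟨1, GrTw11.one_notMem_prime 𝒜 x, by simp⟩ |>.trans
        Localization.mk_one) _ le_rfl
  simpa only [Groth.Agent.M1.mres_id] using h

theorem sect_genPow {f : A} (hf : f ∈ 𝒜 1) (d : ℕ) :
    M1.mres (GrTwist.twist ℬ (d : ℤ)) (PullBC11.hle_basic ψ hψ) ((GrTwist.comap ψ hψ (d : ℤ)).app (Proj.basicOpen 𝒜 f) (genPow hf d)) =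
      genPow (ψ.map_mem hf) d := by
  refine GrTw11.sec_ext fun y hy => ?_
  refine (PullBC11.val_sect_comap ψ hψ (PullBC11.hle_basic ψ hψ) (genPow hf d) y hy).trans ?_
  rw [val_genPow, val_genPow, GrTwist.locMap_mk]
  exact GrTw11.mk_eq_iff ℬ _ _ |>.2 ⟨1, GrTw11.one_notMem_prime ℬ y, by simp⟩

theorem isBC_nat {f : A} (hf : f ∈ 𝒜 1) (d : ℕ) :
    PullBC11.IsBC (GrTwist.comap ψ hψ (d : ℤ)) (PullBC11.hle_basic ψ hψ (h := f)) := by
  refine PullBC11.isBC_of _ _ (fun t => ?_) ?_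
  · obtain ⟨r, rfl⟩ := (bijective_smul_genPow (ψ.map_mem hf) d).2 t
    exact Submodule.smul_mem _ r (Submodule.subset_span ⟨genPow hf d, sect_genPow ψ hψ hf d⟩)
  · letI := ((Proj.map ψ hψ).appLE (Proj.basicOpen 𝒜 f) (Proj.basicOpen ℬ (ψ f)) (PullBC11.hle_basic ψ hψ)).hom.toAlgebra
    letI := PullBC11.baseModule (g := Proj.map ψ hψ) (GrTwist.twist ℬ (d : ℤ)) (PullBC11.hle_basic ψ hψ (h := f))
    haveI : IsScalarTower Γ(Proj 𝒜, Proj.basicOpen 𝒜 f) Γ(Proj ℬ, Proj.basicOpen ℬ (ψ f))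
        Γ(GrTwist.twist ℬ (d : ℤ), Proj.basicOpen ℬ (ψ f)) := IsScalarTower.of_algebraMap_smul fun _ _ => rfl
    intro z hz
    obtain ⟨b, rfl⟩ : ∃ b : Γ(Proj ℬ, Proj.basicOpen ℬ (ψ f)), z = TensorProduct.tmul Γ(Proj 𝒜, Proj.basicOpen 𝒜 f) b (genPow hf d) := by
      clear hz
      induction z using TensorProduct.induction_on with
      | zero => exact ⟨0, (TensorProduct.zero_tmul _ _).symm⟩
      | tmul b m =>
        obtain ⟨a, rfl⟩ := (bijective_smul_genPow hf d).2 m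
        exact ⟨a • b, (TensorProduct.smul_tmul a b (genPow hf d)).symm⟩
      | add z w hz hw =>
        obtain ⟨b, rfl⟩ := hz
        obtain ⟨b', rfl⟩ := hw
        exact ⟨b + b', (TensorProduct.add_tmul _ _ _).symm⟩
    rw [LinearMap.liftBaseChange_tmul] at hz
    have h0 : b • genPow (ψ.map_mem hf) d = (0 : Γ(Proj ℬ, Proj.basicOpen ℬ (ψ f))) • genPow (ψ.map_mem hf) d := by
      rw [zero_smul, ← sect_genPow ψ hψ hf d]
      exact hz
    rw [(bijective_smul_genPow (ψ.map_mem hf) d).1 h0, TensorProduct.zero_tmul]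

theorem isIso_theta (hcov : (⨆ f : 𝒜 1, Proj.basicOpen 𝒜 (f : A)) = ⊤) (d : ℕ) :
    IsIso (((Scheme.Modules.pullbackPushforwardAdjunction (Proj.map ψ hψ)).homEquiv _ _).symm
      (GrTwist.comap ψ hψ (d : ℤ))) :=
  PullBC11.isIso_of_isBC (GrTwist.comap ψ hψ (d : ℤ)) (GrTw11.isQCoh_twist' 𝒜 _) (GrTw11.isQCoh_twist' ℬ _)
    fun y => by
      have hy : ProjectiveSpectrum.comap ψ hψ y ∈ (⨆ f : 𝒜 1, Proj.basicOpen 𝒜 (f : A)) := by
        rw [hcov]; trivial
      obtain ⟨⟨g, hg⟩, hy⟩ := TopologicalSpace.Opens.mem_iSup.1 hy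
      exact ⟨Proj.basicOpen 𝒜 g, Proj.isAffineOpen_basicOpen 𝒜 g hg Nat.one_pos, Proj.basicOpen ℬ (ψ g),
        Proj.isAffineOpen_basicOpen ℬ (ψ g) (ψ.map_mem hg) Nat.one_pos, PullBC11.hle_basic ψ hψ, hy,
        isBC_nat ψ hψ hg d⟩

end comap

section Lines

variable {m : ℕ}

/-- The line with parameters `z`, on rings. -/
def linHom (z : Fin m ⊕ Fin m → k) : CohB1.polyGrading (m + 1) k →+*ᵍ CohB1.polyGrading 1 k :=
  { (GMAlg.line z).toRingHom with
    map_mem := fun {i a} ha => by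
      show GMAlg.line z a ∈ CohB1.polyGrading 1 k i
      rw [CohB1.polyGrading, MvPolynomial.mem_homogeneousSubmodule] at ha ⊢
      have h1 : (GMAlg.line z : GMAlg.S k m →ₐ[k] GMAlg.Ln k) = MvPolynomial.aeval fun l => GMAlg.spec z (GMAlg.yImg l) :=
        MvPolynomial.algHom_ext fun l => by simp [GMAlg.line, GMAlg.phi]
      rw [h1]
      have h2 := ha.aeval (fun l => GMAlg.spec z (GMAlg.yImg l))
        fun l => GMAlg.spec_homogeneous z (GMAlg.weighted_yImg (k := k) l)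
      rw [one_mul] at h2
      exact h2 }

theorem linHom_apply (z : Fin m ⊕ Fin m → k) (f : GMAlg.S k m) : linHom z f = GMAlg.line z f := rfl

theorem line_X (z : Fin m ⊕ Fin m → k) (j : Fin 2) :
    GMAlg.line z (MvPolynomial.X (Fin.castLE (by omega : 2 ≤ m + 2) j)) = MvPolynomial.X j := by
  fin_cases j
  · simp [GMAlg.line, GMAlg.phi, GMAlg.spec, GMAlg.yImg]
  · rw [show Fin.castLE (by omega : 2 ≤ m + 2) (⟨1, by omega⟩ : Fin 2) = (1 : Fin (m + 2)) from Fin.ext (by simp)]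
    simp [GMAlg.line, GMAlg.phi, GMAlg.spec, GMAlg.yImg]

theorem irrelevant_le (z : Fin m ⊕ Fin m → k) : HomogeneousIdeal.irrelevant (CohB1.polyGrading 1 k) ≤
    (HomogeneousIdeal.irrelevant (CohB1.polyGrading (m + 1) k)).map (linHom z) := by
  rw [← toIdeal_le_toIdeal_iff, HomogeneousIdeal.toIdeal_map]
  refine (ProjSpace.irrelevant_le_span 1 k).trans (Ideal.span_le.2 ?_)
  rintro _ ⟨j, rfl⟩
  show MvPolynomial.X j ∈ Ideal.map (linHom z) _
  rw [← show linHom z (MvPolynomial.X (Fin.castLE (by omega : 2 ≤ m + 2) j)) = MvPolynomial.X j from line_X z j]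
  exact Ideal.mem_map_of_mem _
    (HomogeneousIdeal.mem_irrelevant_of_mem _ Nat.one_pos (ProjSpace.X_mem' (m + 1) k _))

theorem linHom_surjective (z : Fin m ⊕ Fin m → k) : Function.Surjective (linHom z) := fun b => by
  refine ⟨MvPolynomial.rename (Fin.castLE (by omega : 2 ≤ m + 2)) b, ?_⟩
  show GMAlg.line z _ = b
  induction b using MvPolynomial.induction_on with
  | C a => rw [MvPolynomial.rename_C, MvPolynomial.algHom_C]; rfl
  | add p q hp hq => rw [map_add, map_add, hp, hq]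
  | mul_X p l hp => rw [map_mul, map_mul, hp, MvPolynomial.rename_X, line_X]

/-- The line with parameters `z`. -/
def lineMap (z : Fin m ⊕ Fin m → k) : CohB1.ProjSpace 1 k ⟶ CohB1.ProjSpace (m + 1) k :=
  Proj.map (linHom z) (irrelevant_le z)

instance isClosedImmersion_lineMap (z : Fin m ⊕ Fin m → k) : IsClosedImmersion (lineMap z) := by
  refine Groth.Agent.EGA2.map_of_forall_away (linHom z) (irrelevant_le z) @IsClosedImmersion fun d hd t ht => ?_
  refine IsClosedImmersion.spec_of_surjective _ (Groth.Agent.EGA2.away_map_surjective (linHom z) ?_ hd ht)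
  intro m' hm' b hb
  obtain ⟨a, rfl⟩ := linHom_surjective z b
  refine ⟨(DirectSum.decompose (CohB1.polyGrading (m + 1) k) a m' : MvPolynomial (Fin (m + 1 + 1)) k),
    SetLike.coe_mem _, ?_⟩
  rw [GradedRingHom.map_directSumDecompose, DirectSum.decompose_of_mem_same _ hb]

theorem lineMap_toSpec (z : Fin m ⊕ Fin m → k) :
    lineMap z ≫ CohB1.ProjSpace.toSpec (m + 1) k = CohB1.ProjSpace.toSpec 1 k := by
  show Proj.map (linHom z) (irrelevant_le z) ≫ Proj.toSpecZero _ ≫ _ = Proj.toSpecZero _ ≫ _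
  rw [reassoc_of% (RelProj11.map_toSpecZero (ψ := linHom z) (irrelevant_le z)), ← Spec.map_comp]
  congr 2
  refine CommRingCat.hom_ext (RingHom.ext fun r => Subtype.ext ?_)
  exact (GMAlg.line z).commutes r

/-- The comparison of twists along a line. -/
def theta (z : Fin m ⊕ Fin m → k) (a : ℤ) :
    (Scheme.Modules.pullback (lineMap z)).obj (_root_.Twist.twistProjSpace (m + 1) k a) ⟶
      _root_.Twist.twistProjSpace 1 k a :=
  ((Scheme.Modules.pullbackPushforwardAdjunction (Proj.map (linHom z) (irrelevant_le z))).homEquiv _ _).symm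
    (GrTwist.comap (linHom z) (irrelevant_le z) a)

instance isIso_theta_nat (z : Fin m ⊕ Fin m → k) (d : ℕ) : IsIso (theta z (d : ℤ)) :=
  isIso_theta (linHom z) (irrelevant_le z) (Twist.iSup_basicOpen_one (m + 1) k) d

theorem theta_natural (z : Fin m ⊕ Fin m → k) {c : ℕ} (f : MvPolynomial (Fin (m + 1 + 1)) k)
    (hf : f ∈ CohB1.polyGrading (m + 1) k c) {a b : ℤ} (h : (c : ℤ) + a = b) :
    (Scheme.Modules.pullback (lineMap z)).map (fm f hf h) ≫ theta z b =
      theta z a ≫ fm (linHom z f) ((linHom z).map_mem hf) h := by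
  refine (((Scheme.Modules.pullbackPushforwardAdjunction (Proj.map (linHom z) (irrelevant_le z))).homEquiv_naturality_left_symm
    (fm f hf h) (GrTwist.comap (linHom z) (irrelevant_le z) b)).symm.trans ?_)
  refine Eq.trans ?_ ((Scheme.Modules.pullbackPushforwardAdjunction (Proj.map (linHom z) (irrelevant_le z))).homEquiv_naturality_right_symm
    (GrTwist.comap (linHom z) (irrelevant_le z) a) (fm (linHom z f) ((linHom z).map_mem hf) h))
  refine congrArg _ (Scheme.Modules.hom_ext _ _ fun U => ?_)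
  ext s
  refine GrTw11.sec_ext (𝒜 := CohB1.polyGrading 1 k) fun y hy => ?_
  have h1 := fun (n : ℤ) (t : Γ(GrTwist.twist (CohB1.polyGrading (m + 1) k) n, U)) =>
    PullBC11.val_sect_comap (linHom z) (irrelevant_le z) (le_refl (Proj.map (linHom z) (irrelevant_le z) ⁻¹ᵁ U)) (n := n) t
  simp only [M1.mres_id] at h1
  refine (h1 b ((fm f hf h).app U s) y hy).trans ?_
  refine Eq.trans ?_ (val_fm (linHom z f) ((linHom z).map_mem hf) h _ _ y hy).symm
  refine (congrArg (GrTwist.locMap _ _ y) (val_fm f hf h U s _ _)).trans ?_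
  rw [map_mul, GrTwist.locMap_mk]
  refine congrArg₂ (· * ·) ?_ (h1 a s y hy).symm
  congr 1
  exact Subtype.ext (map_one _)

end Lines

section Embedding

variable {X : Scheme.{u}}

/-- The dual of a finite sum. -/
theorem nonempty_dual_sigma {l : ℕ} (L : X.Modules) :
    Nonempty (CohMop.dual (∐ fun _ : Fin l => L) ≅ ∐ fun _ : Fin l => CohMop.dual L) := by
  classical
  let F : Fin l → X.Modules := fun _ => L
  let O := Coh.structureModule X
  have hsum : ∀ t : Finset (Fin l), ∑ j ∈ t, CohMop.ihomMap (Sigma.ι F j) O ≫ CohMop.ihomMap (P1Split.proj F j) O =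
      CohMop.ihomMap (∑ j ∈ t, P1Split.proj F j ≫ Sigma.ι F j) O := by
    intro t
    induction t using Finset.induction_on with
    | empty => rw [Finset.sum_empty, Finset.sum_empty, CohMop.ihomMap_zero]
    | insert j t hj ih => rw [Finset.sum_insert hj, Finset.sum_insert hj, ih, CohMop.ihomMap_add, CohMop.ihomMap_comp]
  let G : Fin l → X.Modules := fun _ => CohMop.dual L
  refine ⟨{ hom := ∑ j, CohMop.ihomMap (Sigma.ι F j) O ≫ Sigma.ι G j
            inv := Sigma.desc fun j => CohMop.ihomMap (P1Split.proj F j) O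
            hom_inv_id := ?_
            inv_hom_id := ?_ }⟩
  · rw [Preadditive.sum_comp]
    simp only [Category.assoc, Sigma.ι_desc]
    rw [hsum, P1Split.sum_proj_ι, CohMop.ihomMap_id]
  · refine Sigma.hom_ext _ _ fun j => ?_
    rw [Sigma.ι_desc_assoc, Preadditive.comp_sum, Category.comp_id, Finset.sum_eq_single j]
    · rw [← Category.assoc, CohMop.ihomMap_comp, P1Split.ι_proj_self, CohMop.ihomMap_id, Category.id_comp]
    · intro i _ hi
      rw [← Category.assoc, CohMop.ihomMap_comp, P1Split.ι_proj_ne _ hi, CohMop.ihomMap_zero, zero_comp]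
    · simp

/-- Bundles are subbundles of sums of one twist. -/
theorem exists_embedding {F : (CohB1.ProjSpace N k).Modules} (hF : FlatMod.IsFinLocFree F) (D₀ : ℤ) :
    ∃ (D : ℕ) (l : ℕ) (S : ShortComplex (CohB1.ProjSpace N k).Modules), D₀ ≤ D ∧ S.ShortExact ∧
      Nonempty (S.X₁ ≅ F) ∧ Nonempty (S.X₂ ≅ ∐ fun _ : Fin l => _root_.Twist.twistProjSpace N k (D : ℤ)) ∧
      FlatMod.IsFinLocFree S.X₃ := by
  let P := CMReg18.projData k N
  have hK := CohMop.isFinLocFree_dual hF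
  haveI := (CMReg18.isAmple_twistOne k (n := N)).2.1
  obtain ⟨n₀, hn₀⟩ := P.exists_gg_large (CMReg18.isAmple_twistOne k) (CohFound.isCoh_of_isFinLocFree hK)
  let D : ℕ := (max n₀ D₀).toNat
  have hT : Coh.IsCoh (P.tw (CohMop.dual F) (D : ℤ)) :=
    CohFound.isCoh_tensor (CohFound.isCoh_of_isFinLocFree hK) (CohFound.isCoh_of_isFinLocFree
      (M2.isFinLocFree_of_isInvertible (P.inv (D : ℤ))))
  obtain ⟨l, p, hp⟩ := GrMod11.exists_epi_freeMod hT.1 hT.2 (hn₀ _ (by omega))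
  haveI := CohFound.epi_tensorMap p (P.O (-(D : ℤ)))
  let q : P.tw (FlatMod.freeMod (CohB1.ProjSpace N k) l) (-(D : ℤ)) ⟶ CohMop.dual F :=
    M2.tensorMap p (𝟙 _) ≫ (P.twTwist (CohMop.dual F) (D : ℤ) (-(D : ℤ)) ≪≫
      P.twIso (CohMop.dual F) (add_neg_cancel (D : ℤ)) ≪≫ P.twZero (CohMop.dual F)).hom
  haveI : Epi q := epi_comp _ _
  have hS : (ShortComplex.mk (kernel.ι q) q (kernel.condition q)).ShortExact :=
    ShortComplex.ShortExact.mk' (ShortComplex.exact_kernel q) inferInstance inferInstance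
  have hk := DPerf.isFinLocFree_kernel (kernel.ι q) q (kernel.condition q) hS
    (M2.isFinLocFree_tensor (KFlat.Sch.isFinLocFree_freeMod _ l) (M2.isFinLocFree_of_isInvertible (P.inv (-(D : ℤ))))) hK
  haveI : ModSite.HasSheafHom (O := (CohB1.ProjSpace N k).sheaf) F := CohMop.isLeftAdjoint_tenR _
  haveI := CohMop.isIso_bidual hF
  obtain ⟨d1⟩ := ES11.nonempty_dual_iso_of_inverse (L := P.O (-(D : ℤ))) (D := P.O (D : ℤ)) (P.inv _)
    (negIso' (k := k) (n := N) (D : ℤ))
  obtain ⟨d2⟩ := nonempty_dual_sigma (l := l) (P.O (-(D : ℤ)))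
  refine ⟨D, l, _, by omega, ES11.shortExact_dual hS hK, ⟨(asIso (CohMop.bidual F)).symm⟩, ⟨?_⟩,
    CohMop.isFinLocFree_dual hk⟩
  exact (CohMop.ihomIso (M2.freeModTensorIso (CohB1.ProjSpace N k) l (P.O (-(D : ℤ))))).app _ ≪≫ d2 ≪≫
    Sigma.mapIso fun _ => d1

end Embedding

end Groth.Agent.RankTwo11.GM
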