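import Groth.Agent.Lib.RankTwo11.GMLine

/-!
# A hyperplane through a line of the family
-/

set_option autoImplicit false
set_option linter.style.haveILetI false
set_option linter.unusedSectionVars false
set_option backward.isDefEq.respectTransparency false
set_option backward.isDefEq.respectTransparency.types false
set_option maxHeartbeats 1000000

universe u

open CategoryTheory CategoryTheory.Limits AlgebraicGeometry TopologicalSpace Opposite
open scoped HomogeneousIdeal

noncomputable section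

namespace Groth.Agent.RankTwo11.GM

open Groth.Agent

variable {k : Type u} [Field k] {a b : ℕ}

/-- Surjective graded `k`-algebra maps of polynomial rings give linear embeddings. -/
theorem exists_emb (φ : CohB1.polyGrading a k →+*ᵍ CohB1.polyGrading b k) (hC : ∀ r, φ (MvPolynomial.C r) = MvPolynomial.C r)
    (hs : Function.Surjective φ) :
    ∃ (h : HomogeneousIdeal.irrelevant (CohB1.polyGrading b k) ≤ (HomogeneousIdeal.irrelevant (CohB1.polyGrading a k)).map φ),
      IsClosedImmersion (show CohB1.ProjSpace b k ⟶ CohB1.ProjSpace a k from Proj.map φ h) ∧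
      (show CohB1.ProjSpace b k ⟶ CohB1.ProjSpace a k from Proj.map φ h) ≫ CohB1.ProjSpace.toSpec a k = CohB1.ProjSpace.toSpec b k ∧
      Nonempty ((Scheme.Modules.pullback (show CohB1.ProjSpace b k ⟶ CohB1.ProjSpace a k from Proj.map φ h)).obj
        (_root_.Twist.twistProjSpace a k 1) ≅ _root_.Twist.twistProjSpace b k 1) := by
  have hcomp : ∀ (m' : ℕ) (y : MvPolynomial (Fin (b + 1)) k), y ∈ CohB1.polyGrading b k m' →
      ∃ x, x ∈ CohB1.polyGrading a k m' ∧ φ x = y := fun m' y hy => by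
    obtain ⟨x, rfl⟩ := hs y
    refine ⟨(DirectSum.decompose (CohB1.polyGrading a k) x m' : MvPolynomial (Fin (a + 1)) k), SetLike.coe_mem _, ?_⟩
    rw [GradedRingHom.map_directSumDecompose, DirectSum.decompose_of_mem_same _ hy]
  have h : HomogeneousIdeal.irrelevant (CohB1.polyGrading b k) ≤ (HomogeneousIdeal.irrelevant (CohB1.polyGrading a k)).map φ := by
    rw [← toIdeal_le_toIdeal_iff, HomogeneousIdeal.toIdeal_map]
    refine (ProjSpace.irrelevant_le_span b k).trans (Ideal.span_le.2 ?_)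
    rintro _ ⟨j, rfl⟩
    obtain ⟨x, hx, e⟩ := hcomp 1 _ (ProjSpace.X_mem' b k j)
    show MvPolynomial.X j ∈ Ideal.map φ _
    rw [← e]
    exact Ideal.mem_map_of_mem _ (HomogeneousIdeal.mem_irrelevant_of_mem _ Nat.one_pos hx)
  refine ⟨h, ?_, ?_, Hyperplane18.nonempty_pullback_twist_one φ h (Twist.iSup_basicOpen_one a k)⟩
  · refine Groth.Agent.EGA2.map_of_forall_away φ h @IsClosedImmersion fun d hd t ht => ?_
    exact IsClosedImmersion.spec_of_surjective _ (Groth.Agent.EGA2.away_map_surjective φ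
      (fun m' hm' y hy => hcomp m' y hy) hd ht)
  · show Proj.map φ h ≫ Proj.toSpecZero _ ≫ _ = Proj.toSpecZero _ ≫ _
    rw [reassoc_of% (RelProj11.map_toSpecZero (ψ := φ) h), ← Spec.map_comp]
    congr 2
    exact CommRingCat.hom_ext (RingHom.ext fun r => Subtype.ext (hC r))

variable {m : ℕ}

/-- The substitution cutting the hyperplane. -/
def hypImg (z : Fin (m + 1) ⊕ Fin (m + 1) → k) : Fin (m + 1 + 1 + 1) → GMAlg.S k m :=
  Fin.cons (MvPolynomial.X 0) (Fin.cons (MvPolynomial.X 1) (Fin.cons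
    (MvPolynomial.C (z (Sum.inl 0)) * MvPolynomial.X 0 + MvPolynomial.C (z (Sum.inr 0)) * MvPolynomial.X 1)
    fun i => MvPolynomial.X i.succ.succ))

theorem hypImg_mem (z : Fin (m + 1) ⊕ Fin (m + 1) → k) (l : Fin (m + 1 + 1 + 1)) : (hypImg z l).IsHomogeneous 1 := by
  refine Fin.cases (MvPolynomial.isHomogeneous_X k _) (fun l => Fin.cases (MvPolynomial.isHomogeneous_X k _)
    (fun l => Fin.cases ?_ (fun i => MvPolynomial.isHomogeneous_X k _) l) l) l
  exact (MvPolynomial.isHomogeneous_C_mul_X _ _).add (MvPolynomial.isHomogeneous_C_mul_X _ _)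

/-- The hyperplane substitution, graded. -/
def hypHom (z : Fin (m + 1) ⊕ Fin (m + 1) → k) : CohB1.polyGrading (m + 1 + 1) k →+*ᵍ CohB1.polyGrading (m + 1) k :=
  { (MvPolynomial.aeval (hypImg z) : GMAlg.S k (m + 1) →ₐ[k] GMAlg.S k m).toRingHom with
    map_mem := fun {i x} hx => by
      show MvPolynomial.aeval (hypImg z) x ∈ CohB1.polyGrading (m + 1) k i
      rw [CohB1.polyGrading, MvPolynomial.mem_homogeneousSubmodule] at hx ⊢
      have h := hx.aeval (hypImg z) (hypImg_mem z)
      rw [one_mul] at h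
      exact h }

theorem hypHom_surjective (z : Fin (m + 1) ⊕ Fin (m + 1) → k) : Function.Surjective (hypHom z) := fun y => by
  show ∃ x, MvPolynomial.aeval (hypImg z) x = y
  induction y using MvPolynomial.induction_on with
  | C r => exact ⟨MvPolynomial.C r, MvPolynomial.aeval_C _ _⟩
  | add p q hp hq =>
    obtain ⟨x, rfl⟩ := hp
    obtain ⟨x', rfl⟩ := hq
    exact ⟨x + x', map_add _ _ _⟩
  | mul_X p l hp =>
    obtain ⟨x, rfl⟩ := hp
    refine Fin.cases ?_ (fun l => Fin.cases ?_ (fun i => ?_) l) l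
    · exact ⟨x * MvPolynomial.X 0, by rw [map_mul, MvPolynomial.aeval_X]; rfl⟩
    · exact ⟨x * MvPolynomial.X 1, by rw [map_mul, MvPolynomial.aeval_X]; rfl⟩
    · exact ⟨x * MvPolynomial.X i.succ.succ.succ, by rw [map_mul, MvPolynomial.aeval_X]; rfl⟩

/-- The parameters of the line inside the hyperplane. -/
def tailPar (z : Fin (m + 1) ⊕ Fin (m + 1) → k) : Fin m ⊕ Fin m → k := fun v => z (Sum.map Fin.succ Fin.succ v)

theorem linHom_comp_hypHom (z : Fin (m + 1) ⊕ Fin (m + 1) → k) : (linHom (tailPar z)).comp (hypHom z) = linHom z := by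
  have h : ((GMAlg.line (tailPar z)).comp (MvPolynomial.aeval (hypImg z) : GMAlg.S k (m + 1) →ₐ[k] GMAlg.S k m)) =
      GMAlg.line z := by
    refine MvPolynomial.algHom_ext fun l => ?_
    refine Fin.cases ?_ (fun l => Fin.cases ?_ (fun l => Fin.cases ?_ (fun i => ?_) l) l) l <;>
      simp only [GMAlg.line, GMAlg.phi, GMAlg.spec, GMAlg.yImg, hypImg, tailPar, AlgHom.comp_apply,
        MvPolynomial.aeval_X, Fin.cons_zero, Fin.cons_succ, map_add, map_mul, MvPolynomial.aeval_C,
        AlgHom.commutes, Sum.elim_inl, Sum.elim_inr, Sum.map_inl, Sum.map_inr, MvPolynomial.algebraMap_eq,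
        ← Fin.succ_zero_eq_one]
  exact GradedRingHom.ext fun x => AlgHom.congr_fun h x

/-- A line of the family lies in a hyperplane, over `k`. -/
theorem exists_hyper (z : Fin (m + 1) ⊕ Fin (m + 1) → k) :
    ∃ j : CohB1.ProjSpace (m + 1) k ⟶ CohB1.ProjSpace (m + 1 + 1) k, IsClosedImmersion j ∧
      j ≫ CohB1.ProjSpace.toSpec (m + 1 + 1) k = CohB1.ProjSpace.toSpec (m + 1) k ∧
      Nonempty ((Scheme.Modules.pullback j).obj (_root_.Twist.twistProjSpace (m + 1 + 1) k 1) ≅ _root_.Twist.twistProjSpace (m + 1) k 1) ∧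
      lineMap (tailPar z) ≫ j = lineMap z := by
  obtain ⟨h, hci, hto, he⟩ := exists_emb (hypHom z) (fun r => MvPolynomial.aeval_C _ r) (hypHom_surjective z)
  refine ⟨_, hci, hto, he, ?_⟩
  show Proj.map (linHom (tailPar z)) (irrelevant_le _) ≫ Proj.map (hypHom z) h = Proj.map (linHom z) (irrelevant_le z)
  rw [← Proj.map_comp]
  simp only [linHom_comp_hypHom]

end Groth.Agent.RankTwo11.GM
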