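import Groth.Agent.Lib.RankTwo11.GMMain

/-!
# A line of generic splitting type
-/

set_option autoImplicit false
set_option linter.style.haveILetI false
set_option linter.unusedSectionVars false
set_option backward.isDefEq.respectTransparency false
set_option backward.isDefEq.respectTransparency.types false
set_option maxHeartbeats 1000000

universe u

open CategoryTheory CategoryTheory.Limits AlgebraicGeometry TopologicalSpace Opposite

noncomputable section

namespace Groth.Agent.RankTwo11.GM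

open Groth.Agent

variable {k : Type u} [Field k]

local notation "O₁" d:max => _root_.Twist.twistProjSpace 1 k d

/-- Two summands split. -/
def sumTwoIso (d : Fin 2 → ℤ) :
    (∐ fun j : Fin 2 => O₁ (d j)) ≅ O₁ (d 0) ⊞ O₁ (d 1) where
  hom := biprod.lift (P1Split.proj (fun j : Fin 2 => O₁ (d j)) 0) (P1Split.proj (fun j : Fin 2 => O₁ (d j)) 1)
  inv := biprod.desc (Sigma.ι (fun j : Fin 2 => O₁ (d j)) 0) (Sigma.ι (fun j : Fin 2 => O₁ (d j)) 1)
  hom_inv_id := by
    rw [biprod.lift_desc, ← P1Split.sum_proj_ι (fun j : Fin 2 => O₁ (d j)), Fin.sum_univ_two]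
  inv_hom_id := by
    refine biprod.hom_ext' _ _ ?_ ?_ <;>
      [rw [biprod.inl_desc_assoc, Category.comp_id]; rw [biprod.inr_desc_assoc, Category.comp_id]] <;>
      refine biprod.hom_ext _ _ ?_ ?_ <;>
      simp [P1Split.ι_proj_self, P1Split.ι_proj_ne (fun j : Fin 2 => O₁ (d j)) (show (0 : Fin 2) ≠ 1 by decide),
        P1Split.ι_proj_ne (fun j : Fin 2 => O₁ (d j)) (show (1 : Fin 2) ≠ 0 by decide)]

theorem twist_iso_eq {N : ℕ} (hN : 1 ≤ N) {a b : ℤ}
    (e : _root_.Twist.twistProjSpace N k a ≅ _root_.Twist.twistProjSpace N k b) : a = b := by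
  have h : ∀ {a b : ℤ} (_ : _root_.Twist.twistProjSpace N k a ≅ _root_.Twist.twistProjSpace N k b), ¬ b < a := fun {a b} e h => by
    obtain ⟨f, hf⟩ := exists_ne_zero_twist (k := k) (n := N) (le_refl a)
    exact hf (by rw [← Category.id_comp f, ← e.hom_inv_id, hom_eq_zero hN h e.hom, zero_comp, zero_comp])
  have h1 := h e
  have h2 := h e.symm
  omega

/-- The splitting type adds up to the determinant. -/
theorem deg_eq {d : Fin 2 → ℤ} {c : ℤ} (hF : FlatMod.IsFinLocFree (∐ fun j : Fin 2 => O₁ (d j)))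
    (h : ExtPow.IsExtPow 2 (∐ fun j : Fin 2 => O₁ (d j)) (O₁ c)) : d 0 + d 1 = c := by
  let f : Fin 2 → (CohB1.ProjSpace 1 k).Modules := fun j => O₁ (d j)
  let S : ShortComplex (CohB1.ProjSpace 1 k).Modules :=
    ShortComplex.mk (Sigma.ι f 0) (P1Split.proj f 1) (P1Split.ι_proj_ne f (by decide))
  let s : S.Splitting :=
    { r := P1Split.proj f 0
      s := Sigma.ι f 1
      f_r := P1Split.ι_proj_self f 0
      s_g := P1Split.ι_proj_self f 1
      id := (Fin.sum_univ_two fun i => P1Split.proj f i ≫ Sigma.ι f i).symm.trans (P1Split.sum_proj_ι f) }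
  have hS := s.shortExact
  obtain ⟨e⟩ := DetSES2.nonempty_det_iso S hS (p := 1) (q := 1) (n := 2) rfl (rank_O _)
    hF (rank_O _) (ExtFil4.isExtPow_one _) h (ExtFil4.isExtPow_one _)
    (M2.isFinLocFree_of_ofRank (rank_O _)) (M2.isFinLocFree_of_ofRank (rank_O _))
  exact (twist_iso_eq le_rfl (e ≪≫ addIso (d 0) (d 1))).symm

variable [CharZero k] {m : ℕ}

/-- Some line of the family has the generic splitting type. -/
theorem exists_line (E : (CohB1.ProjSpace (m + 1) k).Modules) (hE : FlatMod.IsFinLocFreeOfRank 2 E) (c k₀ : ℤ)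
    (hdet : ∃ L : (CohB1.ProjSpace (m + 1) k).Modules, ExtPow.IsExtPow 2 E L ∧ Nonempty (L ≅ _root_.Twist.twistProjSpace (m + 1) k c))
    (hk₀ : c + 2 * k₀ = 0 ∨ c + 2 * k₀ = -1)
    (hss : Subsingleton (Coh.HH (CohB1.ProjSpace (m + 1) k)
      (CohB1.tensorMod E (_root_.Twist.twistProjSpace (m + 1) k (-(c + k₀ + 1)))) 0)) :
    ∃ (z : Fin m ⊕ Fin m → k) (d : Fin 2 → ℤ), d 0 = -k₀ ∧ d 1 = c + k₀ ∧
      Nonempty ((Scheme.Modules.pullback (lineMap z)).obj E ≅ ∐ fun j : Fin 2 => O₁ (d j)) := by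
  obtain ⟨L, hL, ⟨eL⟩⟩ := hdet
  by_contra! hno
  set t : ℤ := -(c + k₀ + 1) with ht
  let D := CMReg18.projData k (m + 1)
  let G := D.tw E (t + 1)
  have eO : ∀ z : Fin m ⊕ Fin m → k,
      (Scheme.Modules.pullback (lineMap z)).obj (_root_.Twist.twistProjSpace (m + 1) k 1) ≅ O₁ 1 :=
    fun z => eqToIso (by simp) ≪≫ asIso (theta z ((1 : ℕ) : ℤ)) ≪≫ eqToIso (by simp)
  obtain ⟨σ, hσ⟩ := exists_hom (G := G)
    (M2.isFinLocFree_tensor (M2.isFinLocFree_of_ofRank hE) (M2.isFinLocFree_of_ofRank (rank_O _))) fun z => by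
    obtain ⟨d, hd, ⟨ed⟩⟩ := P1Split.exists_splitting k ((Scheme.Modules.pullback (lineMap z)).obj E)
      (M2.isFinLocFreeOfRank_pullback (lineMap z) hE)
    obtain ⟨ec⟩ := Hyper.nonempty_pull_twist (lineMap z) (eO z) c
    have hdeg : d 0 + d 1 = c := deg_eq (M2.isFinLocFree_of_iso ed (M2.isFinLocFree_of_ofRank
      (M2.isFinLocFreeOfRank_pullback (lineMap z) hE))) (Wedge2.isExtPow_of_iso ed ((Scheme.Modules.pullback (lineMap z)).mapIso eL ≪≫ ec)
      (Wedge2.isExtPow_pullback' (lineMap z) (M2.isQCoh_of_isFinLocFree (M2.isFinLocFree_of_ofRank hE)) hL))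
    have hd01 : d 1 ≤ d 0 := hd (by decide)
    have hne : d 0 ≠ -k₀ := fun h0 => (hno z d h0 (by omega)).false ed
    obtain ⟨α, hα⟩ : ∃ α : ℕ, d 0 + (t + 1) = (α : ℤ) := ⟨(d 0 + (t + 1)).toNat, by omega⟩
    obtain ⟨et⟩ := Hyper.nonempty_pull_twist (lineMap z) (eO z) (t + 1)
    let f : Fin 2 → (CohB1.ProjSpace 1 k).Modules := fun j => O₁ (d j)
    let e : (Scheme.Modules.pullback (lineMap z)).obj G ≅ CohB1.tensorMod (∐ f) (O₁ (t + 1)) :=
      M2.pullTensorIso (lineMap z) _ _ ≪≫ M2.tensorIso ed et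
    let a0 := addIso (k := k) (n := 1) (d 0) (t + 1) ≪≫ eqToIso (congrArg _ hα)
    let a1 := addIso (k := k) (n := 1) (d 1) (t + 1)
    refine ⟨α, d 1 + (t + 1), by omega, by omega,
      a0.inv ≫ (M2.tensorR _).map (Sigma.ι f 0) ≫ e.inv, e.hom ≫ (M2.tensorR _).map (P1Split.proj f 0) ≫ a0.hom,
      e.hom ≫ (M2.tensorR _).map (P1Split.proj f 1) ≫ a1.hom, a1.inv ≫ (M2.tensorR _).map (Sigma.ι f 1) ≫ e.inv, ?_, ?_⟩
    · simp only [Category.assoc, Iso.inv_hom_id_assoc]
      rw [← Functor.map_comp_assoc, P1Split.ι_proj_self, CategoryTheory.Functor.map_id]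
      exact (congrArg _ (Category.id_comp _)).trans a0.inv_hom_id
    · simp only [Category.assoc, Iso.hom_inv_id_assoc]
      rw [← Functor.map_comp_assoc, ← Functor.map_comp_assoc, ← Preadditive.comp_add, ← Preadditive.add_comp,
        ← Functor.map_add, ← Fin.sum_univ_two fun i => P1Split.proj f i ≫ Sigma.ι f i, P1Split.sum_proj_ι,
        CategoryTheory.Functor.map_id]
      exact (congrArg _ (Category.id_comp _)).trans e.hom_inv_id
  refine comp_iso_ne_zero (comp_iso_ne_zero (iso_comp_ne_zero (tensor_ne_zero (D := _root_.Twist.twistProjSpace (m + 1) k (-1))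
      (negIso' (k := k) (n := m + 1) 1) hσ) ?_) (D.twTwist E (t + 1) (-1))) (D.twIso E (show t + 1 + -1 = t by ring))
    (eq_zero_of_subsingleton hss _)
  exact (negIso (k := k) (n := m + 1) 1).symm ≪≫ M2.tensorIso (eqToIso (by simp)) (Iso.refl _)

end Groth.Agent.RankTwo11.GM
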