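import Groth.Agent.Lib.RankTwo11.Proj
import Groth.Agent.Lib.CMReg18.Hyperplane
import Groth.Agent.S0844

/-!
# Extensions of twists split
-/

set_option autoImplicit false
set_option linter.style.haveILetI false
set_option linter.unusedSectionVars false
set_option backward.isDefEq.respectTransparency false
set_option backward.isDefEq.respectTransparency.types false
set_option maxHeartbeats 1000000

universe u

open CategoryTheory CategoryTheory.Limits AlgebraicGeometry TopologicalSpace Opposite

noncomputable section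

namespace Groth.Agent.RankTwo11

open Groth.Agent

variable {k : Type u} [Field k] {n : ℕ}

local notation "O" d:max => _root_.Twist.twistProjSpace n k d

/-- Sections lift along a surjection whose kernel has no `H¹`. -/
theorem exists_lift (A : Type u) [CommRing A] {X : Scheme.{u}} [X.Over (Spec (CommRingCat.of A))]
    {S : ShortComplex X.Modules} (hS : S.ShortExact) (h : Subsingleton (Coh.HH X S.X₁ 1))
    (s : Coh.structureModule X ⟶ S.X₃) : ∃ t, t ≫ S.g = s := by
  haveI : Subsingleton (Coh.HH X S.X₁ (0 + 1)) := h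
  obtain ⟨y, hy⟩ := (CurveCoh17.exact_hmap_hdelta A hS 0 ((CurveCoh17.hh0 S.X₃).symm (s.app ⊤ (M1.one ⊤)))).1
    (Subsingleton.elim _ _)
  refine ⟨M1.secHom (CurveCoh17.hh0 S.X₂ y), M1.unit_hom_ext ?_⟩
  rw [Scheme.Modules.Hom.comp_app, CategoryTheory.comp_apply, M1.secHom_app_one, ← CurveCoh17.hh0_hmap A, hy,
    AddEquiv.apply_symm_apply]

/-- An extension of twists on projective space of dimension at least two splits. -/
theorem nonempty_splitting (hn : 2 ≤ n) {a b : ℤ} {S : ShortComplex (CohB1.ProjSpace n k).Modules}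
    (hS : S.ShortExact) (ea : S.X₁ ≅ O a) (eb : S.X₃ ≅ O b) : Nonempty S.Splitting := by
  haveI := hS.mono_f
  haveI := hS.epi_g
  have hS' : (S.map (M2.tensorR (O (-b)))).ShortExact := (CMReg18.projData k n).shortExact_tw hS (-b)
  have hvan : Subsingleton (Coh.HH (CohB1.ProjSpace n k) (CohB1.tensorMod S.X₁ (O (-b))) 1) :=
    CMReg18.van_iso k ((M2.tensorIso ea (Iso.refl _) ≪≫ addIso a (-b))).symm
      (S0844.result k n (a + -b) 1 (by omega) (by omega))
  let s : Coh.structureModule (CohB1.ProjSpace n k) ⟶ CohB1.tensorMod S.X₃ (O (-b)) :=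
    ((M2.tensorIso eb (Iso.refl (O (-b))) ≪≫ negIso b).inv)
  obtain ⟨t, ht⟩ := exists_lift k hS' hvan s
  obtain ⟨σ, hσ⟩ := ES11.tensorR_map_surjective (negIso' b)
    ((M2.tensorIso eb (Iso.refl (O (-b))) ≪≫ negIso b).hom ≫ t)
  have hσg : σ ≫ S.g = 𝟙 S.X₃ := ES11.tensorR_map_injective (negIso' b) (by
    refine ((M2.tensorR (O (-b))).map_comp σ S.g).trans ?_
    show M2.tensorMap σ (𝟙 _) ≫ M2.tensorMap S.g (𝟙 _) = _
    rw [hσ, Category.assoc]
    refine (congrArg (_ ≫ ·) ht).trans ?_
    show (M2.tensorIso eb (Iso.refl (O (-b))) ≪≫ negIso b).hom ≫ (M2.tensorIso eb (Iso.refl (O (-b))) ≪≫ negIso b).inv = _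
    rw [Iso.hom_inv_id, M2.tensorMap_id])
  exact ⟨ShortComplex.Splitting.ofExactOfSection S hS.exact σ hσg inferInstance⟩

end Groth.Agent.RankTwo11
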