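import Groth.Agent.Lib.RankTwo11.GMGeo
import Groth.Agent.Lib.RankTwo11.Split

/-!
# Lines of generic splitting type

If a bundle of rank two splits on every line of the family as `O(a) ⊕ O(b)` with `a + t ≥ 0` and `b + t + 1 < 0`,
then `E(t)` has a section.
-/

set_option autoImplicit false
set_option linter.style.haveILetI false
set_option linter.unusedSectionVars false
set_option backward.isDefEq.respectTransparency false
set_option backward.isDefEq.respectTransparency.types false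
set_option maxHeartbeats 2000000

universe u

open CategoryTheory CategoryTheory.Limits AlgebraicGeometry TopologicalSpace Opposite

noncomputable section

namespace Groth.Agent.RankTwo11.GM

open Groth.Agent

variable {k : Type u} [Field k] {N m : ℕ}

theorem fm_inj {c : ℕ} {f g : MvPolynomial (Fin (N + 1)) k} (hf : f ∈ CohB1.polyGrading N k c)
    (hg : g ∈ CohB1.polyGrading N k c) {a : ℕ} {b : ℤ} (h : (c : ℤ) + (a : ℤ) = b) (e : fm f hf h = fm g hg h) : f = g := by
  have hd : f - g ∈ CohB1.polyGrading N k c := Submodule.sub_mem _ hf hg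
  refine sub_eq_zero.1 (eq_zero_of_fm hd h ?_)
  have h1 := fm_add (f - g) g hd hg (Submodule.add_mem _ hd hg) h
  rw [fm_congr (Submodule.add_mem _ hd hg) hf (sub_add_cancel f g) h, e] at h1
  exact right_eq_add.1 h1

/-- No maps from a higher twist to a lower one. -/
theorem hom_eq_zero (hN : 1 ≤ N) {a b : ℤ} (hab : b < a)
    (f : _root_.Twist.twistProjSpace N k a ⟶ _root_.Twist.twistProjSpace N k b) : f = 0 := by
  refine ES11.tensorR_map_injective (negIso' (k := k) (n := N) a) ?_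
  rw [tensor_zero_left, ← cancel_epi (negIso (k := k) (n := N) a).inv, comp_zero]
  refine eq_zero_of_subsingleton (CMReg18.van_iso k (addIso (k := k) (n := N) b (-a)).symm
    ((subsingleton_O_iff hN _).2 (by omega))) _

/-- The image of a sum of twists decomposes. -/
theorem sum_pull {l : ℕ} (z : Fin m ⊕ Fin m → k) (D : ℕ) :
    ∑ b, ((Scheme.Modules.pullback (lineMap z)).map
        (P1Split.proj (fun _ : Fin l => _root_.Twist.twistProjSpace (m + 1) k (D : ℤ)) b) ≫ theta z (D : ℤ)) ≫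
      inv (theta z (D : ℤ)) ≫ (Scheme.Modules.pullback (lineMap z)).map
        (Sigma.ι (fun _ : Fin l => _root_.Twist.twistProjSpace (m + 1) k (D : ℤ)) b) = 𝟙 _ := by
  haveI : (Scheme.Modules.pullback (lineMap z)).Additive :=
    (Scheme.Modules.pullbackPushforwardAdjunction _).left_adjoint_additive
  rw [← CategoryTheory.Functor.map_id, ← P1Split.sum_proj_ι, Functor.map_sum]
  refine Finset.sum_congr rfl fun b _ => ?_
  rw [Category.assoc, IsIso.hom_inv_id_assoc, Functor.map_comp]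

/-- The basic construction: an embedding whose cokernel embeds. -/
theorem exists_presentation {G : (CohB1.ProjSpace N k).Modules} (hG : FlatMod.IsFinLocFree G) :
    ∃ (D g l r : ℕ) (S : ShortComplex (CohB1.ProjSpace N k).Modules) (ι : G ⟶ ∐ fun _ : Fin l => _root_.Twist.twistProjSpace N k (D : ℤ))
      (M : (∐ fun _ : Fin l => _root_.Twist.twistProjSpace N k (D : ℤ)) ⟶
        ∐ fun _ : Fin r => _root_.Twist.twistProjSpace N k ((g + D : ℕ) : ℤ)) (j : S.X₃ ⟶ _)
      (e1 : G ≅ S.X₁) (e2 : S.X₂ ≅ _),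
      1 ≤ D ∧ S.ShortExact ∧ FlatMod.IsFinLocFree S.X₃ ∧ ι = e1.hom ≫ S.f ≫ e2.hom ∧ M = e2.inv ≫ S.g ≫ j ∧
      ∃ S' : ShortComplex (CohB1.ProjSpace N k).Modules, S'.ShortExact ∧ FlatMod.IsFinLocFree S'.X₃ ∧
        ∃ (f1 : S.X₃ ≅ S'.X₁) (f2 : S'.X₂ ≅ _), j = f1.hom ≫ S'.f ≫ f2.hom := by
  obtain ⟨D, l, S, hD, hS, ⟨e1⟩, ⟨e2⟩, h3⟩ := exists_embedding hG 1
  obtain ⟨D', r, S', hD', hS', ⟨f1⟩, ⟨f2⟩, h3'⟩ := exists_embedding h3 (D : ℤ)
  obtain ⟨g, rfl⟩ : ∃ g, D' = g + D := ⟨D' - D, by omega⟩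
  exact ⟨D, g, l, r, S, _, _, f1.inv ≫ S'.f ≫ f2.hom, e1.symm, e2, by omega, hS, h3, rfl, rfl, S', hS', h3',
    f1.symm, f2, rfl⟩

/-- The core of the theorem on one bundle `G = E(t + 1)`. -/
theorem exists_hom [CharZero k] {G : (CohB1.ProjSpace (m + 1) k).Modules} (hG : FlatMod.IsFinLocFree G)
    (hline : ∀ z : Fin m ⊕ Fin m → k, ∃ (α : ℕ) (β : ℤ), 1 ≤ α ∧ β < 0 ∧
      ∃ (u : _root_.Twist.twistProjSpace 1 k (α : ℤ) ⟶ (Scheme.Modules.pullback (lineMap z)).obj G)
        (p : (Scheme.Modules.pullback (lineMap z)).obj G ⟶ _root_.Twist.twistProjSpace 1 k (α : ℤ))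
        (q : (Scheme.Modules.pullback (lineMap z)).obj G ⟶ _root_.Twist.twistProjSpace 1 k β)
        (w : _root_.Twist.twistProjSpace 1 k β ⟶ (Scheme.Modules.pullback (lineMap z)).obj G),
        u ≫ p = 𝟙 _ ∧ p ≫ u + q ≫ w = 𝟙 _) :
    ∃ σ : _root_.Twist.twistProjSpace (m + 1) k ((1 : ℕ) : ℤ) ⟶ G, σ ≠ 0 := by
  classical
  obtain ⟨D, g, l, r, S, ι, M, j, e1, e2, hD, hS, h3, hι, hM, S', hS', h3', f1, f2, hj⟩ := exists_presentation hG
  have hh : (g : ℤ) + (D : ℤ) = ((g + D : ℕ) : ℤ) := by push_cast; ring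
  choose Ψ hΨ hΨM using fun (a : Fin r) (b : Fin l) => exists_fm hh
    (Sigma.ι (fun _ : Fin l => _root_.Twist.twistProjSpace (m + 1) k (D : ℤ)) b ≫ M ≫
      P1Split.proj (fun _ : Fin r => _root_.Twist.twistProjSpace (m + 1) k ((g + D : ℕ) : ℤ)) a)
  have hmem : ∀ {n d : ℕ} {f : MvPolynomial (Fin (n + 1)) k}, f ∈ CohB1.polyGrading n k d ↔ f.IsHomogeneous d :=
    fun {n d f} => MvPolynomial.mem_homogeneousSubmodule _ _
  haveI := hS.mono_f
  haveI := hS'.mono_f
  haveI : Mono j := by rw [hj]; infer_instance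
  have hιmono : Mono ι := by rw [hι]; infer_instance
  -- pulled back to a line
  let J : (Fin m ⊕ Fin m → k) → ((CohB1.ProjSpace (m + 1) k).Modules ⥤ (CohB1.ProjSpace 1 k).Modules) :=
    fun z => Scheme.Modules.pullback (lineMap z)
  have hSz : ∀ z, (S.map (J z)).ShortExact := fun z =>
    CMReg18.shortExact_pullback _ S hS (KFlat.Sch.isFlat_of_isFinLocFree h3)
  have hjz : ∀ z, Mono ((J z).map j) := fun z => by
    haveI : Mono ((J z).map S'.f) := (CMReg18.shortExact_pullback _ S' hS' (KFlat.Sch.isFlat_of_isFinLocFree h3')).mono_f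
    rw [hj, Functor.map_comp, Functor.map_comp]
    infer_instance
  have hιz : ∀ z, Mono ((J z).map ι) := fun z => by
    haveI : Mono ((J z).map S.f) := (hSz z).mono_f
    rw [hι, Functor.map_comp, Functor.map_comp]
    infer_instance
  have hιM : ι ≫ M = 0 := by rw [hι, hM]; simp
  have hliftz : ∀ z {X : (CohB1.ProjSpace 1 k).Modules} (φ : X ⟶ (J z).obj _), φ ≫ (J z).map M = 0 →
      ∃ ψ : X ⟶ (J z).obj G, ψ ≫ (J z).map ι = φ := fun z {X} φ hφ => by
    haveI := hjz z
    haveI := (hSz z).mono_f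
    have h0 : (φ ≫ (J z).map e2.inv) ≫ (J z).map S.g = 0 := by
      rw [← cancel_mono ((J z).map j), zero_comp, ← hφ, hM, Functor.map_comp, Functor.map_comp]
      simp only [Category.assoc]
    refine ⟨(hSz z).exact.lift _ h0 ≫ (J z).map e1.inv, ?_⟩
    rw [hι, Category.assoc, ← Functor.map_comp, Iso.inv_hom_id_assoc, Functor.map_comp, ← Category.assoc,
      show (hSz z).exact.lift _ h0 ≫ (J z).map S.f = _ from (hSz z).exact.lift_f _ h0, Category.assoc,
      ← Functor.map_comp, Iso.inv_hom_id, CategoryTheory.Functor.map_id, Category.comp_id]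
  -- coordinates on a line
  let In := fun z (b : Fin l) => inv (theta z (D : ℤ)) ≫
    (J z).map (Sigma.ι (fun _ : Fin l => _root_.Twist.twistProjSpace (m + 1) k (D : ℤ)) b)
  let Pb := fun z (b : Fin l) =>
    (J z).map (P1Split.proj (fun _ : Fin l => _root_.Twist.twistProjSpace (m + 1) k (D : ℤ)) b) ≫ theta z (D : ℤ)
  let Pr := fun z (a : Fin r) =>
    (J z).map (P1Split.proj (fun _ : Fin r => _root_.Twist.twistProjSpace (m + 1) k ((g + D : ℕ) : ℤ)) a) ≫
      theta z ((g + D : ℕ) : ℤ)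
  have hdec : ∀ z, ∑ b, Pb z b ≫ In z b = 𝟙 _ := fun z => sum_pull z D
  have hdec' : ∀ z {X : (CohB1.ProjSpace 1 k).Modules} (φ : X ⟶ (J z).obj (∐ fun _ : Fin r => _root_.Twist.twistProjSpace (m + 1) k ((g + D : ℕ) : ℤ))),
      (∀ a, φ ≫ Pr z a = 0) → φ = 0 := fun z {X} φ hφ => by
    rw [← Category.comp_id φ, ← sum_pull (l := r) z (g + D), Preadditive.comp_sum]
    exact Finset.sum_eq_zero fun a _ => by rw [← Category.assoc, show φ ≫ _ = 0 from hφ a, zero_comp]
  have hentry : ∀ z b a, In z b ≫ (J z).map M ≫ Pr z a = fm (linHom z (Ψ a b)) ((linHom z).map_mem (hΨ a b)) hh := fun z b a => by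
    rw [show In z b ≫ (J z).map M ≫ Pr z a =
      inv (theta z (D : ℤ)) ≫ (J z).map (fm (Ψ a b) (hΨ a b) hh) ≫ theta z ((g + D : ℕ) : ℤ) by
        rw [hΨM]; simp only [In, Pr, Functor.map_comp, Category.assoc], theta_natural, IsIso.inv_hom_id_assoc]
  -- a vector of forms and its image
  have hker : ∀ z {d c : ℕ} (hdc : (d : ℤ) + (c : ℤ) = D) (v : Fin l → MvPolynomial (Fin 2) k) (hv : ∀ b, v b ∈ CohB1.polyGrading 1 k d)
      (a : Fin r),
      (∑ b, fm (v b) (hv b) hdc ≫ In z b) ≫ (J z).map M ≫ Pr z a =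
        fm (∑ b, GMAlg.line z (Ψ a b) * v b)
          (Submodule.sum_mem _ fun b _ => hmem.2 ((hmem.1 ((linHom z).map_mem (hΨ a b))).mul (hmem.1 (hv b))))
          (show ((g + d : ℕ) : ℤ) + (c : ℤ) = ((g + D : ℕ) : ℤ) by push_cast; omega) := fun z {d c} hdc v hv a => by
    rw [Preadditive.sum_comp, fm_sum _ (fun b => GMAlg.line z (Ψ a b) * v b)
      (fun b => hmem.2 ((hmem.1 ((linHom z).map_mem (hΨ a b))).mul (hmem.1 (hv b))))]
    refine Finset.sum_congr rfl fun b _ => ?_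
    rw [Category.assoc, hentry]
    exact fm_comp _ _ _ _ _ _ rfl _ _ _
  obtain ⟨T, hT0, hTd, hTΨ⟩ : ∃ T : Fin l → GMAlg.S k m, T ≠ 0 ∧ (∀ b, (T b).IsHomogeneous (D - 1)) ∧
      ∀ a, ∑ b, Ψ a b * T b = 0 := by
    refine GMAlg.exists_kernel (g := g) Ψ (fun a b => hmem.1 (hΨ a b)) (fun z => ?_) (fun z v w hv hw hkv hkw => ?_)
    · -- a vector on every line
      obtain ⟨α, β, hα, hβ, u, p, q, w, hup, hid⟩ := hline z
      have hd1 : ((D - 1 : ℕ) : ℤ) + ((1 : ℕ) : ℤ) = (D : ℤ) := by omega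
      have hα1 : ((α - 1 : ℕ) : ℤ) + ((1 : ℕ) : ℤ) = (α : ℤ) := by omega
      have hX : (MvPolynomial.X 0 : MvPolynomial (Fin 2) k) ^ (α - 1) ∈ CohB1.polyGrading 1 k (α - 1) :=
        hmem.2 (MvPolynomial.isHomogeneous_X_pow 0 _)
      let φ := fm _ hX hα1 ≫ u ≫ (J z).map ι
      choose v hv hvφ using fun b => exists_fm hd1 (φ ≫ Pb z b)
      have hsum : ∑ b, fm (v b) (hv b) hd1 ≫ In z b = φ := by
        rw [← Category.comp_id φ, ← hdec z, Preadditive.comp_sum]
        exact Finset.sum_congr rfl fun b _ => by rw [hvφ, Category.assoc]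
      refine ⟨v, fun hv0 => ?_, fun b => hmem.1 (hv b), fun a => ?_⟩
      · have hφ0 : φ = 0 := hsum.symm.trans (Finset.sum_eq_zero fun b _ => by
          rw [fm_zero (hv b) hd1 (congrFun hv0 b), zero_comp])
        haveI := hιz z
        have h1 : fm _ hX hα1 ≫ u = 0 := by rw [← cancel_mono ((J z).map ι), zero_comp, Category.assoc]; exact hφ0
        have h2 : fm _ hX hα1 = 0 := by rw [← Category.comp_id (fm _ hX hα1), ← hup, ← Category.assoc, h1, zero_comp]
        exact pow_ne_zero _ (MvPolynomial.X_ne_zero _) (eq_zero_of_fm hX hα1 h2)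
      · refine eq_zero_of_fm _ _ ((hker z hd1 v hv a).symm.trans ?_)
        rw [hsum]
        show (fm _ hX hα1 ≫ u ≫ (J z).map ι) ≫ (J z).map M ≫ Pr z a = 0
        simp only [Category.assoc]
        rw [← Functor.map_comp_assoc, hιM, Functor.map_zero, zero_comp, comp_zero, comp_zero]
    · -- proportionality
      obtain ⟨α, β, hα, hβ, u, p, q, w', hup, hid⟩ := hline z
      have lift : ∀ {d c : ℕ} (hdc : (d : ℤ) + (c : ℤ) = D) (v : Fin l → MvPolynomial (Fin 2) k) (hv : ∀ b, v b ∈ CohB1.polyGrading 1 k d),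
          (∀ a, ∑ b, GMAlg.line z (Ψ a b) * v b = 0) →
          ∃ χ : _root_.Twist.twistProjSpace 1 k (c : ℤ) ⟶ _root_.Twist.twistProjSpace 1 k (α : ℤ),
            ∀ b, fm (v b) (hv b) hdc = χ ≫ u ≫ (J z).map ι ≫ Pb z b := fun {d c} hdc v hv h => by
        obtain ⟨ψ, hψ⟩ := hliftz z (∑ b, fm (v b) (hv b) hdc ≫ In z b) (hdec' z _ fun a => by
          rw [Category.assoc, hker z hdc v hv a]
          exact fm_zero _ _ (h a))
        refine ⟨ψ ≫ p, fun b => ?_⟩
        have e : ψ = (ψ ≫ p) ≫ u := by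
          conv_lhs => rw [← Category.comp_id ψ, ← hid, Preadditive.comp_add, ← Category.assoc ψ q,
            hom_eq_zero (N := 1) le_rfl (show β < (c : ℤ) by omega) (ψ ≫ q), zero_comp, add_zero]
          rw [Category.assoc]
        rw [← Category.assoc, ← e, ← Category.assoc, hψ, Preadditive.sum_comp]
        rw [Finset.sum_eq_single b]
        · rw [Category.assoc, show In z b ≫ Pb z b = 𝟙 _ by
            simp only [In, Pb, Category.assoc]
            rw [← Functor.map_comp_assoc, P1Split.ι_proj_self, CategoryTheory.Functor.map_id, Category.id_comp,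
              IsIso.inv_hom_id], Category.comp_id]
        · intro c' _ hc'
          rw [Category.assoc, show In z c' ≫ Pb z b = 0 by
            simp only [In, Pb, Category.assoc]
            rw [← Functor.map_comp_assoc, P1Split.ι_proj_ne _ hc', Functor.map_zero, zero_comp, comp_zero], comp_zero]
        · exact fun h => absurd (Finset.mem_univ b) h
      have hv' : ∀ b, v b ∈ CohB1.polyGrading 1 k (D - 1) := fun b => hmem.2 (hv b)
      have hw' : ∀ b, w b ∈ CohB1.polyGrading 1 k (D - 1 + 1) := fun b => hmem.2 (hw b)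
      obtain ⟨χ, hχ⟩ := lift (c := 1) (by omega) v hv' hkv
      obtain ⟨χ', hχ'⟩ := lift (c := 0) (by omega) w hw' hkw
      by_cases hαD : α ≤ D
      · choose U hU hUb using fun b => exists_fm (show ((D - α : ℕ) : ℤ) + (α : ℤ) = (D : ℤ) by omega) (u ≫ (J z).map ι ≫ Pb z b)
        obtain ⟨f, hf, hfχ⟩ := exists_fm (show ((α - 1 : ℕ) : ℤ) + ((1 : ℕ) : ℤ) = (α : ℤ) by omega) χ
        obtain ⟨f', hf', hfχ'⟩ := exists_fm (show ((α : ℕ) : ℤ) + ((0 : ℕ) : ℤ) = (α : ℤ) by omega) χ'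
        have e1 : ∀ b, v b = U b * f := fun b => by
          refine fm_inj (hv' b) (hmem.2 (show (U b * f).IsHomogeneous (D - 1) from
            (show D - α + (α - 1) = D - 1 by omega) ▸ (hmem.1 (hU b)).mul (hmem.1 hf)))
            (show ((D - 1 : ℕ) : ℤ) + ((1 : ℕ) : ℤ) = (D : ℤ) by omega) ?_
          rw [hχ b, ← hUb, ← hfχ]
          exact fm_comp _ _ _ _ _ _ rfl _ _ _
        have e2 : ∀ b, w b = U b * f' := fun b => by
          refine fm_inj (hw' b) (hmem.2 (show (U b * f').IsHomogeneous (D - 1 + 1) from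
            (show D - α + α = D - 1 + 1 by omega) ▸ (hmem.1 (hU b)).mul (hmem.1 hf')))
            (show ((D - 1 + 1 : ℕ) : ℤ) + ((0 : ℕ) : ℤ) = (D : ℤ) by omega) ?_
          rw [hχ' b, ← hUb, ← hfχ']
          exact fm_comp _ _ _ _ _ _ rfl _ _ _
        intro a b
        rw [e1, e1, e2, e2]
        ring
      · intro a b
        have h0 : ∀ b, v b = 0 := fun b => eq_zero_of_fm (hv' b)
          (show ((D - 1 : ℕ) : ℤ) + ((1 : ℕ) : ℤ) = (D : ℤ) by omega) (by
            rw [hχ b, hom_eq_zero (N := 1) le_rfl (show (D : ℤ) < α by omega) (u ≫ (J z).map ι ≫ Pb z b), comp_zero])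
        simp [h0]
  -- the global section
  have hd1 : ((D - 1 : ℕ) : ℤ) + ((1 : ℕ) : ℤ) = (D : ℤ) := by omega
  let Φ := ∑ b, fm (T b) (hmem.2 (hTd b)) hd1 ≫ Sigma.ι (fun _ : Fin l => _root_.Twist.twistProjSpace (m + 1) k (D : ℤ)) b
  have hΦ : Φ ≫ M = 0 := by
    rw [← Category.comp_id (Φ ≫ M), ← P1Split.sum_proj_ι, Preadditive.comp_sum]
    refine Finset.sum_eq_zero fun a _ => ?_
    rw [← Category.assoc, Category.assoc Φ, show Φ ≫ M ≫ _ = 0 from ?_, zero_comp]
    rw [Preadditive.sum_comp]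
    refine (Finset.sum_congr rfl fun b _ => (Category.assoc _ _ _).trans ((congrArg _ (hΨM a b).symm).trans
      (fm_comp (T b) (Ψ a b) (Ψ a b * T b) _ _ (hmem.2 ((hmem.1 (hΨ a b)).mul (hTd b))) rfl hd1 hh
        (show ((g + (D - 1) : ℕ) : ℤ) + ((1 : ℕ) : ℤ) = ((g + D : ℕ) : ℤ) by omega)))).trans ?_
    rw [← fm_sum]
    exact fm_zero _ _ (hTΨ a)
  haveI := hS.mono_f
  have h0 : (Φ ≫ e2.inv) ≫ S.g = 0 := by
    rw [← cancel_mono j, zero_comp, ← hΦ, hM]
    simp only [Category.assoc]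
  refine ⟨hS.exact.lift _ h0 ≫ e1.inv, fun hσ => hT0 (funext fun b => ?_)⟩
  have hΦ0 : Φ = 0 := by
    rw [← cancel_mono e2.inv, zero_comp, ← hS.exact.lift_f _ h0,
      show hS.exact.lift _ h0 = 0 by rw [← cancel_mono e1.inv, hσ, zero_comp], zero_comp]
  refine eq_zero_of_fm (hmem.2 (hTd b)) hd1 ?_
  have := congrArg (· ≫ P1Split.proj (fun _ : Fin l => _root_.Twist.twistProjSpace (m + 1) k (D : ℤ)) b) hΦ0
  simp only [Φ, Preadditive.sum_comp, zero_comp, Category.assoc] at this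
  rwa [Finset.sum_eq_single b (fun c _ hc => by rw [P1Split.ι_proj_ne _ hc, comp_zero]) (fun h => absurd (Finset.mem_univ b) h),
    P1Split.ι_proj_self, Category.comp_id] at this

end Groth.Agent.RankTwo11.GM
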