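import Groth.Agent.Lib.RankTwo11.GMPres

/-!
# Restriction of stable bundles of odd degree to a hyperplane
-/

set_option autoImplicit false
set_option linter.style.haveILetI false
set_option linter.unusedSectionVars false
set_option backward.isDefEq.respectTransparency false
set_option backward.isDefEq.respectTransparency.types false
set_option maxHeartbeats 2000000

universe u

open CategoryTheory CategoryTheory.Limits AlgebraicGeometry TopologicalSpace Opposite
open scoped HomogeneousIdeal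

noncomputable section

namespace Groth.Agent.RankTwo11.GM

open Groth.Agent

variable {k : Type u} [Field k] {m : ℕ}

theorem exists_hom_of_not_subsingleton {N : ℕ} {F : (CohB1.ProjSpace N k).Modules}
    (h : ¬ Subsingleton (Coh.HH (CohB1.ProjSpace N k) F 0)) :
    ∃ σ : _root_.Twist.twistProjSpace N k ((0 : ℕ) : ℤ) ⟶ F, σ ≠ 0 := by
  haveI : Nontrivial Γ(F, ⊤) := by
    haveI : Nontrivial (Coh.HH (CohB1.ProjSpace N k) F 0) := not_subsingleton_iff_nontrivial.1 h
    exact (CurveCoh17.hh0 F).toEquiv.symm.nontrivial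
  obtain ⟨x, hx⟩ := exists_ne (0 : Γ(F, ⊤))
  exact ⟨_, iso_comp_ne_zero (secHom_ne_zero hx) (eqToIso (congrArg _ Nat.cast_zero) ≪≫ zeroIso)⟩

/-- Twisting a split restriction. -/
theorem split_data {E : (CohB1.ProjSpace (m + 1) k).Modules} (z : Fin m ⊕ Fin m → k) {d : Fin 2 → ℤ}
    (ed : (Scheme.Modules.pullback (lineMap z)).obj E ≅ ∐ fun j : Fin 2 => _root_.Twist.twistProjSpace 1 k (d j))
    (t α β : ℤ) (hα : d 0 + t = α) (hβ : d 1 + t = β) :
    ∃ (u : _root_.Twist.twistProjSpace 1 k α ⟶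
        (Scheme.Modules.pullback (lineMap z)).obj (CohB1.tensorMod E (_root_.Twist.twistProjSpace (m + 1) k t)))
      (p : (Scheme.Modules.pullback (lineMap z)).obj (CohB1.tensorMod E (_root_.Twist.twistProjSpace (m + 1) k t)) ⟶
        _root_.Twist.twistProjSpace 1 k α)
      (q : (Scheme.Modules.pullback (lineMap z)).obj (CohB1.tensorMod E (_root_.Twist.twistProjSpace (m + 1) k t)) ⟶
        _root_.Twist.twistProjSpace 1 k β)
      (w : _root_.Twist.twistProjSpace 1 k β ⟶
        (Scheme.Modules.pullback (lineMap z)).obj (CohB1.tensorMod E (_root_.Twist.twistProjSpace (m + 1) k t))),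
      u ≫ p = 𝟙 _ ∧ p ≫ u + q ≫ w = 𝟙 _ := by
  have eO : (Scheme.Modules.pullback (lineMap z)).obj (_root_.Twist.twistProjSpace (m + 1) k 1) ≅
      _root_.Twist.twistProjSpace 1 k 1 := eqToIso (by simp) ≪≫ asIso (theta z ((1 : ℕ) : ℤ)) ≪≫ eqToIso (by simp)
  obtain ⟨et⟩ := Hyper.nonempty_pull_twist (lineMap z) eO t
  let f : Fin 2 → (CohB1.ProjSpace 1 k).Modules := fun j => _root_.Twist.twistProjSpace 1 k (d j)
  let e : (Scheme.Modules.pullback (lineMap z)).obj (CohB1.tensorMod E (_root_.Twist.twistProjSpace (m + 1) k t)) ≅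
      CohB1.tensorMod (∐ f) (_root_.Twist.twistProjSpace 1 k t) := M2.pullTensorIso (lineMap z) _ _ ≪≫ M2.tensorIso ed et
  let a0 := addIso (k := k) (n := 1) (d 0) t ≪≫ eqToIso (congrArg _ hα)
  let a1 := addIso (k := k) (n := 1) (d 1) t ≪≫ eqToIso (congrArg _ hβ)
  refine ⟨a0.inv ≫ (M2.tensorR _).map (Sigma.ι f 0) ≫ e.inv, e.hom ≫ (M2.tensorR _).map (P1Split.proj f 0) ≫ a0.hom,
    e.hom ≫ (M2.tensorR _).map (P1Split.proj f 1) ≫ a1.hom, a1.inv ≫ (M2.tensorR _).map (Sigma.ι f 1) ≫ e.inv, ?_, ?_⟩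
  · simp only [Category.assoc, Iso.inv_hom_id_assoc]
    rw [← Functor.map_comp_assoc, P1Split.ι_proj_self, CategoryTheory.Functor.map_id]
    exact (congrArg _ (Category.id_comp _)).trans a0.inv_hom_id
  · simp only [Category.assoc, Iso.hom_inv_id_assoc]
    rw [← Functor.map_comp_assoc, ← Functor.map_comp_assoc, ← Preadditive.comp_add, ← Preadditive.add_comp,
      ← Functor.map_add, ← Fin.sum_univ_two fun i => P1Split.proj f i ≫ Sigma.ι f i, P1Split.sum_proj_ι,
      CategoryTheory.Functor.map_id]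
    exact (congrArg _ (Category.id_comp _)).trans e.hom_inv_id

/-- The cut, graded. -/
def cutHom (j : Fin (m + 1)) (p q : k) : CohB1.polyGrading (m + 1 + 1) k →+*ᵍ CohB1.polyGrading (m + 1) k :=
  { (GMAlg.cut j p q).toRingHom with
    map_mem := fun {i x} hx => by
      show GMAlg.cut j p q x ∈ CohB1.polyGrading (m + 1) k i
      rw [CohB1.polyGrading, MvPolynomial.mem_homogeneousSubmodule] at hx ⊢
      have h := hx.aeval (GMAlg.cutImg j p q) (n := 1) fun l => by
        refine Fin.cases (MvPolynomial.isHomogeneous_X k _) (fun l => Fin.cases (MvPolynomial.isHomogeneous_X k _) (fun l => ?_) l) l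
        show ((j.insertNth (MvPolynomial.C p * MvPolynomial.X 0 + MvPolynomial.C q * MvPolynomial.X 1)
          fun i => MvPolynomial.X i.succ.succ : Fin (m + 1) → GMAlg.S k m) l).IsHomogeneous 1
        induction l using Fin.succAboveCases j with
        | x =>
          rw [Fin.insertNth_apply_same]
          exact (MvPolynomial.isHomogeneous_C_mul_X _ _).add (MvPolynomial.isHomogeneous_C_mul_X _ _)
        | p i =>
          rw [Fin.insertNth_apply_succAbove]
          exact MvPolynomial.isHomogeneous_X k _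
      rw [one_mul] at h
      exact h }

theorem cutHom_surjective (j : Fin (m + 1)) (p q : k) : Function.Surjective (cutHom j p q) := fun y => by
  show ∃ x, GMAlg.cut j p q x = y
  induction y using MvPolynomial.induction_on with
  | C r => exact ⟨MvPolynomial.C r, MvPolynomial.aeval_C _ _⟩
  | add f f' hf hf' =>
    obtain ⟨x, rfl⟩ := hf
    obtain ⟨x', rfl⟩ := hf'
    exact ⟨x + x', map_add _ _ _⟩
  | mul_X f l hf =>
    obtain ⟨x, rfl⟩ := hf
    refine Fin.cases ?_ (fun l => Fin.cases ?_ (fun i => ?_) l) l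
    · exact ⟨x * MvPolynomial.X 0, by rw [map_mul, show GMAlg.cut j p q (MvPolynomial.X 0) = MvPolynomial.X 0 from
        MvPolynomial.aeval_X _ _]⟩
    · exact ⟨x * MvPolynomial.X 1, by rw [map_mul, show GMAlg.cut j p q (MvPolynomial.X 1) = MvPolynomial.X 1 from
        (MvPolynomial.aeval_X _ _).trans rfl]; rfl⟩
    · refine ⟨x * MvPolynomial.X (j.succAbove i).succ.succ, ?_⟩
      rw [map_mul]
      refine congrArg _ ((MvPolynomial.aeval_X _ _).trans ?_)
      simp [GMAlg.cutImg, Fin.insertNth_apply_succAbove]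

/-- Bundles with sections on all hyperplanes through the point and one section on one line have a section. -/
theorem exists_section_odd [CharZero k] (hm : 1 ≤ m) {G : (CohB1.ProjSpace (m + 1 + 1) k).Modules}
    (hG : FlatMod.IsFinLocFree G)
    (hline : ∀ z : Fin (m + 1) ⊕ Fin (m + 1) → k, ∃ σ : _root_.Twist.twistProjSpace 1 k ((0 : ℕ) : ℤ) ⟶
      (Scheme.Modules.pullback (lineMap z)).obj G, σ ≠ 0)
    (hgood : ∃ (z : Fin (m + 1) ⊕ Fin (m + 1) → k) (β : ℤ) (_ : β < 0)
      (u : _root_.Twist.twistProjSpace 1 k ((0 : ℕ) : ℤ) ⟶ (Scheme.Modules.pullback (lineMap z)).obj G)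
      (p : (Scheme.Modules.pullback (lineMap z)).obj G ⟶ _root_.Twist.twistProjSpace 1 k ((0 : ℕ) : ℤ))
      (q : (Scheme.Modules.pullback (lineMap z)).obj G ⟶ _root_.Twist.twistProjSpace 1 k β)
      (w : _root_.Twist.twistProjSpace 1 k β ⟶ (Scheme.Modules.pullback (lineMap z)).obj G),
      p ≫ u + q ≫ w = 𝟙 _)
    (hcut : ∀ (j : Fin (m + 1)) (p q : k) (h : HomogeneousIdeal.irrelevant (CohB1.polyGrading (m + 1) k) ≤
        (HomogeneousIdeal.irrelevant (CohB1.polyGrading (m + 1 + 1) k)).map (cutHom j p q)),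
      IsClosedImmersion (gmap (cutHom j p q) h) →
      gmap (cutHom j p q) h ≫ CohB1.ProjSpace.toSpec (m + 1 + 1) k = CohB1.ProjSpace.toSpec (m + 1) k →
      Nonempty ((Scheme.Modules.pullback (gmap (cutHom j p q) h)).obj (_root_.Twist.twistProjSpace (m + 1 + 1) k 1) ≅
        _root_.Twist.twistProjSpace (m + 1) k 1) →
      ∃ σ : _root_.Twist.twistProjSpace (m + 1) k ((0 : ℕ) : ℤ) ⟶
        (Scheme.Modules.pullback (gmap (cutHom j p q) h)).obj G, σ ≠ 0) :
    ∃ σ : _root_.Twist.twistProjSpace (m + 1 + 1) k ((0 : ℕ) : ℤ) ⟶ G, σ ≠ 0 := by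
  classical
  obtain ⟨D, g, l, r, ι, M, Ψ, hΨ, hD, hΨM, hιmono, hιM, hlift, hpull⟩ := exists_form_presentation hG
  have hmem : ∀ {n d : ℕ} {f : MvPolynomial (Fin (n + 1)) k}, f ∈ CohB1.polyGrading n k d ↔ f.IsHomogeneous d :=
    fun {n d f} => MvPolynomial.mem_homogeneousSubmodule _ _
  -- a section on a linear subspace gives a vector
  have hvec : ∀ {b : ℕ} (φ : CohB1.polyGrading (m + 1 + 1) k →+*ᵍ CohB1.polyGrading b k)
      (h : HomogeneousIdeal.irrelevant (CohB1.polyGrading b k) ≤ (HomogeneousIdeal.irrelevant (CohB1.polyGrading (m + 1 + 1) k)).map φ)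
      (σ : _root_.Twist.twistProjSpace b k ((0 : ℕ) : ℤ) ⟶ (Scheme.Modules.pullback (gmap φ h)).obj G), σ ≠ 0 →
      ∃ v : Fin l → MvPolynomial (Fin (b + 1)) k, v ≠ 0 ∧ (∀ y, (v y).IsHomogeneous D) ∧
        ∀ x, ∑ y, φ (Ψ x y) * v y = 0 := fun {b} φ h σ hσ => by
    obtain ⟨hmono, -⟩ := hpull (gmap φ h)
    obtain ⟨v, hv, hvu⟩ := vecMap_surjective φ h (σ ≫ (Scheme.Modules.pullback (gmap φ h)).map ι)
    refine ⟨v, fun h0 => hσ ?_, fun y => hmem.1 (hv y), (vecMap_killed φ h M Ψ hΨ hΨM hv).1 ?_⟩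
    · rw [← cancel_mono ((Scheme.Modules.pullback (gmap φ h)).map ι), zero_comp, ← hvu]
      exact Finset.sum_eq_zero fun y _ => by rw [fm_zero (hv y) _ (congrFun h0 y), zero_comp]
    · rw [hvu, Category.assoc, ← Functor.map_comp, hιM, Functor.map_zero, comp_zero]
  obtain ⟨T, hT0, hTd, hTk⟩ := GMAlg.exists_kernel_odd (g := g) (d := D) hm Ψ (fun x y => hmem.1 (hΨ x y))
    (fun z => by
      obtain ⟨σ, hσ⟩ := hline z
      exact hvec (linHom z) (irrelevant_le z) σ hσ)
    (by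
      obtain ⟨z, β, hβ, u, p, q, w, hid⟩ := hgood
      obtain ⟨hmono, hl⟩ := hpull (gmap (linHom z) (irrelevant_le z))
      choose U hU hUu using fun y => exists_fm (show (D : ℤ) + ((0 : ℕ) : ℤ) = D by simp)
        (u ≫ (Scheme.Modules.pullback (gmap (linHom z) (irrelevant_le z))).map ι ≫
          (Scheme.Modules.pullback (gmap (linHom z) (irrelevant_le z))).map
            (P1Split.proj (fun _ : Fin l => _root_.Twist.twistProjSpace (m + 1 + 1) k (D : ℤ)) y) ≫
          thetaG (linHom z) (irrelevant_le z) (D : ℤ))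
      refine ⟨z, U, fun v hv hk => ?_⟩
      have hv' : ∀ y, v y ∈ CohB1.polyGrading 1 k D := fun y => hmem.2 (hv y)
      obtain ⟨ψ, hψ⟩ := hl (vecMap (linHom z) (irrelevant_le z) hv')
        ((vecMap_killed (linHom z) (irrelevant_le z) M Ψ hΨ hΨM hv').2 hk)
      have e : ψ = (ψ ≫ p) ≫ u := by
        conv_lhs => rw [← Category.comp_id ψ]
        erw [← hid, Preadditive.comp_add, ← Category.assoc ψ q,
          hom_eq_zero (N := 1) le_rfl (show β < ((0 : ℕ) : ℤ) by simpa using hβ) (ψ ≫ q), zero_comp, add_zero]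
        rw [Category.assoc]
      obtain ⟨f, hf, hfp⟩ := exists_fm (show ((0 : ℕ) : ℤ) + ((0 : ℕ) : ℤ) = ((0 : ℕ) : ℤ) by simp) (ψ ≫ p)
      obtain ⟨x, rfl⟩ : ∃ x, f = MvPolynomial.C x :=
        ⟨_, MvPolynomial.totalDegree_eq_zero_iff_eq_C.1 (Nat.le_zero.1 (hmem.1 hf).totalDegree_le)⟩
      refine ⟨x, fun y => ?_⟩
      have hm' : MvPolynomial.C x * U y ∈ CohB1.polyGrading 1 k D := hmem.2 ((hmem.1 (hU y)).C_mul x)
      refine fm_inj (hv' y) hm' (show (D : ℤ) + ((0 : ℕ) : ℤ) = D by simp) ?_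
      rw [← vecMap_proj (linHom z) (irrelevant_le z) hv' y, ← hψ]
      rw [e, ← hfp]
      simp only [Category.assoc]
      erw [← hUu y]
      exact fm_comp _ _ _ _ _ _ (mul_comm _ _) _ _ _)
    (fun j p q => by
      obtain ⟨h, hci, hto, he⟩ := exists_emb (cutHom j p q) (fun x => MvPolynomial.aeval_C _ x) (cutHom_surjective j p q)
      obtain ⟨σ, hσ⟩ := hcut j p q h hci hto he
      exact hvec (cutHom j p q) h σ hσ)
  have hd0 : (D : ℤ) + ((0 : ℕ) : ℤ) = D := by simp
  let Φ := ∑ y, fm (T y) (hmem.2 (hTd y)) hd0 ≫ Sigma.ι (fun _ : Fin l => _root_.Twist.twistProjSpace (m + 1 + 1) k (D : ℤ)) y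
  have hΦ : Φ ≫ M = 0 := by
    rw [← Category.comp_id (Φ ≫ M), ← P1Split.sum_proj_ι, Preadditive.comp_sum]
    refine Finset.sum_eq_zero fun x _ => ?_
    rw [← Category.assoc, Category.assoc Φ, show Φ ≫ M ≫ _ = 0 from ?_, zero_comp]
    rw [Preadditive.sum_comp]
    refine (Finset.sum_congr rfl fun y _ => (Category.assoc _ _ _).trans ((congrArg _ (hΨM x y).symm).trans
      (fm_comp (T y) (Ψ x y) (Ψ x y * T y) _ _ (hmem.2 ((hmem.1 (hΨ x y)).mul (hTd y))) rfl hd0 _
        (show ((g + D : ℕ) : ℤ) + ((0 : ℕ) : ℤ) = ((g + D : ℕ) : ℤ) by simp)))).trans ?_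
    rw [← fm_sum]
    exact fm_zero _ _ (hTk x)
  obtain ⟨σ, hσ⟩ := hlift Φ hΦ
  refine ⟨σ, fun h0 => hT0 (funext fun y => eq_zero_of_fm (hmem.2 (hTd y)) hd0 ?_)⟩
  have := congrArg (· ≫ P1Split.proj (fun _ : Fin l => _root_.Twist.twistProjSpace (m + 1 + 1) k (D : ℤ)) y)
    (show Φ = 0 by rw [← hσ, h0, zero_comp])
  simp only [Φ, Preadditive.sum_comp, zero_comp, Category.assoc] at this
  rwa [Finset.sum_eq_single y (fun c _ hc => by rw [P1Split.ι_proj_ne _ hc, comp_zero]) (fun h => absurd (Finset.mem_univ y) h),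
    P1Split.ι_proj_self, Category.comp_id] at this

end Groth.Agent.RankTwo11.GM
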