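import Groth.Agent.Lib.RankTwo11.GMHyper
import Groth.Agent.Lib.RankTwo11.GMAlgOdd

/-!
# Presentations by forms, pulled back along linear maps
-/

set_option autoImplicit false
set_option linter.style.haveILetI false
set_option linter.unusedSectionVars false
set_option backward.isDefEq.respectTransparency false
set_option backward.isDefEq.respectTransparency.types false
set_option maxHeartbeats 2000000

universe u

open CategoryTheory CategoryTheory.Limits AlgebraicGeometry TopologicalSpace Opposite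
open scoped HomogeneousIdeal

noncomputable section

namespace Groth.Agent.RankTwo11.GM

open Groth.Agent

variable {k : Type u} [Field k] {a b : ℕ}

section map

variable (φ : CohB1.polyGrading a k →+*ᵍ CohB1.polyGrading b k)
  (h : HomogeneousIdeal.irrelevant (CohB1.polyGrading b k) ≤ (HomogeneousIdeal.irrelevant (CohB1.polyGrading a k)).map φ)

/-- The linear map of a graded map. -/
def gmap : CohB1.ProjSpace b k ⟶ CohB1.ProjSpace a k := Proj.map φ h

/-- The comparison of twists along a linear map. -/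
def thetaG (c : ℤ) : (Scheme.Modules.pullback (gmap φ h)).obj (_root_.Twist.twistProjSpace a k c) ⟶
    _root_.Twist.twistProjSpace b k c :=
  ((Scheme.Modules.pullbackPushforwardAdjunction (Proj.map φ h)).homEquiv _ _).symm (GrTwist.comap φ h c)

instance isIso_thetaG (d : ℕ) : IsIso (thetaG φ h (d : ℤ)) :=
  isIso_theta φ h (Twist.iSup_basicOpen_one a k) d

theorem thetaG_natural {c : ℕ} (f : MvPolynomial (Fin (a + 1)) k)
    (hf : f ∈ CohB1.polyGrading a k c) {x y : ℤ} (he : (c : ℤ) + x = y) :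
    (Scheme.Modules.pullback (gmap φ h)).map (fm f hf he) ≫ thetaG φ h y =
      thetaG φ h x ≫ fm (φ f) (φ.map_mem hf) he := by
  refine (((Scheme.Modules.pullbackPushforwardAdjunction (Proj.map φ h)).homEquiv_naturality_left_symm
    (fm f hf he) (GrTwist.comap φ h y)).symm.trans ?_)
  refine Eq.trans ?_ ((Scheme.Modules.pullbackPushforwardAdjunction (Proj.map φ h)).homEquiv_naturality_right_symm
    (GrTwist.comap φ h x) (fm (φ f) (φ.map_mem hf) he))
  refine congrArg _ (Scheme.Modules.hom_ext _ _ fun U => ?_)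
  ext s
  refine GrTw11.sec_ext (𝒜 := CohB1.polyGrading b k) fun p hp => ?_
  have h1 := fun (n : ℤ) (t : Γ(GrTwist.twist (CohB1.polyGrading a k) n, U)) =>
    PullBC11.val_sect_comap φ h (le_refl (Proj.map φ h ⁻¹ᵁ U)) (n := n) t
  simp only [M1.mres_id] at h1
  refine (h1 y ((fm f hf he).app U s) p hp).trans ?_
  refine Eq.trans ?_ (val_fm (φ f) (φ.map_mem hf) he _ _ p hp).symm
  refine (congrArg (GrTwist.locMap _ _ p) (val_fm f hf he U s _ _)).trans ?_
  rw [map_mul, GrTwist.locMap_mk]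
  refine congrArg₂ (· * ·) ?_ (h1 x s p hp).symm
  congr 1
  exact Subtype.ext (map_one _)

end map

variable {N : ℕ}

/-- A bundle as the kernel of a matrix of forms, stably under pullback. -/
theorem exists_form_presentation {G : (CohB1.ProjSpace N k).Modules} (hG : FlatMod.IsFinLocFree G) :
    ∃ (D g l r : ℕ) (ι : G ⟶ ∐ fun _ : Fin l => _root_.Twist.twistProjSpace N k (D : ℤ))
      (M : (∐ fun _ : Fin l => _root_.Twist.twistProjSpace N k (D : ℤ)) ⟶
        ∐ fun _ : Fin r => _root_.Twist.twistProjSpace N k ((g + D : ℕ) : ℤ))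
      (Ψ : Fin r → Fin l → MvPolynomial (Fin (N + 1)) k) (hΨ : ∀ x y, Ψ x y ∈ CohB1.polyGrading N k g),
      1 ≤ D ∧
      (∀ x y, fm (Ψ x y) (hΨ x y) (show (g : ℤ) + (D : ℤ) = ((g + D : ℕ) : ℤ) by push_cast; ring) =
        Sigma.ι (fun _ : Fin l => _root_.Twist.twistProjSpace N k (D : ℤ)) y ≫ M ≫
          P1Split.proj (fun _ : Fin r => _root_.Twist.twistProjSpace N k ((g + D : ℕ) : ℤ)) x) ∧
      Mono ι ∧ ι ≫ M = 0 ∧
      (∀ {X : (CohB1.ProjSpace N k).Modules} (u : X ⟶ _), u ≫ M = 0 → ∃ v : X ⟶ G, v ≫ ι = u) ∧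
      ∀ {W : Scheme.{u}} (f : W ⟶ CohB1.ProjSpace N k), Mono ((Scheme.Modules.pullback f).map ι) ∧
        ∀ {X : W.Modules} (u : X ⟶ (Scheme.Modules.pullback f).obj (∐ fun _ : Fin l => _root_.Twist.twistProjSpace N k (D : ℤ))),
          u ≫ (Scheme.Modules.pullback f).map M = 0 → ∃ v, v ≫ (Scheme.Modules.pullback f).map ι = u := by
  obtain ⟨D, g, l, r, S, ι, M, j, e1, e2, hD, hS, h3, hι, hM, S', hS', h3', f1, f2, hj⟩ := exists_presentation hG
  choose Ψ hΨ hΨM using fun (x : Fin r) (y : Fin l) => exists_fm (show (g : ℤ) + (D : ℤ) = ((g + D : ℕ) : ℤ) by push_cast; ring)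
    (Sigma.ι (fun _ : Fin l => _root_.Twist.twistProjSpace N k (D : ℤ)) y ≫ M ≫
      P1Split.proj (fun _ : Fin r => _root_.Twist.twistProjSpace N k ((g + D : ℕ) : ℤ)) x)
  haveI := hS.mono_f
  haveI := hS'.mono_f
  haveI : Mono j := by rw [hj]; infer_instance
  refine ⟨D, g, l, r, ι, M, Ψ, hΨ, hD, hΨM, by rw [hι]; infer_instance, by rw [hι, hM]; simp,
    fun {X} u hu => ?_, fun {W} f => ?_⟩
  · have h0 : (u ≫ e2.inv) ≫ S.g = 0 := by
      rw [← cancel_mono j, zero_comp, ← hu, hM]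
      simp only [Category.assoc]
    refine ⟨hS.exact.lift _ h0 ≫ e1.inv, ?_⟩
    rw [hι, Category.assoc, Iso.inv_hom_id_assoc, ← Category.assoc, hS.exact.lift_f, Category.assoc,
      Iso.inv_hom_id, Category.comp_id]
  · let J := Scheme.Modules.pullback f
    have hSf : (S.map J).ShortExact := CMReg18.shortExact_pullback _ S hS (KFlat.Sch.isFlat_of_isFinLocFree h3)
    haveI : Mono (J.map S.f) := hSf.mono_f
    haveI : Mono (J.map S'.f) := (CMReg18.shortExact_pullback _ S' hS' (KFlat.Sch.isFlat_of_isFinLocFree h3')).mono_f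
    haveI : Mono (J.map j) := by rw [hj, Functor.map_comp, Functor.map_comp]; infer_instance
    refine ⟨by rw [hι, Functor.map_comp, Functor.map_comp]; infer_instance, fun {X} u hu => ?_⟩
    haveI := hSf.mono_f
    have h0 : (u ≫ J.map e2.inv) ≫ J.map S.g = 0 := by
      rw [← cancel_mono (J.map j), zero_comp, ← hu, hM, Functor.map_comp, Functor.map_comp]
      simp only [Category.assoc]
      rfl
    refine ⟨hSf.exact.lift _ h0 ≫ J.map e1.inv, ?_⟩
    show _ ≫ J.map ι = _
    rw [hι, Category.assoc, ← Functor.map_comp, Iso.inv_hom_id_assoc, Functor.map_comp, ← Category.assoc,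
      show hSf.exact.lift _ h0 ≫ J.map S.f = _ from hSf.exact.lift_f _ h0, Category.assoc,
      ← Functor.map_comp, Iso.inv_hom_id, CategoryTheory.Functor.map_id, Category.comp_id]

variable (φ : CohB1.polyGrading a k →+*ᵍ CohB1.polyGrading b k)
  (h : HomogeneousIdeal.irrelevant (CohB1.polyGrading b k) ≤ (HomogeneousIdeal.irrelevant (CohB1.polyGrading a k)).map φ)

/-- Coordinates of the pulled back sum. -/
theorem sum_pullG {l : ℕ} (D : ℕ) :
    ∑ y, ((Scheme.Modules.pullback (gmap φ h)).map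
        (P1Split.proj (fun _ : Fin l => _root_.Twist.twistProjSpace a k (D : ℤ)) y) ≫ thetaG φ h (D : ℤ)) ≫
      inv (thetaG φ h (D : ℤ)) ≫ (Scheme.Modules.pullback (gmap φ h)).map
        (Sigma.ι (fun _ : Fin l => _root_.Twist.twistProjSpace a k (D : ℤ)) y) = 𝟙 _ := by
  haveI : (Scheme.Modules.pullback (gmap φ h)).Additive :=
    (Scheme.Modules.pullbackPushforwardAdjunction _).left_adjoint_additive
  rw [← CategoryTheory.Functor.map_id, ← P1Split.sum_proj_ι, Functor.map_sum]
  refine Finset.sum_congr rfl fun y _ => ?_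
  rw [Category.assoc, IsIso.hom_inv_id_assoc, Functor.map_comp]

variable {G : (CohB1.ProjSpace a k).Modules} {D g l r : ℕ}
  (ι : G ⟶ ∐ fun _ : Fin l => _root_.Twist.twistProjSpace a k (D : ℤ))
  (M : (∐ fun _ : Fin l => _root_.Twist.twistProjSpace a k (D : ℤ)) ⟶
    ∐ fun _ : Fin r => _root_.Twist.twistProjSpace a k ((g + D : ℕ) : ℤ))
  (Ψ : Fin r → Fin l → MvPolynomial (Fin (a + 1)) k) (hΨ : ∀ x y, Ψ x y ∈ CohB1.polyGrading a k g)
  (hΨM : ∀ x y, fm (Ψ x y) (hΨ x y) (show (g : ℤ) + (D : ℤ) = ((g + D : ℕ) : ℤ) by push_cast; ring) =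
    Sigma.ι (fun _ : Fin l => _root_.Twist.twistProjSpace a k (D : ℤ)) y ≫ M ≫
      P1Split.proj (fun _ : Fin r => _root_.Twist.twistProjSpace a k ((g + D : ℕ) : ℤ)) x)

/-- The vector attached to a map from `O`. -/
def vecMap {v : Fin l → MvPolynomial (Fin (b + 1)) k} (hv : ∀ y, v y ∈ CohB1.polyGrading b k D) :
    _root_.Twist.twistProjSpace b k ((0 : ℕ) : ℤ) ⟶
      (Scheme.Modules.pullback (gmap φ h)).obj (∐ fun _ : Fin l => _root_.Twist.twistProjSpace a k (D : ℤ)) :=
  ∑ y, fm (v y) (hv y) (show (D : ℤ) + ((0 : ℕ) : ℤ) = D by simp) ≫ inv (thetaG φ h (D : ℤ)) ≫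
    (Scheme.Modules.pullback (gmap φ h)).map (Sigma.ι (fun _ : Fin l => _root_.Twist.twistProjSpace a k (D : ℤ)) y)

theorem vecMap_proj {v : Fin l → MvPolynomial (Fin (b + 1)) k} (hv : ∀ y, v y ∈ CohB1.polyGrading b k D) (y : Fin l) :
    vecMap φ h hv ≫ (Scheme.Modules.pullback (gmap φ h)).map
      (P1Split.proj (fun _ : Fin l => _root_.Twist.twistProjSpace a k (D : ℤ)) y) ≫ thetaG φ h (D : ℤ) =
        fm (v y) (hv y) (show (D : ℤ) + ((0 : ℕ) : ℤ) = D by simp) := by
  haveI : (Scheme.Modules.pullback (gmap φ h)).Additive :=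
    (Scheme.Modules.pullbackPushforwardAdjunction _).left_adjoint_additive
  rw [vecMap, Preadditive.sum_comp, Finset.sum_eq_single y]
  · simp only [Category.assoc]
    rw [← Functor.map_comp_assoc, P1Split.ι_proj_self, CategoryTheory.Functor.map_id, Category.id_comp,
      IsIso.inv_hom_id, Category.comp_id]
  · intro y' _ hy'
    simp only [Category.assoc]
    rw [← Functor.map_comp_assoc, P1Split.ι_proj_ne _ hy', Functor.map_zero, zero_comp, comp_zero, comp_zero]
  · exact fun hh => absurd (Finset.mem_univ _) hh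

theorem vecMap_surjective
    (u : _root_.Twist.twistProjSpace b k ((0 : ℕ) : ℤ) ⟶
      (Scheme.Modules.pullback (gmap φ h)).obj (∐ fun _ : Fin l => _root_.Twist.twistProjSpace a k (D : ℤ))) :
    ∃ (v : Fin l → MvPolynomial (Fin (b + 1)) k) (hv : ∀ y, v y ∈ CohB1.polyGrading b k D), vecMap φ h hv = u := by
  choose v hv hvu using fun y => exists_fm (show (D : ℤ) + ((0 : ℕ) : ℤ) = D by simp)
    (u ≫ (Scheme.Modules.pullback (gmap φ h)).map
      (P1Split.proj (fun _ : Fin l => _root_.Twist.twistProjSpace a k (D : ℤ)) y) ≫ thetaG φ h (D : ℤ))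
  refine ⟨v, hv, ?_⟩
  conv_rhs => rw [← Category.comp_id u, ← sum_pullG φ h D, Preadditive.comp_sum]
  exact Finset.sum_congr rfl fun y _ => by rw [hvu]; simp only [Category.assoc]

include hΨM in
theorem vecMap_killed {v : Fin l → MvPolynomial (Fin (b + 1)) k} (hv : ∀ y, v y ∈ CohB1.polyGrading b k D) :
    vecMap φ h hv ≫ (Scheme.Modules.pullback (gmap φ h)).map M = 0 ↔ ∀ x, ∑ y, φ (Ψ x y) * v y = 0 := by
  haveI : (Scheme.Modules.pullback (gmap φ h)).Additive :=
    (Scheme.Modules.pullbackPushforwardAdjunction _).left_adjoint_additive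
  let J := Scheme.Modules.pullback (gmap φ h)
  have hmem : ∀ x y, φ (Ψ x y) * v y ∈ CohB1.polyGrading b k (g + D) := fun x y =>
    SetLike.mul_mem_graded (φ.map_mem (hΨ x y)) (hv y)
  have key : ∀ x, (vecMap φ h hv ≫ J.map M) ≫ J.map
      (P1Split.proj (fun _ : Fin r => _root_.Twist.twistProjSpace a k ((g + D : ℕ) : ℤ)) x) ≫ thetaG φ h ((g + D : ℕ) : ℤ) =
      fm (∑ y, φ (Ψ x y) * v y) (Submodule.sum_mem _ fun y _ => hmem x y)
        (show ((g + D : ℕ) : ℤ) + ((0 : ℕ) : ℤ) = ((g + D : ℕ) : ℤ) by simp) := fun x => by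
    rw [fm_sum _ _ (hmem x), vecMap, Preadditive.sum_comp, Preadditive.sum_comp]
    refine Finset.sum_congr rfl fun y _ => ?_
    simp only [Category.assoc]
    rw [show J.map (Sigma.ι (fun _ : Fin l => _root_.Twist.twistProjSpace a k (D : ℤ)) y) ≫ J.map M ≫
        J.map (P1Split.proj (fun _ : Fin r => _root_.Twist.twistProjSpace a k ((g + D : ℕ) : ℤ)) x) ≫
          thetaG φ h ((g + D : ℕ) : ℤ) = thetaG φ h (D : ℤ) ≫
            fm (φ (Ψ x y)) (φ.map_mem (hΨ x y)) (show (g : ℤ) + (D : ℤ) = ((g + D : ℕ) : ℤ) by push_cast; ring) by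
        rw [← thetaG_natural φ h _ (hΨ x y), hΨM]
        simp only [J, Functor.map_comp, Category.assoc]]
    rw [IsIso.inv_hom_id_assoc]
    exact fm_comp _ _ _ _ _ _ rfl _ _ _
  refine ⟨fun h0 x => eq_zero_of_fm _ _ ((key x).symm.trans (by rw [h0, zero_comp])), fun h0 => ?_⟩
  rw [← Category.comp_id (_ ≫ _), ← sum_pullG (l := r) φ h (g + D), Preadditive.comp_sum]
  refine Finset.sum_eq_zero fun x _ => ?_
  rw [← Category.assoc, show (vecMap φ h hv ≫ J.map M) ≫ _ = 0 from (key x).trans (fm_zero _ _ (h0 x)), zero_comp]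

end Groth.Agent.RankTwo11.GM
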