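import Groth.Agent.Lib.RankTwo11.Linear
import Groth.Agent.S7676
import Groth.Agent.Lib.IrrDiv13.Section
import Groth.Agent.Lib.Ample18.Gen
import Groth.Agent.Lib.CohFound.ClosedImmPush
import Groth.Agent.Lib.CurveCoh17.AffPush

/-!
# Hyperplanes through linear subspaces
-/

set_option autoImplicit false
set_option linter.style.haveILetI false
set_option linter.unusedSectionVars false
set_option backward.isDefEq.respectTransparency false
set_option backward.isDefEq.respectTransparency.types false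
set_option maxHeartbeats 1000000

universe u

open CategoryTheory CategoryTheory.Limits AlgebraicGeometry TopologicalSpace Opposite

noncomputable section

namespace Groth.Agent.RankTwo11.Hyper

open Groth.Agent

variable {k : Type u} [Field k] {m n : ℕ}

theorem pullback_smulHom_str (f : CohB1.ProjSpace m k ⟶ CohB1.ProjSpace n k) (c : Γ(CohB1.ProjSpace n k, ⊤)) :
    (Scheme.Modules.pullback f).map (ThetaGrp19.smulHom (Linear.Str k n) c) ≫ (PicLoc.pullbackStructureIso f).hom =
      (PicLoc.pullbackStructureIso f).hom ≫ ThetaGrp19.smulHom (Linear.Str k m) (f.appTop c) := by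
  rw [ThetaGrp19.pullback_map_smulHom ((M2.isInvertible_iff_isFinLocFreeOfRank_one _).2 (M2.isFinLocFreeOfRank_of_iso zeroIso (rank_O (k := k) (n := n) 0))) f c,
    ThetaGrp19.smulHom_naturality]

theorem pullback_vec (f : CohB1.ProjSpace m k ⟶ CohB1.ProjSpace n k) {τ : k → k}
    (hτ : ∀ a, f.appTop (Simple.sc k n a) = Simple.sc k m (τ a)) {q : ℕ} (v : Fin q → k) :
    (Scheme.Modules.pullback f).map (Linear.vec (n := n) v) ≫ (M2.freeModPullbackIso f q).hom =
      (PicLoc.pullbackStructureIso f).hom ≫ Linear.vec (n := m) (fun j => τ (v j)) := by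
  have hι : ∀ j : Fin q, (Scheme.Modules.pullback f).map
      (Sigma.ι (fun _ : Fin q => Coh.structureModule (CohB1.ProjSpace n k)) j) ≫ (M2.freeModPullbackIso f q).hom =
      (PicLoc.pullbackStructureIso f).hom ≫ Sigma.ι (fun _ : Fin q => Coh.structureModule (CohB1.ProjSpace m k)) j :=
    fun j => by
    have h : (Scheme.Modules.pullback f).map (Sigma.ι (fun _ : Fin q => Coh.structureModule (CohB1.ProjSpace n k)) j) ≫
        (PreservesCoproduct.iso (Scheme.Modules.pullback f) _).hom =
          Sigma.ι (fun _ : Fin q => (Scheme.Modules.pullback f).obj (Coh.structureModule (CohB1.ProjSpace n k))) j := by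
      rw [← Iso.eq_comp_inv, PreservesCoproduct.inv_hom, ι_comp_sigmaComparison]
    show _ ≫ (PreservesCoproduct.iso (Scheme.Modules.pullback f) _ ≪≫ Sigma.mapIso _).hom = _
    rw [Iso.trans_hom, reassoc_of% h]
    simp
  rw [Linear.vec, Linear.vec, Functor.map_sum, Preadditive.sum_comp, Preadditive.comp_sum]
  refine Finset.sum_congr rfl fun j _ => ?_
  rw [Functor.map_comp, Category.assoc, hι, reassoc_of% pullback_smulHom_str f (Simple.sc k n (v j)), hτ]

theorem lin_eq_zero {c : Fin (n + 1) → k} (h : Linear.lin c = 0) : c = 0 :=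
  Simple.eq_zero_of_sum_gX c ((M1.secHom_app_one _).symm.trans (by
    show (Linear.lin c).app ⊤ (M1.one ⊤) = 0
    rw [h]; rfl))

/-- Scalars are carried to scalars. -/
theorem exists_tau (f : CohB1.ProjSpace m k ⟶ CohB1.ProjSpace n k) (hf : Function.Surjective f.appTop) :
    ∃ τ : k → k, Function.Bijective τ ∧ τ 0 = 0 ∧
      ∀ a, f.appTop (Simple.sc k n a) = Simple.sc k m (τ a) := by
  let e : k ≃+* Γ(CohB1.ProjSpace m k, ⊤) := RingEquiv.ofBijective _ (bijective_toGlobal k m)
  let φ : k →+* k := (e.symm.toRingHom.comp f.appTop.hom).comp (Coh.toGlobal (CohB1.ProjSpace.toSpec n k))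
  refine ⟨φ, ⟨φ.injective, ?_⟩, map_zero φ, fun a => (e.apply_symm_apply _).symm⟩
  exact e.symm.surjective.comp (hf.comp (bijective_toGlobal k n).2)

/-- A linear subspace of smaller dimension lies in a hyperplane. -/
theorem exists_section (hmn : m < n) (i : CohB1.ProjSpace m k ⟶ CohB1.ProjSpace n k)
    (hs : Function.Surjective i.appTop)
    (eO : (Scheme.Modules.pullback i).obj (_root_.Twist.twistProjSpace n k 1) ≅ _root_.Twist.twistProjSpace m k 1) :
    ∃ s : Linear.Str k n ⟶ _root_.Twist.twistProjSpace n k 1, s ≠ 0 ∧ (Scheme.Modules.pullback i).map s = 0 := by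
  obtain ⟨τ, hτb, hτ0, hτ⟩ := exists_tau i hs
  obtain ⟨ι, e, w, hE⟩ := NullCorr.exists_euler k n
  haveI : Epi e := hE.epi_g
  obtain ⟨L, hL⟩ := Linear.exists_coeffs e
  have hLinj : Function.Injective L := LinearMap.injective_iff_surjective.2 (Linear.surjective_coeffs e hL)
  let e' : Linear.Frq k m (n + 1) ⟶ _root_.Twist.twistProjSpace m k 1 :=
    (M2.freeModPullbackIso i (n + 1)).inv ≫ (Scheme.Modules.pullback i).map e ≫ eO.hom
  obtain ⟨L', hL'⟩ := Linear.exists_coeffs e'
  obtain ⟨c', hc', hc0⟩ : ∃ c', L' c' = 0 ∧ c' ≠ 0 := by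
    by_contra! hno
    have h := LinearMap.finrank_le_finrank_of_injective (f := L')
      ((injective_iff_map_eq_zero L').2 hno)
    rw [Module.finrank_fin_fun, Module.finrank_fin_fun] at h
    omega
  let c : Fin (n + 1) → k := fun j => Function.surjInv hτb.2 (c' j)
  have hτc : (fun j => τ (c j)) = c' := funext fun j => Function.surjInv_eq hτb.2 (c' j)
  refine ⟨Linear.vec c ≫ e, fun h => hc0 ?_, ?_⟩
  · rw [hL] at h
    have hc : c = 0 := hLinj ((lin_eq_zero h).trans (map_zero L).symm)
    rw [← hτc, hc]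
    exact funext fun _ => hτ0
  · rw [← cancel_mono eO.hom, zero_comp, Functor.map_comp, Category.assoc,
      show (Scheme.Modules.pullback i).map (Linear.vec c) =
        (PicLoc.pullbackStructureIso i).hom ≫ Linear.vec (fun j => τ (c j)) ≫ (M2.freeModPullbackIso i (n + 1)).inv from by
        rw [← Category.assoc, ← pullback_vec i hτ c, Category.assoc, Iso.hom_inv_id, Category.comp_id]]
    simp only [Category.assoc]
    rw [hτc]
    show _ ≫ Linear.vec c' ≫ e' = 0
    rw [hL', hc', show Linear.lin (0 : Fin (m + 1) → k) = 0 from M1.unit_hom_ext (by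
      show (Linear.lin (0 : Fin (m + 1) → k)).app ⊤ (M1.one ⊤) = _
      rw [Linear.lin, M1.secHom_app_one]
      exact Finset.sum_eq_zero fun l _ => by
        rw [Pi.zero_apply, show Simple.sc k m (0 : k) = 0 from map_zero _, zero_smul]), comp_zero]

theorem zeroScheme_le_ker {X P : Scheme.{u}} (f : X ⟶ P) [QuasiCompact f] {L : P.Modules} (hL : PicF.IsInvertible L)
    (s : Coh.structureModule P ⟶ L) (h : (Scheme.Modules.pullback f).map s = 0) :
    PicF2.zeroScheme L s ≤ f.ker := by
  choose U e a hxU _ hU he ha _ using fun x : P => Amp.exists_local hL s (V := ⊤) (x := x) trivial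
  have key : ∀ x : P, (PicF2.zeroScheme L s).ideal ⟨U x, hU x⟩ ≤ f.ker.ideal ⟨U x, hU x⟩ := fun x => by
    have hg : Twist.IsGen L (U x) (e x) := he x
    have hbij : Function.Bijective fun r : Γ(P, U x) => r • e x := by
      have h0 := hg (U x) le_rfl
      simpa only [M1.mres_id] using h0
    have hsv : MeroLib.sval L s (U x) = a x • e x := ((ha x).trans (Amp.res_gval s (U x))).symm
    rw [MeroLib.zeroScheme_ideal L s hL, MeroLib.zI_eq_span L s (e x) hbij (a x) hsv, Ideal.span_le,
      Set.singleton_subset_iff, Scheme.Hom.ker_apply]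
    show f.app (U x) (a x) = 0
    have h0 : f.app (U x) (a x) • M2.pullSec f L (e x) = 0 := by
      rw [← M2.pullSec_smul, ← hsv]
      show M2.pullSec f L (s.app (U x) (M1.one (U x))) = 0
      rw [← FormalH7.pullSec_naturality, h]
      rfl
    have hbij' : Function.Bijective fun r : Γ(X, f ⁻¹ᵁ U x) => r • M2.pullSec f L (e x) := by
      have h1 := (hg.pullback f) (f ⁻¹ᵁ U x) le_rfl
      simpa only [M1.mres_id] using h1
    exact hbij'.1 (h0.trans (zero_smul _ _).symm)
  refine inf_eq_left.1 (Scheme.IdealSheafData.ext_of_iSup_eq_top (fun x => ⟨U x, hU x⟩)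
    (top_le_iff.1 fun x _ => Opens.mem_iSup.2 ⟨x, hxU x⟩) fun x => ?_)
  rw [Scheme.IdealSheafData.ideal_inf]
  exact inf_eq_left.2 (key x)

/-- A linear subspace of smaller dimension factors through a hyperplane, with the restriction sequence. -/
theorem exists_hyperplane (hmn : m < n + 1) (i : CohB1.ProjSpace m k ⟶ CohB1.ProjSpace (n + 1) k) [IsClosedImmersion i]
    (hs : Function.Surjective i.appTop)
    (eO : (Scheme.Modules.pullback i).obj (_root_.Twist.twistProjSpace (n + 1) k 1) ≅ _root_.Twist.twistProjSpace m k 1) :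
    ∃ (i' : CohB1.ProjSpace m k ⟶ CohB1.ProjSpace n k) (j : CohB1.ProjSpace n k ⟶ CohB1.ProjSpace (n + 1) k)
      (_ : IsClosedImmersion i') (_ : IsClosedImmersion j),
      i' ≫ j = i ∧ Function.Surjective i'.appTop ∧
      Nonempty ((Scheme.Modules.pullback j).obj (_root_.Twist.twistProjSpace (n + 1) k 1) ≅ _root_.Twist.twistProjSpace n k 1) ∧
      Nonempty ((Scheme.Modules.pullback i').obj (_root_.Twist.twistProjSpace n k 1) ≅ _root_.Twist.twistProjSpace m k 1) ∧
      ∀ G : (CohB1.ProjSpace (n + 1) k).Modules, FlatMod.IsFinLocFree G →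
        ∃ S : ShortComplex (CohB1.ProjSpace (n + 1) k).Modules, S.ShortExact ∧
          Nonempty (S.X₁ ≅ CohB1.tensorMod G (_root_.Twist.twistProjSpace (n + 1) k (-1))) ∧
          Nonempty (S.X₂ ≅ G) ∧
          ∀ q, (Subsingleton (Coh.HH _ S.X₃ q) ↔
            Subsingleton (Coh.HH _ ((Scheme.Modules.pullback j).obj G) q)) := by
  obtain ⟨s, hs0, hsi⟩ := exists_section (k := k) (n := n + 1) hmn i hs eO
  have hO1 : PicF.IsInvertible (_root_.Twist.twistProjSpace (n + 1) k 1) := isInvertible_O 1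
  let I := PicF2.zeroScheme _ s
  obtain ⟨φ, ⟨eφ⟩⟩ := S7676.result k n s hs0
  let j : CohB1.ProjSpace n k ⟶ CohB1.ProjSpace (n + 1) k := φ.hom ≫ I.subschemeι
  haveI : IsClosedImmersion j := inferInstanceAs (IsClosedImmersion (φ.hom ≫ I.subschemeι))
  have hker : I.subschemeι.ker ≤ i.ker := by
    rw [Scheme.IdealSheafData.ker_subschemeι]
    exact zeroScheme_le_ker i hO1 s hsi
  let i' : CohB1.ProjSpace m k ⟶ CohB1.ProjSpace n k := IsClosedImmersion.lift I.subschemeι i hker ≫ φ.inv
  have hij : i' ≫ j = i := by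
    show (IsClosedImmersion.lift I.subschemeι i hker ≫ φ.inv) ≫ φ.hom ≫ I.subschemeι = i
    rw [Category.assoc, Iso.inv_hom_id_assoc, IsClosedImmersion.lift_fac]
  haveI : IsClosedImmersion (i' ≫ j) := by rw [hij]; infer_instance
  haveI : IsClosedImmersion i' := IsClosedImmersion.of_comp i' j
  refine ⟨i', j, inferInstance, inferInstance, hij, ?_, ⟨eφ⟩, ?_, fun G hG => ?_⟩
  · intro y
    obtain ⟨x, hx⟩ := hs y
    refine ⟨j.appTop x, ?_⟩
    rw [← hx, ← hij, Scheme.Hom.comp_appTop]
    rfl
  · exact ⟨((Scheme.Modules.pullback i').mapIso eφ).symm ≪≫ (Scheme.Modules.pullbackComp i' j).app _ ≪≫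
      (Scheme.Modules.pullbackCongr hij).app _ ≪≫ eO⟩
  have hO1' : PicF.IsInvertible (_root_.Twist.twistProjSpace (n + 1) k (-1)) := isInvertible_O (-1)
  haveI : IsIntegral (CohB1.ProjSpace (n + 1) k) := RegExt.isIntegral_projSpace (n + 1) k
  obtain ⟨eI⟩ := IrrDiv13.nonempty_inverse_iso_zeroScheme hO1 hO1' (negIso 1) s hs0
  have hGq : Coh.IsQCoh G := M2.isQCoh_of_isFinLocFree hG
  have hS := CurveCoh17.shortExact_tensorR (M2.shortExact_idealMod I) G fun x =>
    haveI : Module.Free _ (G.presheaf.stalk x) := ((M1.isFinLocFree_iff _).1 hG).2 x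
    Module.Flat.of_free
  refine ⟨_, hS, ⟨M2.tensorIso eI.symm (Iso.refl G) ≪≫ M2.tensorComm _ _⟩, ⟨M2.tensorLUnit G⟩, fun q => ?_⟩
  haveI hOq : (Coh.structureModule I.subscheme).IsQuasicoherent :=
    M1.isQCoh_structureModule I.subscheme
  let GZ := (Scheme.Modules.pullback I.subschemeι).obj G
  obtain ⟨eQ⟩ := CohFound.nonempty_push_tensor_iso I.subschemeι (Coh.structureModule I.subscheme) hOq G hGq
  let M := CohB1.tensorMod (Coh.structureModule I.subscheme) GZ
  have hMq : Coh.IsQCoh M := M2.isQCoh_tensor hOq (M1.isQCoh_pullback _ hGq)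
  haveI : M.IsQuasicoherent := hMq
  letI : I.subscheme.Over (Spec (CommRingCat.of k)) := ⟨I.subschemeι ≫ CohB1.ProjSpace.toSpec (n + 1) k⟩
  obtain ⟨e1⟩ := CurveCoh17.nonempty_hequiv_push k I.subschemeι rfl M q
  let N := (Scheme.Modules.pullback φ.hom).obj M
  haveI : IsIso ((Scheme.Modules.pullbackPushforwardAdjunction φ.hom).unit.app M) :=
    M1.isIso_unit_of_ker_smul φ.hom M hMq fun U a ha s => by
      rw [φ.hom.ker_eq_bot_of_isIso] at ha
      rw [show a = 0 by simpa using ha, zero_smul]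
  haveI : N.IsQuasicoherent := M1.isQCoh_pullback φ.hom hMq
  let e2 := CurveCoh17.hequiv k (asIso ((Scheme.Modules.pullbackPushforwardAdjunction φ.hom).unit.app M)) q
  let eN : N ≅ (Scheme.Modules.pullback j).obj G :=
    (Scheme.Modules.pullback φ.hom).mapIso (M2.tensorLUnit GZ) ≪≫
      (Scheme.Modules.pullbackComp φ.hom I.subschemeι).app G
  let e0 := CurveCoh17.hequiv k eQ.symm q
  refine (e0.toEquiv.subsingleton_congr).trans ((e1.toEquiv.subsingleton_congr).trans
    ((e2.toEquiv.subsingleton_congr).trans ?_))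
  letI : (CohB1.ProjSpace n k).Over (Spec (CommRingCat.of k)) := ⟨j ≫ CohB1.ProjSpace.toSpec (n + 1) k⟩
  have hφ : φ.hom ≫ (I.subscheme ↘ Spec (CommRingCat.of k)) = CohB1.ProjSpace n k ↘ Spec (CommRingCat.of k) :=
    (Category.assoc _ _ _).symm
  obtain ⟨e3⟩ := CurveCoh17.nonempty_hequiv_push k φ.hom hφ N q
  exact (e3.toEquiv.subsingleton_congr).trans ((CurveCoh17.hequiv k eN q).toEquiv.subsingleton_congr)

end Groth.Agent.RankTwo11.Hyper
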