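import Groth.Agent.Lib.RankTwo11.NullCorrHom
import Groth.Agent.Lib.CMReg18.PullVb
import Groth.Agent.Lib.TensorMod.PullTensor

/-!
# Restriction of `Ω` to linear subspaces
-/

set_option autoImplicit false
set_option linter.style.haveILetI false
set_option linter.unusedSectionVars false
set_option backward.isDefEq.respectTransparency false
set_option backward.isDefEq.respectTransparency.types false
set_option maxHeartbeats 1000000

universe u

open CategoryTheory CategoryTheory.Limits AlgebraicGeometry TopologicalSpace Opposite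

noncomputable section

namespace Groth.Agent.RankTwo11.Linear

open Groth.Agent

variable {k : Type u} [Field k] {n : ℕ}

variable (k n) in
/-- The structure module. -/
abbrev Str : (CohB1.ProjSpace n k).Modules := Coh.structureModule (CohB1.ProjSpace n k)

variable (k n) in
/-- Free modules. -/
abbrev Frq (q : ℕ) : (CohB1.ProjSpace n k).Modules := FlatMod.freeMod (CohB1.ProjSpace n k) q

theorem smulHom_add (M : (CohB1.ProjSpace n k).Modules) (c d : Γ(CohB1.ProjSpace n k, ⊤)) :
    ThetaGrp19.smulHom M (c + d) = ThetaGrp19.smulHom M c + ThetaGrp19.smulHom M d :=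
  Scheme.Modules.hom_ext _ _ fun V => by
    ext s
    rw [Scheme.Modules.Hom.add_app, ThetaGrp19.smulHom_app, map_add, add_smul]
    rfl

theorem smulHom_zero (M : (CohB1.ProjSpace n k).Modules) :
    ThetaGrp19.smulHom M (0 : Γ(CohB1.ProjSpace n k, ⊤)) = 0 :=
  Scheme.Modules.hom_ext _ _ fun V => by
    ext s
    rw [ThetaGrp19.smulHom_app, map_zero, zero_smul]
    rfl

/-- Constant vectors. -/
def vec {q : ℕ} (v : Fin q → k) : Str k n ⟶ Frq k n q :=
  ∑ j, ThetaGrp19.smulHom (Str k n) (Simple.sc k n (v j)) ≫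
    Sigma.ι (fun _ : Fin q => Coh.structureModule (CohB1.ProjSpace n k)) j

theorem vec_add {q : ℕ} (v w : Fin q → k) : vec (n := n) (v + w) = vec v + vec w := by
  rw [vec, vec, vec, ← Finset.sum_add_distrib]
  refine Finset.sum_congr rfl fun j _ => ?_
  rw [← Preadditive.add_comp, ← smulHom_add, Pi.add_apply,
    show Simple.sc k n (v j + w j) = _ from map_add (Coh.toGlobal (CohB1.ProjSpace.toSpec n k)) _ _]
  rfl

theorem vec_smul {q : ℕ} (a : k) (v : Fin q → k) :
    vec (n := n) (a • v) = ThetaGrp19.smulHom (Str k n) (Simple.sc k n a) ≫ vec v := by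
  rw [vec, vec, Preadditive.comp_sum]
  refine Finset.sum_congr rfl fun j _ => ?_
  rw [← Category.assoc, ThetaGrp19.smulHom_comp, Pi.smul_apply, smul_eq_mul,
    show Simple.sc k n (a * v j) = _ from map_mul (Coh.toGlobal (CohB1.ProjSpace.toSpec n k)) _ _]
  rfl

theorem vec_zero {q : ℕ} : vec (n := n) (0 : Fin q → k) = 0 := by
  refine Finset.sum_eq_zero fun j _ => ?_
  rw [Pi.zero_apply, show Simple.sc k n (0 : k) = 0 from map_zero _, smulHom_zero, zero_comp]

theorem vec_single {q : ℕ} (i : Fin q) :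
    vec (n := n) (Pi.single i (1 : k)) = Sigma.ι (fun _ : Fin q => Coh.structureModule (CohB1.ProjSpace n k)) i := by
  rw [vec, Finset.sum_eq_single i (fun j _ hj => by
      rw [Pi.single_eq_of_ne hj, show Simple.sc k n (0 : k) = 0 from map_zero _, smulHom_zero, zero_comp])
    (fun h => absurd (Finset.mem_univ i) h), Pi.single_eq_same, show Simple.sc k n (1 : k) = 1 from map_one _,
    ThetaGrp19.smulHom_one, Category.id_comp]

theorem vec_sum {q : ℕ} {ι : Type*} (s : Finset ι) (v : ι → Fin q → k) :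
    vec (n := n) (∑ i ∈ s, v i) = ∑ i ∈ s, vec (v i) := by
  induction s using Finset.cons_induction with
  | empty => rw [Finset.sum_empty, Finset.sum_empty, vec_zero]
  | cons a s ha ih => rw [Finset.sum_cons, Finset.sum_cons, vec_add, ih]

/-- Maps of free modules with constant coefficients. -/
def mat {p q : ℕ} (A : (Fin p → k) →ₗ[k] (Fin q → k)) : Frq k n p ⟶ Frq k n q :=
  Sigma.desc fun i => vec (A (Pi.single i 1))

theorem vec_mat {p q : ℕ} (v : Fin p → k) (A : (Fin p → k) →ₗ[k] (Fin q → k)) :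
    vec (n := n) v ≫ mat A = vec (A v) := by
  conv_rhs => rw [pi_eq_sum_univ' v, map_sum, vec_sum]
  rw [vec, Preadditive.sum_comp]
  refine Finset.sum_congr rfl fun i _ => ?_
  rw [map_smul, vec_smul, Category.assoc, mat, Sigma.ι_desc]

theorem mat_comp {p q r : ℕ} (A : (Fin p → k) →ₗ[k] (Fin q → k)) (B : (Fin q → k) →ₗ[k] (Fin r → k)) :
    mat (n := n) A ≫ mat B = mat (B ∘ₗ A) :=
  Sigma.hom_ext _ _ fun i => by simp [mat]; exact vec_mat _ _

theorem mat_add {p q : ℕ} (A B : (Fin p → k) →ₗ[k] (Fin q → k)) : mat (n := n) (A + B) = mat A + mat B :=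
  Sigma.hom_ext _ _ fun i => by simp [mat, vec_add]

theorem mat_zero {p q : ℕ} : mat (n := n) (0 : (Fin p → k) →ₗ[k] (Fin q → k)) = 0 :=
  Sigma.hom_ext _ _ fun i => by simp [mat, vec_zero]

theorem mat_id {p : ℕ} : mat (n := n) (LinearMap.id : (Fin p → k) →ₗ[k] (Fin p → k)) = 𝟙 _ :=
  Sigma.hom_ext _ _ fun i => by simp [mat, vec_single]

/-- A linear form as a section of `O(1)`. -/
def lin (c : Fin (n + 1) → k) : Str k n ⟶ _root_.Twist.twistProjSpace n k 1 :=
  M1.secHom (∑ l, Simple.sc k n (c l) • Simple.gX k n l)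

/-- The matrix of a map to `O(1)`. -/
theorem exists_coeffs {q : ℕ} (e : Frq k n q ⟶ _root_.Twist.twistProjSpace n k 1) :
    ∃ L : (Fin q → k) →ₗ[k] (Fin (n + 1) → k), ∀ v, vec v ≫ e = lin (L v) := by
  classical
  let F : Fin q → Γ(_root_.Twist.twistProjSpace n k 1, ⊤) := fun i =>
    (Sigma.ι (fun _ : Fin q => Coh.structureModule (CohB1.ProjSpace n k)) i ≫ e).app ⊤ (M1.one ⊤)
  have hf : ∀ i, ∃ f : Fin (n + 1) → k, ∑ l, Simple.sc k n (f l) • Simple.gX k n l = F i := by
    intro i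
    obtain ⟨p, hp⟩ := (Twist.globalOf_bijective_polyGrading n k 1).2 (F i)
    refine ⟨fun l => MvPolynomial.coeff (Finsupp.single l 1) (p : MvPolynomial (Fin (n + 1)) k), ?_⟩
    rw [← hp, NullCorr.sum_gX]
    exact congrArg (Twist.globalOf (CohB1.polyGrading n k)) (Subtype.ext (PicPn.eq_lin_of_mem p.2).symm)
  choose f hf using hf
  refine ⟨Fintype.linearCombination k f, fun v => M1.unit_hom_ext ?_⟩
  rw [lin, M1.secHom_app_one, vec, Preadditive.sum_comp, P1Split.app_sum]
  simp only [Fintype.linearCombination_apply, Finset.sum_apply, Pi.smul_apply, smul_eq_mul]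
  have h2 : ∀ l, Simple.sc k n (∑ i, v i * f i l) = ∑ i, Simple.sc k n (v i) * Simple.sc k n (f i l) := fun l =>
    (map_sum (Coh.toGlobal (CohB1.ProjSpace.toSpec n k)) _ _).trans
      (Finset.sum_congr rfl fun i _ => map_mul (Coh.toGlobal (CohB1.ProjSpace.toSpec n k)) _ _)
  simp only [h2, Finset.sum_smul, mul_smul]
  rw [Finset.sum_comm]
  refine Finset.sum_congr rfl fun i _ => ?_
  rw [← Finset.smul_sum, hf, Category.assoc, Scheme.Modules.Hom.comp_app, CategoryTheory.comp_apply,
    ThetaGrp19.smulHom_app, Scheme.Modules.Hom.app_smul]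
  simp [F, M1.ores]

/-- A linear form vanishing at a point is a multiple of a generator by a function in the maximal ideal. -/
theorem germ_lin {y : CohB1.ProjSpace n k} {D : (CohB1.ProjSpace n k).Opens} (hy : y ∈ D)
    {g : Γ(_root_.Twist.twistProjSpace n k 1, D)} (hg : Twist.IsGen (_root_.Twist.twistProjSpace n k 1) D g)
    (c : Fin (n + 1) → k)
    (hc : (∑ l, MvPolynomial.C (c l) * MvPolynomial.X l) ∈
      (show ProjectiveSpectrum (CohB1.polyGrading n k) from y).asHomogeneousIdeal) :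
    ∃ r ∈ IsLocalRing.maximalIdeal ((CohB1.ProjSpace n k).presheaf.stalk y),
      (_root_.Twist.twistProjSpace n k 1).presheaf.germ ⊤ y trivial ((lin c).app ⊤ (M1.one ⊤)) =
        r • (_root_.Twist.twistProjSpace n k 1).presheaf.germ D y hy g := by
  let t := (lin c).app ⊤ (M1.one ⊤)
  obtain ⟨r, hr⟩ := (hg D le_rfl).2 (M1.mres _ (le_top : D ≤ ⊤) t)
  have hr' : r • g = M1.mres _ (le_top : D ≤ ⊤) t := by simpa [M1.mres_id] using hr
  refine ⟨(CohB1.ProjSpace n k).presheaf.germ D y hy r, (IsLocalRing.mem_maximalIdeal _).2 fun hu => ?_, ?_⟩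
  · have ht : t = Twist.gsec (CohB1.polyGrading n k) (d := 1) ⟨_, NullCorr.term_mem c⟩ := by
      rw [← NullCorr.sum_gX]; exact M1.secHom_app_one _
    have hle := Twist.le_basicOpen_of_bijective (CohB1.polyGrading n k) (Twist.iSup_basicOpen_one n k)
      (d := 1) ⟨_, NullCorr.term_mem c⟩ ((CohB1.ProjSpace n k).basicOpen r)
      fun V hV => by
        have hVD : V ≤ D := hV.trans ((CohB1.ProjSpace n k).basicOpen_le r)
        rw [← ht]
        have hu' : IsUnit (M1.ores (X := CohB1.ProjSpace n k) hV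
            (M1.ores ((CohB1.ProjSpace n k).basicOpen_le r) r) : Γ(CohB1.ProjSpace n k, V)) :=
          ((CohB1.ProjSpace n k).toLocallyRingedSpace.toRingedSpace.isUnit_res_basicOpen r).map
            (M1.ores (X := CohB1.ProjSpace n k) hV).hom
        obtain ⟨v, hv⟩ : ∃ v : Γ(CohB1.ProjSpace n k, V)ˣ,
            (v : Γ(CohB1.ProjSpace n k, V)) = M1.ores (X := CohB1.ProjSpace n k) hVD r :=
          ⟨hu'.unit, M1.ores_ores (X := CohB1.ProjSpace n k) _ _ _⟩
        have hres : M1.mres _ (le_top : V ≤ ⊤) t = (v : Γ(CohB1.ProjSpace n k, V)) • M1.mres _ hVD g := by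
          rw [hv, ← M1.mres_mres _ (le_top : D ≤ ⊤) hVD, ← hr', M1.mres_smul]
        have hmul : Function.Bijective fun c : Γ(CohB1.ProjSpace n k, V) => c * (v : Γ(CohB1.ProjSpace n k, V)) :=
          ⟨fun a b h => (Units.mul_left_inj v).1 h, fun c => ⟨c * ((v⁻¹ : Γ(CohB1.ProjSpace n k, V)ˣ) : Γ(CohB1.ProjSpace n k, V)),
            Units.inv_mul_cancel_right c v⟩⟩
        have e : (fun c : Γ(CohB1.ProjSpace n k, V) => c • M1.mres _ (le_top : V ≤ ⊤) t) =
            (fun c => c • M1.mres _ hVD g) ∘ fun c => c * (v : Γ(CohB1.ProjSpace n k, V)) := funext fun c => by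
          show _ = (c * (v : Γ(CohB1.ProjSpace n k, V))) • M1.mres _ hVD g
          rw [hres, mul_smul]
        exact (congrArg Function.Bijective e).mpr ((hg V hVD).comp hmul)
    exact hle (((CohB1.ProjSpace n k).mem_basicOpen r y hy).2 hu) hc
  · rw [← M1.germ_smul, hr', M1.germ_mres]

/-- The linear forms of a surjection onto `O(1)` span. -/
theorem surjective_coeffs {q : ℕ} (e : Frq k n q ⟶ _root_.Twist.twistProjSpace n k 1) [Epi e]
    {L : (Fin q → k) →ₗ[k] (Fin (n + 1) → k)} (hL : ∀ v, vec v ≫ e = lin (L v)) : Function.Surjective L := by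
  classical
  rw [← LinearMap.range_eq_top]
  by_contra hne
  obtain ⟨φ, hφ0, hφ⟩ := Submodule.exists_dual_map_eq_bot_of_lt_top (lt_top_iff_ne_top.2 hne) inferInstance
  let z : Fin (n + 1) → k := fun l => φ (Pi.single l 1)
  have hsum : ∀ c : Fin (n + 1) → k, ∑ l, c l * z l = φ c := fun c => by
    conv_rhs => rw [pi_eq_sum_univ' c, map_sum]
    exact Finset.sum_congr rfl fun l _ => by rw [map_smul, smul_eq_mul]
  have hz : z ≠ 0 := fun h => hφ0 (LinearMap.ext fun c => by
    rw [← hsum, h]; simp)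
  obtain ⟨x, hx⟩ := NullCorr.exists_point z hz
  let y : CohB1.ProjSpace n k := x
  obtain ⟨j, hj⟩ := Opens.mem_iSup.1 ((ProjSpace.iSup_basicOpen n k).ge (Set.mem_univ y))
  let D : (CohB1.ProjSpace n k).Opens := Proj.basicOpen (CohB1.polyGrading n k) (MvPolynomial.X j)
  let g := M1.mres (_root_.Twist.twistProjSpace n k 1) (le_top : D ≤ ⊤) (Simple.gX k n j)
  have hg : Twist.IsGen (_root_.Twist.twistProjSpace n k 1) D g := fun V hV => by
    simp only [g, M1.mres_mres]
    exact Twist.bijective_smul_gsec (CohB1.polyGrading n k) ⟨MvPolynomial.X j, ProjSpace.X_mem' n k j⟩ V hV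
  let G := (_root_.Twist.twistProjSpace n k 1).presheaf.germ D y hj g
  obtain ⟨b, hb⟩ := (M1.epi_iff_stalk e).1 inferInstance y G
  let ιs := fun i : Fin q => Sigma.ι (fun _ : Fin q => Coh.structureModule (CohB1.ProjSpace n k)) i
  let πs := fun i : Fin q => P1Split.proj (fun _ : Fin q => Coh.structureModule (CohB1.ProjSpace n k)) i
  have hsplit : CurveCoh17.stalkLin e y b =
      ∑ i, CurveCoh17.stalkLin (ιs i ≫ e) y (CurveCoh17.stalkLin (πs i) y b) := by
    let Φ : (Frq k n q ⟶ _root_.Twist.twistProjSpace n k 1) →+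
        (_root_.Twist.twistProjSpace n k 1).presheaf.stalk y :=
      AddMonoidHom.mk' (fun h => CurveCoh17.stalkLin h y b) fun h h' => by
        simp only [CurveCoh17.stalkLin_apply, Functor.map_add]
        rfl
    show Φ e = _
    conv_lhs => rw [← Category.id_comp e, ← P1Split.sum_proj_ι, Preadditive.sum_comp]
    rw [map_sum]
    refine Finset.sum_congr rfl fun i _ => ?_
    show CurveCoh17.stalkLin _ y b = _
    rw [← CurveCoh17.stalkLin_comp, Category.assoc]
  have hmem : ∀ i, ∃ r ∈ IsLocalRing.maximalIdeal ((CohB1.ProjSpace n k).presheaf.stalk y),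
      CurveCoh17.stalkLin (ιs i ≫ e) y (CurveCoh17.stalkLin (πs i) y b) = r • G := fun i => by
    obtain ⟨r, hr, hr'⟩ := germ_lin hj hg (L (Pi.single i 1))
      (hx _ ((hsum _).trans ((Submodule.eq_bot_iff _).1 hφ _ (Submodule.mem_map_of_mem (LinearMap.mem_range_self L _)))))
    obtain ⟨c, hc⟩ := ((P1Split.isBas_of_isGen (P1Split.isGen_one (X := CohB1.ProjSpace n k) ⊤)).stalk (x := y)
      trivial).2 (CurveCoh17.stalkLin (πs i) y b)
    refine ⟨c 0 * r, Ideal.mul_mem_left _ _ hr, ?_⟩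
    rw [← hc]
    simp only [Fin.sum_univ_one]
    rw [map_smul, Simple.stalk_map_germ, show ιs i ≫ e = lin (L (Pi.single i 1)) from by rw [← hL, vec_single],
      mul_smul, ← hr']
  choose r hr hr' using hmem
  have h1 : (1 - ∑ i, r i) • G = 0 := by
    rw [sub_smul, one_smul, Finset.sum_smul, sub_eq_zero]
    exact hb.symm.trans (hsplit.trans (Finset.sum_congr rfl fun i _ => hr' i))
  have h2 := ((P1Split.isBas_of_isGen hg).stalk (x := y) hj).1
    (a₁ := fun _ => 1 - ∑ i, r i) (a₂ := fun _ => 0) (by simpa using h1)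
  have : (1 : (CohB1.ProjSpace n k).presheaf.stalk y) ∈ IsLocalRing.maximalIdeal _ := by
    rw [sub_eq_zero.1 (congrFun h2 0)]
    exact Ideal.sum_mem _ fun i _ => hr i
  exact (IsLocalRing.maximalIdeal.isMaximal _).ne_top ((Ideal.eq_top_iff_one _).2 this)

/-- A surjection of a free module onto `O(1)` is the Euler map plus a free summand. -/
theorem nonempty_kernel_iso {q : ℕ} (e' : Frq k n q ⟶ _root_.Twist.twistProjSpace n k 1) [Epi e']
    (e₀ : NullCorr.Fr k n ⟶ _root_.Twist.twistProjSpace n k 1) [Epi e₀] :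
    n + 1 ≤ q ∧ Nonempty (kernel e' ≅ kernel e₀ ⊞ Frq k n (q - (n + 1))) := by
  obtain ⟨L, hL⟩ := exists_coeffs e'
  obtain ⟨L₀, hL₀⟩ := exists_coeffs e₀
  have hs := surjective_coeffs e' hL
  have hs₀ := surjective_coeffs e₀ hL₀
  let E₀ : (Fin (n + 1) → k) ≃ₗ[k] (Fin (n + 1) → k) :=
    LinearEquiv.ofBijective L₀ ⟨LinearMap.injective_iff_surjective.2 hs₀, hs₀⟩
  let A : (Fin q → k) →ₗ[k] (Fin (n + 1) → k) := E₀.symm.toLinearMap ∘ₗ L
  have hA : Function.Surjective A := E₀.symm.surjective.comp hs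
  have hLA : ∀ v, L₀ (A v) = L v := fun v => E₀.apply_symm_apply (L v)
  have hdim : Module.finrank k (LinearMap.ker A) = q - (n + 1) := by
    have := LinearMap.finrank_range_add_finrank_ker A
    rw [LinearMap.range_eq_top.2 hA, finrank_top, Module.finrank_fin_fun, Module.finrank_fin_fun] at this
    omega
  have hle : n + 1 ≤ q := by
    simpa using LinearMap.finrank_le_finrank_of_injective
      (f := (A.exists_rightInverse_of_surjective (LinearMap.range_eq_top.2 hA)).choose)
      (Function.LeftInverse.injective (g := A) fun v => LinearMap.congr_fun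
        (A.exists_rightInverse_of_surjective (LinearMap.range_eq_top.2 hA)).choose_spec v)
  refine ⟨hle, ?_⟩
  obtain ⟨C, hC⟩ := A.exists_rightInverse_of_surjective (LinearMap.range_eq_top.2 hA)
  have hC' : ∀ a, A (C a) = a := fun a => LinearMap.congr_fun hC a
  let bK := (Module.finBasisOfFinrankEq k (LinearMap.ker A) hdim).equivFun
  let B : (Fin q → k) →ₗ[k] (Fin (q - (n + 1)) → k) :=
    bK.toLinearMap ∘ₗ LinearMap.codRestrict (LinearMap.ker A) (LinearMap.id - C ∘ₗ A)
      fun v => by simp [hC']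
  let D : (Fin (q - (n + 1)) → k) →ₗ[k] (Fin q → k) := (LinearMap.ker A).subtype ∘ₗ bK.symm.toLinearMap
  have hAD : A ∘ₗ D = 0 := LinearMap.ext fun w => (bK.symm w).2
  have hBC : B ∘ₗ C = 0 := LinearMap.ext fun a => by
    show bK _ = 0
    refine (map_eq_zero_iff bK bK.injective).2 (Subtype.ext ?_)
    simp [hC']
  have hBD : B ∘ₗ D = LinearMap.id := LinearMap.ext fun w => by
    show bK _ = w
    refine (LinearEquiv.symm_apply_eq bK).1 (Subtype.ext ?_) |>.symm
    simp [D, show A ((bK.symm w : LinearMap.ker A) : Fin q → k) = 0 from (bK.symm w).2]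
  have hsum : C ∘ₗ A + D ∘ₗ B = LinearMap.id := LinearMap.ext fun v => by
    simp [D, B]
  let P : Frq k n q ≅ Frq k n (n + 1) ⊞ Frq k n (q - (n + 1)) :=
    { hom := biprod.lift (mat A) (mat B)
      inv := biprod.desc (mat C) (mat D)
      hom_inv_id := by rw [biprod.lift_desc, mat_comp, mat_comp, ← mat_add, hsum, mat_id]
      inv_hom_id := by
        refine biprod.hom_ext' _ _ (biprod.hom_ext _ _ ?_ ?_) (biprod.hom_ext _ _ ?_ ?_) <;>
          simp [mat_comp, hC, hAD, hBC, hBD, mat_id, mat_zero] }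
  have hP : P.hom ≫ biprod.desc e₀ 0 = e' := by
    simp only [P, biprod.lift_desc, comp_zero, add_zero]
    refine Sigma.hom_ext _ _ fun i => ?_
    rw [← vec_single (k := k), ← Category.assoc, vec_mat, hL, hL₀, hLA]
  let i1 : kernel e' ≅ kernel (biprod.desc e₀ (0 : Frq k n (q - (n + 1)) ⟶ _)) :=
    kernel.mapIso e' _ P (Iso.refl _) (by simp [hP])
  let i2 : kernel (biprod.desc e₀ (0 : Frq k n (q - (n + 1)) ⟶ _)) ≅ kernel e₀ ⊞ Frq k n (q - (n + 1)) :=
    { hom := biprod.lift (kernel.lift e₀ (kernel.ι _ ≫ biprod.fst) (by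
          rw [Category.assoc, show (biprod.fst : Frq k n (n + 1) ⊞ Frq k n (q - (n + 1)) ⟶ _) ≫ e₀ = biprod.desc e₀ 0 from
            biprod.hom_ext' _ _ (by simp) (by simp), kernel.condition])) (kernel.ι _ ≫ biprod.snd)
      inv := kernel.lift _ (biprod.map (kernel.ι e₀) (𝟙 _)) (biprod.hom_ext' _ _ (by simp) (by simp))
      hom_inv_id := (cancel_mono (kernel.ι _)).1 (biprod.hom_ext _ _ (by simp) (by simp))
      inv_hom_id := biprod.hom_ext _ _ ((cancel_mono (kernel.ι e₀)).1 (by simp)) (by simp) }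
  exact ⟨i1 ≪≫ i2⟩

/-- Restriction of `Ω` along a morphism of projective spaces of degree one. -/
theorem nonempty_pullback_omega {m : ℕ} (f : CohB1.ProjSpace m k ⟶ CohB1.ProjSpace n k)
    (eO : (Scheme.Modules.pullback f).obj (_root_.Twist.twistProjSpace n k 1) ≅ _root_.Twist.twistProjSpace m k 1) :
    m ≤ n ∧ Nonempty ((Scheme.Modules.pullback f).obj (Omega.sheaf (CohB1.ProjSpace.toSpec n k)) ≅
      Omega.sheaf (CohB1.ProjSpace.toSpec m k) ⊞ ∐ fun _ : Fin (n - m) => _root_.Twist.twistProjSpace m k (-1)) := by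
  obtain ⟨ι, e, w, hE⟩ := NullCorr.exists_euler k n
  obtain ⟨ι₀, e₀, w₀, hE₀⟩ := NullCorr.exists_euler k m
  haveI : Epi e₀ := hE₀.epi_g
  have hp := CMReg18.shortExact_pullback f _ hE
    (KFlat.Sch.isFlat_of_isFinLocFree (M2.isFinLocFree_of_ofRank (rank_O (k := k) (n := n) 1)))
  let F := M2.freeModPullbackIso f (n + 1)
  let e' : Frq k m (n + 1) ⟶ _root_.Twist.twistProjSpace m k 1 :=
    F.inv ≫ (Scheme.Modules.pullback f).map e ≫ eO.hom
  haveI : Epi ((Scheme.Modules.pullback f).map e) := hp.epi_g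
  haveI : Epi e' := inferInstance
  obtain ⟨hle, ⟨K⟩⟩ := nonempty_kernel_iso e' e₀
  haveI : Mono ((Scheme.Modules.pullback f).map ι) := hp.mono_f
  let j1 : kernel ((Scheme.Modules.pullback f).map e) ≅ kernel e' :=
    kernel.mapIso _ _ F eO (by simp [e'])
  let j2 : (Scheme.Modules.pullback f).obj (NullCorr.Om1 k n) ≅ kernel ((Scheme.Modules.pullback f).map e) :=
    hp.fIsKernel.conePointUniqueUpToIso (limit.isLimit _)
  haveI : Mono ι₀ := hE₀.mono_f
  let j3 : NullCorr.Om1 k m ≅ kernel e₀ := hE₀.fIsKernel.conePointUniqueUpToIso (limit.isLimit _)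
  let j4 : CohB1.tensorMod ((Scheme.Modules.pullback f).obj (Omega.sheaf (CohB1.ProjSpace.toSpec n k)))
      (_root_.Twist.twistProjSpace m k 1) ≅ NullCorr.Om1 k m ⊞ Frq k m (n + 1 - (m + 1)) :=
    M2.tensorIso (Iso.refl _) eO.symm ≪≫ (M2.pullTensorIso f _ _).symm ≪≫ j2 ≪≫ j1 ≪≫ K ≪≫
      biprod.mapIso j3.symm (Iso.refl _)
  refine ⟨by omega, ⟨?_⟩⟩
  rw [show n - m = n + 1 - (m + 1) by omega]
  let Dm := _root_.Twist.twistProjSpace m k (-1)
  haveI := preservesBinaryBiproducts_of_preservesBiproducts (M2.tensorR Dm)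
  exact (M2.untwist (negIso (k := k) (n := m) 1) _).symm ≪≫ M2.tensorIso j4 (Iso.refl Dm) ≪≫
    (M2.tensorR Dm).mapBiprod (NullCorr.Om1 k m) (Frq k m (n + 1 - (m + 1))) ≪≫
    biprod.mapIso (M2.untwist (negIso (k := k) (n := m) 1) _) (M2.freeModTensorIso _ _ Dm)

end Groth.Agent.RankTwo11.Linear
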