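import Groth.Agent.Lib.RankTwo11.Pencil

/-!
# The sequence of a hyperplane
-/

set_option autoImplicit false
set_option linter.style.haveILetI false
set_option linter.unusedSectionVars false
set_option backward.isDefEq.respectTransparency false
set_option backward.isDefEq.respectTransparency.types false
set_option maxHeartbeats 1000000

universe u

open CategoryTheory CategoryTheory.Limits AlgebraicGeometry TopologicalSpace Opposite

noncomputable section

namespace Groth.Agent.RankTwo11.Pencil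

open Groth.Agent

variable {k : Type u} [Field k] {n : ℕ}

/-- The long exact sequence of multiplication by a nonzero form. -/
theorem mu_seq {m : ℕ} (c : Fin (m + 1 + 1) → k) (hc : c ≠ 0) :
    ∃ (j : CohB1.ProjSpace m k ⟶ CohB1.ProjSpace (m + 1) k) (_ : IsClosedImmersion j),
      j ≫ CohB1.ProjSpace.toSpec (m + 1) k = CohB1.ProjSpace.toSpec m k ∧
      Nonempty ((Scheme.Modules.pullback j).obj (_root_.Twist.twistProjSpace (m + 1) k 1) ≅ _root_.Twist.twistProjSpace m k 1) ∧
      ∀ G : (CohB1.ProjSpace (m + 1) k).Modules, FlatMod.IsFinLocFree G →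
        Function.Injective (CurveCoh17.hmap k (mu G c) 0) ∧
        ∃ (r : ∀ q, Coh.HH _ G q →ₗ[k] Coh.HH _ ((Scheme.Modules.pullback j).obj G) q)
          (δ : ∀ q, Coh.HH _ ((Scheme.Modules.pullback j).obj G) q →ₗ[k]
            Coh.HH _ (CohB1.tensorMod G (_root_.Twist.twistProjSpace (m + 1) k (-1))) (q + 1)),
          ∀ q, Function.Exact (CurveCoh17.hmap k (mu G c) q) (r q) ∧ Function.Exact (r q) (δ q) ∧
            Function.Exact (δ q) (CurveCoh17.hmap k (mu G c) (q + 1)) := by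
  classical
  let P := CohB1.ProjSpace (m + 1) k
  let s := Linear.lin c
  have hs : s ≠ 0 := fun h => hc (Hyper.lin_eq_zero h)
  have hs' : (show Coh.structureModule (Proj (CohB1.polyGrading (m + 1) k)) ⟶
      _root_.Twist.twist (CohB1.polyGrading (m + 1) k) 1 from s) ≠ 0 := hs
  obtain ⟨ℓ, hℓ, hℓ0, hval⟩ := Hyperplane18.exists_linearForm k (m + 1) _ hs'
  obtain ⟨φ, hsurj, hC, hker0, hφ⟩ := Cyc26Lin.exists_linMap (c := 1) (m := m) (n := m + 1)
    (fun _ : Fin 1 => (⟨ℓ, hℓ⟩ : LefPen.Form (m + 1) k 1))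
    (linearIndependent_unique_iff.2 fun h => hℓ0 (congrArg Subtype.val h)) (add_comm 1 m)
  have hker : ∀ a, φ a = 0 ↔ ℓ ∣ a := fun a => by
    rw [hker0, Set.range_const, Ideal.mem_span_singleton]
  haveI : IsClosedImmersion (Proj.map φ hφ) := by
    refine Groth.Agent.EGA2.map_of_forall_away φ hφ @IsClosedImmersion fun d hd t ht => ?_
    refine IsClosedImmersion.spec_of_surjective _ (Groth.Agent.EGA2.away_map_surjective φ ?_ hd ht)
    intro m' hm' b hb
    obtain ⟨a, rfl⟩ := hsurj b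
    refine ⟨(DirectSum.decompose (CohB1.polyGrading (m + 1) k) a m' : MvPolynomial (Fin (m + 1 + 1)) k),
      SetLike.coe_mem _, ?_⟩
    rw [GradedRingHom.map_directSumDecompose, DirectSum.decompose_of_mem_same _ hb]
  let j : CohB1.ProjSpace m k ⟶ CohB1.ProjSpace (m + 1) k := Proj.map φ hφ
  haveI : IsClosedImmersion j := ‹IsClosedImmersion (Proj.map φ hφ)›
  let I : P.IdealSheafData := PicF2.zeroScheme _ s
  have hz : j.ker = I := Hyperplane18.ker_eq_zeroScheme k (m + 1) hℓ φ hφ hker _ hℓ0 hval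
  have hjs : j ≫ CohB1.ProjSpace.toSpec (m + 1) k = CohB1.ProjSpace.toSpec m k := by
    show Proj.map φ hφ ≫ Proj.toSpecZero _ ≫ _ = Proj.toSpecZero _ ≫ _
    rw [reassoc_of% (RelProj11.map_toSpecZero (ψ := φ) hφ), ← Spec.map_comp]
    congr 2
    refine CommRingCat.hom_ext (RingHom.ext fun r => Subtype.ext ?_)
    exact hC r
  haveI := IsClosedImmersion.isIso_lift I.subschemeι j ((Scheme.IdealSheafData.ker_subschemeι _).trans hz.symm)
  let e := asIso (IsClosedImmersion.lift I.subschemeι j ((Scheme.IdealSheafData.ker_subschemeι _).trans hz.symm).le)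
  have he : e.hom ≫ I.subschemeι = j := IsClosedImmersion.lift_fac I.subschemeι _ _
  refine ⟨j, inferInstance, hjs, ⟨(Hyperplane18.nonempty_pullback_twist_one φ hφ
    (Groth.Agent.Twist.iSup_basicOpen_one (m + 1) k)).some⟩, fun G hG => ?_⟩
  haveI : IsIntegral P := RegExt.isIntegral_projSpace (m + 1) k
  have hO1 : PicF.IsInvertible (_root_.Twist.twistProjSpace (m + 1) k 1) := isInvertible_O 1
  have hO1' : PicF.IsInvertible (_root_.Twist.twistProjSpace (m + 1) k (-1)) := isInvertible_O (-1)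
  obtain ⟨eI⟩ := IrrDiv13.nonempty_inverse_iso_zeroScheme hO1 hO1' (negIso 1) s hs
  obtain ⟨ψ, hψ⟩ := exists_factor hO1 hO1' (negIso 1) s hs
  have hψ' : ψ ≫ ClSub.idealModι I = ff c := hψ
  obtain ⟨a, ha⟩ := NullCorr.exists_const (ψ ≫ eI.inv)
  have ha0 : a ≠ 0 := by
    rintro rfl
    refine ff_ne_zero hc ?_
    have : ψ ≫ eI.inv = 0 := ha.trans ((congrArg _ (map_zero (Coh.toGlobal (CohB1.ProjSpace.toSpec (m + 1) k)))).trans
      (Linear.smulHom_zero _))
    rw [← hψ', ← Category.comp_id ψ, ← eI.inv_hom_id, reassoc_of% this]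
    simp
  haveI : IsIso (ψ ≫ eI.inv) := by rw [ha]; exact CompleteInt.smulHom_isIso _ ha0
  haveI : IsIso ψ := IsIso.of_isIso_comp_right ψ eI.inv
  have hGq : Coh.IsQCoh G := M2.isQCoh_of_isFinLocFree hG
  let S := (ShortComplex.mk (ClSub.idealModι I) (ClSub.toSubscheme I) (kernel.condition _)).map (M2.tensorR G)
  have hS : S.ShortExact := CurveCoh17.shortExact_tensorR (M2.shortExact_idealMod I) G fun x =>
    haveI : Module.Free _ (G.presheaf.stalk x) := ((M1.isFinLocFree_iff _).1 hG).2 x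
    Module.Flat.of_free
  let A₀ : CohB1.tensorMod G (_root_.Twist.twistProjSpace (m + 1) k (-1)) ≅ S.X₁ :=
    M2.tensorComm _ _ ≪≫ (M2.tensorR G).mapIso (asIso ψ)
  let B₀ : S.X₂ ≅ G := M2.tensorLUnit G
  have hmu : mu G c = A₀.hom ≫ S.f ≫ B₀.hom := by
    show _ = ((M2.tensorComm _ _).hom ≫ (M2.tensorR G).map ψ) ≫ (M2.tensorR G).map (ClSub.idealModι I) ≫ _
    rw [Category.assoc, ← Functor.map_comp_assoc, hψ']
    rfl
  have hcomp : ∀ q, ⇑(CurveCoh17.hmap k (mu G c) q) = ⇑(CurveCoh17.hequiv k B₀ q) ∘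
      ⇑(CurveCoh17.hmap k S.f q) ∘ ⇑(CurveCoh17.hequiv k A₀ q) := fun q => funext fun x => by
    rw [hmu, CurveCoh17.hmap_comp, CurveCoh17.hmap_comp]
    rfl
  haveI := hS.mono_f
  have hX3 : ∀ q, Nonempty (Coh.HH _ S.X₃ q ≃ₗ[k] Coh.HH _ ((Scheme.Modules.pullback j).obj G) q) := fun q => by
    haveI hOq : (Coh.structureModule I.subscheme).IsQuasicoherent := M1.isQCoh_structureModule I.subscheme
    let GZ := (Scheme.Modules.pullback I.subschemeι).obj G
    obtain ⟨eQ⟩ := CohFound.nonempty_push_tensor_iso I.subschemeι (Coh.structureModule I.subscheme) hOq G hGq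
    let M := CohB1.tensorMod (Coh.structureModule I.subscheme) GZ
    have hMq : Coh.IsQCoh M := M2.isQCoh_tensor hOq (M1.isQCoh_pullback _ hGq)
    haveI : M.IsQuasicoherent := hMq
    letI : I.subscheme.Over (Spec (CommRingCat.of k)) := ⟨I.subschemeι ≫ CohB1.ProjSpace.toSpec (m + 1) k⟩
    obtain ⟨e1⟩ := CurveCoh17.nonempty_hequiv_push k I.subschemeι rfl M q
    let N := (Scheme.Modules.pullback e.hom).obj M
    haveI : IsIso ((Scheme.Modules.pullbackPushforwardAdjunction e.hom).unit.app M) :=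
      M1.isIso_unit_of_ker_smul e.hom M hMq fun U a ha s => by
        rw [e.hom.ker_eq_bot_of_isIso] at ha
        rw [show a = 0 by simpa using ha, zero_smul]
    haveI : N.IsQuasicoherent := M1.isQCoh_pullback e.hom hMq
    let e2 := CurveCoh17.hequiv k (asIso ((Scheme.Modules.pullbackPushforwardAdjunction e.hom).unit.app M)) q
    let eN : N ≅ (Scheme.Modules.pullback j).obj G :=
      (Scheme.Modules.pullback e.hom).mapIso (M2.tensorLUnit GZ) ≪≫
        (Scheme.Modules.pullbackComp e.hom I.subschemeι).app G ≪≫ (Scheme.Modules.pullbackCongr he).app G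
    let e0 := CurveCoh17.hequiv k eQ.symm q
    have hφ' : e.hom ≫ (I.subscheme ↘ Spec (CommRingCat.of k)) = CohB1.ProjSpace m k ↘ Spec (CommRingCat.of k) :=
      ((Category.assoc _ _ _).symm.trans (congrArg (· ≫ _) he)).trans hjs
    obtain ⟨e3⟩ := CurveCoh17.nonempty_hequiv_push k e.hom hφ' N q
    exact ⟨(e0.trans e1).trans ((e2.trans e3).trans (CurveCoh17.hequiv k eN q))⟩
  let E := fun q => (hX3 q).some
  have hx : ∀ q x, CurveCoh17.hmap k (mu G c) q x =
      CurveCoh17.hequiv k B₀ q (CurveCoh17.hmap k S.f q (CurveCoh17.hequiv k A₀ q x)) := fun q x => congrFun (hcomp q) x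
  refine ⟨?_, fun q => (E q).toLinearMap.comp ((CurveCoh17.hmap k S.g q).comp (CurveCoh17.hequiv k B₀ q).symm.toLinearMap),
    fun q => (CurveCoh17.hequiv k A₀ (q + 1)).symm.toLinearMap.comp ((CurveCoh17.hdelta k hS q).comp (E q).symm.toLinearMap),
    fun q => ⟨fun y => ?_, fun y => ?_, fun y => ?_⟩⟩
  · rw [hcomp]
    exact (LinearEquiv.injective _).comp (Function.Injective.comp (CurveCoh17.hmap_f_injective k hS) (LinearEquiv.injective _))
  · constructor
    · intro h
      obtain ⟨x, hx'⟩ := (CurveCoh17.exact_hmap_hmap k hS q _).1 ((LinearEquiv.map_eq_zero_iff (E q)).1 h)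
      exact ⟨(CurveCoh17.hequiv k A₀ q).symm x, by
        rw [hx, LinearEquiv.apply_symm_apply, hx', LinearEquiv.coe_coe, LinearEquiv.apply_symm_apply]⟩
    · rintro ⟨x, rfl⟩
      refine (LinearEquiv.map_eq_zero_iff (E q)).2 ((CurveCoh17.exact_hmap_hmap k hS q _).2 ⟨CurveCoh17.hequiv k A₀ q x, ?_⟩)
      rw [hx, LinearEquiv.coe_coe, LinearEquiv.symm_apply_apply]
  · constructor
    · intro h
      obtain ⟨x, hx'⟩ := (CurveCoh17.exact_hmap_hdelta k hS q _).1 ((LinearEquiv.map_eq_zero_iff (CurveCoh17.hequiv k A₀ (q + 1)).symm).1 h)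
      refine ⟨CurveCoh17.hequiv k B₀ q x, ?_⟩
      show E q (CurveCoh17.hmap k S.g q ((CurveCoh17.hequiv k B₀ q).symm (CurveCoh17.hequiv k B₀ q x))) = y
      rw [LinearEquiv.symm_apply_apply, hx']
      exact LinearEquiv.apply_symm_apply _ _
    · rintro ⟨x, rfl⟩
      refine (LinearEquiv.map_eq_zero_iff (CurveCoh17.hequiv k A₀ (q + 1)).symm).2 ((CurveCoh17.exact_hmap_hdelta k hS q _).2 ⟨(CurveCoh17.hequiv k B₀ q).symm x, ?_⟩)
      exact ((E q).symm_apply_apply _).symm
  · constructor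
    · intro h
      rw [hx] at h
      obtain ⟨x, hx'⟩ := (CurveCoh17.exact_hdelta_hmap k hS q _).1 ((LinearEquiv.map_eq_zero_iff _).1 h)
      refine ⟨E q x, ?_⟩
      show (CurveCoh17.hequiv k A₀ (q + 1)).symm (CurveCoh17.hdelta k hS q ((E q).symm (E q x))) = y
      rw [LinearEquiv.symm_apply_apply, hx', LinearEquiv.symm_apply_apply]
    · rintro ⟨x, rfl⟩
      rw [hx]
      refine (LinearEquiv.map_eq_zero_iff _).2 ((CurveCoh17.exact_hdelta_hmap k hS q _).2 ⟨(E q).symm x, ?_⟩)
      exact ((CurveCoh17.hequiv k A₀ (q + 1)).apply_symm_apply _).symm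

end Groth.Agent.RankTwo11.Pencil
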