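import Mathlib.RingTheory.Nullstellensatz
import Mathlib.RingTheory.MvPolynomial.Homogeneous
import Mathlib.Algebra.MvPolynomial.Division
import Mathlib.Algebra.MvPolynomial.NoZeroDivisors
import Mathlib.RingTheory.Polynomial.UniqueFactorization
import Mathlib.LinearAlgebra.Matrix.Adjugate
import Mathlib.LinearAlgebra.Matrix.ToLinearEquiv
import Mathlib.LinearAlgebra.Matrix.ToLin
import Mathlib.LinearAlgebra.Dimension.Finite
import Mathlib.Tactic.LinearCombination

/-!
# Nets of surjections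

A net of surjections from a space of dimension `g + 1` onto one of dimension `g` has `g = 0`.
-/

set_option autoImplicit false
set_option linter.unusedSectionVars false
set_option maxHeartbeats 1000000

universe u

open MvPolynomial Matrix

noncomputable section

namespace Groth.Agent.RankTwo11.Nets

variable {k : Type u} [Field k]

local notation "R" => MvPolynomial (Fin 3) k

theorem split_pow {σ : Type*} (i : σ) (N : ℕ) (c : MvPolynomial σ k) :
    c = X i ^ N * c.divMonomial (Finsupp.single i N) + c.modMonomial (Finsupp.single i N) := by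
  rw [X_pow_eq_monomial, MvPolynomial.divMonomial_add_modMonomial]

theorem eq_zero_of_reduced {N : ℕ} {r : R} {a b : R} (h2 : ∀ e : Fin 3 →₀ ℕ, N ≤ e 2 → r.coeff e = 0)
    (h1 : ∀ e : Fin 3 →₀ ℕ, N ≤ e 1 → r.coeff e = 0) (h : X 0 ^ N * r = X 1 ^ N * a + X 2 ^ N * b) : r = 0 := by
  classical
  ext e
  rw [coeff_zero]
  by_cases he1 : N ≤ e 1
  · exact h1 e he1
  by_cases he2 : N ≤ e 2
  · exact h2 e he2
  have := congrArg (coeff (e + Finsupp.single 0 N)) h
  rw [coeff_add, X_pow_eq_monomial, X_pow_eq_monomial, X_pow_eq_monomial, coeff_monomial_mul', coeff_monomial_mul',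
    coeff_monomial_mul', if_pos (le_add_left le_rfl), add_tsub_cancel_right, one_mul,
    if_neg (fun hh => he1 (by simpa using hh 1)), if_neg (fun hh => he2 (by simpa using hh 2)), add_zero] at this
  exact this

theorem not_dvd_X_pow {i j : Fin 3} (h : i ≠ j) (N : ℕ) : ¬ (X i : R) ∣ X j ^ N := fun ⟨t, ht⟩ => by
  have := congrArg (eval (Pi.single j (1 : k))) ht
  simp [h] at this

/-- The powers of the variables form a regular sequence. -/
theorem exists_koszul {N : ℕ} {c01 c02 c12 : R} (h : X 0 ^ N * c12 - X 1 ^ N * c02 + X 2 ^ N * c01 = 0) :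
    ∃ d0 d1 d2, c12 = X 2 ^ N * d1 - X 1 ^ N * d2 ∧ c02 = X 2 ^ N * d0 - X 0 ^ N * d2 ∧
      c01 = X 1 ^ N * d0 - X 0 ^ N * d1 := by
  let r1 := c12.modMonomial (Finsupp.single 2 N)
  let r2 := r1.modMonomial (Finsupp.single 1 N)
  let u := c12.divMonomial (Finsupp.single 2 N)
  let w := r1.divMonomial (Finsupp.single 1 N)
  have e1 : c12 = X 2 ^ N * u + r1 := split_pow 2 N c12
  have e2 : r1 = X 1 ^ N * w + r2 := split_pow 1 N r1
  have h2 : ∀ e : Fin 3 →₀ ℕ, N ≤ e 2 → r2.coeff e = 0 := fun e he => by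
    by_cases h1 : Finsupp.single 1 N ≤ e
    · exact MvPolynomial.coeff_modMonomial_of_le _ h1
    · rw [MvPolynomial.coeff_modMonomial_of_not_le _ h1]
      exact MvPolynomial.coeff_modMonomial_of_le _ (Finsupp.single_le_iff.2 he)
  have hr : r2 = 0 := eq_zero_of_reduced (a := c02 - X 0 ^ N * w) (b := -c01 - X 0 ^ N * u) h2
    (fun e he => MvPolynomial.coeff_modMonomial_of_le _ (Finsupp.single_le_iff.2 he))
    (by linear_combination h - X 0 ^ N * e1 - X 0 ^ N * e2)
  have e3 : c12 = X 2 ^ N * u + X 1 ^ N * w := by rw [e1, e2, hr, add_zero]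
  have h3 : X 1 ^ N * (c02 - X 0 ^ N * w) = X 2 ^ N * (c01 + X 0 ^ N * u) := by linear_combination -h + X 0 ^ N * e3
  obtain ⟨d0, hd0⟩ : X 2 ^ N ∣ c02 - X 0 ^ N * w :=
    (MvPolynomial.X_prime (i := (2 : Fin 3))).pow_dvd_of_dvd_mul_left N (a := X 1 ^ N) (not_dvd_X_pow (by decide) N) ⟨_, h3⟩
  refine ⟨d0, u, -w, by linear_combination e3, by linear_combination hd0, ?_⟩
  refine mul_left_cancel₀ (pow_ne_zero N (X_ne_zero (2 : Fin 3))) ?_
  linear_combination -h3 + X 1 ^ N * hd0

/-- A net of surjections drops by more than one. -/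
theorem eq_zero_of_net [IsAlgClosed k] {g : ℕ} (B : Fin 3 → Matrix (Fin g) (Fin (g + 1)) k)
    (hB : ∀ v : Fin 3 → k, v ≠ 0 → ∀ w : Fin g → k, ∃ x, (∑ i, v i • B i) *ᵥ x = w) : g = 0 := by
  classical
  by_contra hg
  let M : Matrix (Fin g) (Fin (g + 1)) R := Matrix.of fun s l => ∑ i, C (B i s l) * X i
  let A : (Fin (g + 1) → R) → Matrix (Fin (g + 1)) (Fin (g + 1)) R := fun c => Matrix.of (Fin.snoc (fun s => M s) c)
  have hAl : ∀ c l, A c (Fin.last g) l = c l := fun c l => by simp [A]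
  have hAc : ∀ c s l, A c (Fin.castSucc s) l = M s l := fun c s l => by simp [A]
  let e : Fin (g + 1) → Fin (g + 1) → R := fun j => Pi.single j 1
  let q : Fin (g + 1) → R := fun j => (A (e j)).det
  have hlast : ∀ c i, (A c).adjugate i (Fin.last g) = q i := fun c i => by
    rw [Matrix.adjugate_apply]
    refine congrArg Matrix.det (Matrix.ext fun a b => ?_)
    refine Fin.lastCases ?_ (fun s => ?_) a
    · rw [Matrix.updateRow_self, hAl]
    · rw [Matrix.updateRow_ne (Fin.castSucc_lt_last s).ne, hAc, hAc]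
  have hq : ∀ s, ∑ l, M s l * q l = 0 := fun s => by
    have h1 := congrFun (congrFun (Matrix.mul_adjugate (A (e 0))) (Fin.castSucc s)) (Fin.last g)
    rw [Matrix.mul_apply, Matrix.smul_apply, Matrix.one_apply_ne (Fin.castSucc_lt_last s).ne, smul_zero] at h1
    refine Eq.trans (Finset.sum_congr rfl fun l _ => ?_) h1
    rw [hAc, hlast]
  have hker : ∀ u : Fin (g + 1) → R, (∀ s, ∑ l, M s l * u l = 0) → ∀ j l, q j * u l = u j * q l := fun u hu j l => by
    have h1 : (A (e j)) *ᵥ u = fun a => if a = Fin.last g then u j else 0 := funext fun a => by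
      refine Fin.lastCases ?_ (fun s => ?_) a
      · rw [if_pos rfl]
        show ∑ b, A (e j) (Fin.last g) b * u b = _
        simp [hAl, e, Pi.single_apply]
      · rw [if_neg (Fin.castSucc_lt_last s).ne, ← hu s]
        show ∑ b, A (e j) (Fin.castSucc s) b * u b = _
        exact Finset.sum_congr rfl fun b _ => by rw [hAc]
    have h2 := congrArg (fun y => ((A (e j)).adjugate *ᵥ y) l) h1
    simp only [Matrix.mulVec_mulVec, Matrix.adjugate_mul, Matrix.smul_mulVec, Matrix.one_mulVec,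
      Pi.smul_apply, smul_eq_mul] at h2
    rw [show q j = (A (e j)).det from rfl, h2]
    show ∑ b, (A (e j)).adjugate l b * (if b = Fin.last g then u j else 0) = _
    simp [hlast, mul_comm]
  -- the minors have no common zero off the origin
  have hmin : ∀ v : Fin 3 → k, v ≠ 0 → ∃ j, eval v (q j) ≠ 0 := fun v hv => by
    let Mv : Matrix (Fin g) (Fin (g + 1)) k := ∑ i, v i • B i
    have hMv : ∀ s l, eval v (M s l) = Mv s l := fun s l => by
      simp [M, Mv, map_sum, Matrix.sum_apply, mul_comm]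
    by_contra! hall
    have hA : ∀ j, ∃ y : Fin (g + 1) → k, y ≠ 0 ∧ Mv *ᵥ y = 0 ∧ y j = 0 := fun j => by
      have h0 : ((A (e j)).map (eval v)).det = 0 := by
        rw [← RingHom.mapMatrix_apply, ← RingHom.map_det]; exact hall j
      obtain ⟨y, hy0, hy⟩ := Matrix.exists_mulVec_eq_zero_iff.2 h0
      refine ⟨y, hy0, funext fun s => ?_, ?_⟩
      · refine Eq.trans ?_ (congrFun hy (Fin.castSucc s))
        show ∑ b, Mv s b * y b = ∑ b, eval v (A (e j) (Fin.castSucc s) b) * y b
        exact Finset.sum_congr rfl fun b _ => by rw [hAc, hMv]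
      · have := congrFun hy (Fin.last g)
        simpa [Matrix.mulVec, dotProduct, hAl, e, Pi.single_apply, apply_ite (eval v)] using this
    obtain ⟨y, hy0, hyk, -⟩ := hA 0
    obtain ⟨j, hj⟩ := Function.ne_iff.1 hy0
    obtain ⟨y', hy'0, hy'k, hy'j⟩ := hA j
    have hdim : Module.finrank k (LinearMap.ker Mv.mulVecLin) = 1 := by
      have := LinearMap.finrank_range_add_finrank_ker Mv.mulVecLin
      rw [(LinearMap.range_eq_top (f := Mv.mulVecLin)).2 (fun w => hB v hv w), finrank_top, Module.finrank_fin_fun, Module.finrank_fin_fun] at this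
      omega
    obtain ⟨a, ha⟩ := exists_smul_eq_of_finrank_eq_one hdim (x := (⟨y, hyk⟩ : LinearMap.ker Mv.mulVecLin))
      (fun h0 => hy0 (congrArg Subtype.val h0)) ⟨y', hy'k⟩
    have ha' : a * y j = y' j := congrFun (congrArg Subtype.val ha) j
    rw [hy'j, mul_eq_zero] at ha'
    exact hy'0 (by rw [← (show a • y = y' from congrArg Subtype.val ha), ha'.resolve_right hj, zero_smul])
  have hrad : ∀ i : Fin 3, ∃ (N : ℕ) (r : Fin (g + 1) → R), X i ^ N = ∑ j, r j * q j := fun i => by
    have h1 : X i ∈ (Ideal.span (Set.range q)).radical := by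
      rw [← MvPolynomial.vanishingIdeal_zeroLocus_eq_radical (k := k) (K := k) (Ideal.span (Set.range q))]
      intro x hx
      by_cases h0 : x = 0
      · simp [h0]
      obtain ⟨j, hj⟩ := hmin x h0
      exact absurd (by simpa [MvPolynomial.aeval_eq_eval] using hx (q j) (Ideal.subset_span ⟨j, rfl⟩)) hj
    obtain ⟨N, hN⟩ := h1
    obtain ⟨r, hr⟩ := (Ideal.mem_span_range_iff_exists_fun).1 hN
    exact ⟨N, r, hr.symm⟩
  choose N r hr using hrad
  let T := N 0 + N 1 + N 2 + 1
  have hT : ∀ i, ∃ r : Fin (g + 1) → R, X i ^ T = ∑ j, r j * q j := fun i => by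
    refine ⟨fun j => X i ^ (T - N i) * r i j, ?_⟩
    rw [← Nat.sub_add_cancel (show N i ≤ T by fin_cases i <;> simp [T] <;> omega), pow_add, hr, Finset.mul_sum]
    simp [mul_assoc]
  choose ρ hρ using hT
  have hq0 : ∃ j, q j ≠ 0 := by
    obtain ⟨j, hj⟩ := hmin (Pi.single 0 1) (fun h0 => one_ne_zero (α := k) (by simpa using congrFun h0 0))
    exact ⟨j, fun h0 => hj (by rw [h0, map_zero])⟩
  obtain ⟨j₀, hj₀⟩ := hq0
  -- the kernel is free on the minors
  have hfree : ∀ u : Fin (g + 1) → R, (∀ s, ∑ l, M s l * u l = 0) → ∃ μ, ∀ l, u l = μ * q l := fun u hu => by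
    have hl : ∀ i l, X i ^ T * u l = (∑ j, ρ i j * u j) * q l := fun i l => by
      rw [hρ, Finset.sum_mul, Finset.sum_mul]
      exact Finset.sum_congr rfl fun j _ => by rw [mul_assoc, hker u hu j l, ← mul_assoc]
    have h01 : X 1 ^ T * (∑ j, ρ 0 j * u j) = X 0 ^ T * ∑ j, ρ 1 j * u j := by
      refine mul_right_cancel₀ hj₀ ?_
      linear_combination X 0 ^ T * hl 1 j₀ - X 1 ^ T * hl 0 j₀
    obtain ⟨μ, hμ⟩ := (MvPolynomial.X_prime (i := (0 : Fin 3))).pow_dvd_of_dvd_mul_left T (a := X 1 ^ T) (not_dvd_X_pow (by decide) T) ⟨_, h01⟩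
    refine ⟨μ, fun l => mul_left_cancel₀ (pow_ne_zero T (X_ne_zero (0 : Fin 3))) ?_⟩
    rw [hl, hμ]
    ring
  let s₀ : Fin g := ⟨0, Nat.pos_of_ne_zero hg⟩
  let δ : Fin g → R := fun s => if s = s₀ then 1 else 0
  let a : Fin 3 → Fin (g + 1) → R := fun i l => ∑ j, ρ i j * (A (e j)).adjugate l (Fin.castSucc s₀)
  have ha : ∀ i s, ∑ l, M s l * a i l = X i ^ T * δ s := fun i s => by
    simp only [a, Finset.mul_sum]
    rw [Finset.sum_comm, hρ, Finset.sum_mul]
    refine Finset.sum_congr rfl fun j _ => ?_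
    have h1 := congrFun (congrFun (Matrix.mul_adjugate (A (e j))) (Fin.castSucc s)) (Fin.castSucc s₀)
    rw [Matrix.mul_apply, Matrix.smul_apply, Matrix.one_apply, smul_eq_mul, mul_ite, mul_one, mul_zero] at h1
    simp only [hAc, Fin.castSucc_inj] at h1
    calc ∑ l, M s l * (ρ i j * (A (e j)).adjugate l (Fin.castSucc s₀))
        = ρ i j * ∑ l, M s l * (A (e j)).adjugate l (Fin.castSucc s₀) := by
          rw [Finset.mul_sum]; exact Finset.sum_congr rfl fun l _ => by ring
      _ = ρ i j * q j * δ s := by rw [h1]; simp only [δ, q]; split_ifs <;> ring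
  have hb : ∀ i i', ∃ c, ∀ l, X i' ^ T * a i l - X i ^ T * a i' l = c * q l := fun i i' => hfree _ fun s => by
    calc ∑ l, M s l * (X i' ^ T * a i l - X i ^ T * a i' l)
        = X i' ^ T * ∑ l, M s l * a i l - X i ^ T * ∑ l, M s l * a i' l := by
          rw [Finset.mul_sum, Finset.mul_sum, ← Finset.sum_sub_distrib]
          exact Finset.sum_congr rfl fun l _ => by ring
      _ = 0 := by rw [ha, ha]; ring
  obtain ⟨c01, h01⟩ := hb 0 1
  obtain ⟨c02, h02⟩ := hb 0 2
  obtain ⟨c12, h12⟩ := hb 1 2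
  obtain ⟨d0, d1, d2, f12, f02, f01⟩ := exists_koszul (N := T) (c01 := c01) (c02 := c02) (c12 := c12) (by
    refine mul_right_cancel₀ hj₀ ?_
    linear_combination -(X 0 ^ T) * h12 j₀ + X 1 ^ T * h02 j₀ - X 2 ^ T * h01 j₀)
  have hdiv : ∀ l, X 0 ^ T ∣ a 0 l - d0 * q l := fun l =>
    (MvPolynomial.X_prime (i := (0 : Fin 3))).pow_dvd_of_dvd_mul_left T (a := X 1 ^ T) (not_dvd_X_pow (by decide) T)
      ⟨a 1 l - d1 * q l, by linear_combination h01 l + q l * f01⟩
  choose b hb' using hdiv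
  have hfin : ∑ l, M s₀ l * b l = 1 := by
    refine mul_left_cancel₀ (pow_ne_zero T (X_ne_zero (0 : Fin 3))) ?_
    rw [Finset.mul_sum, Finset.sum_congr rfl fun l _ => show X 0 ^ T * (M s₀ l * b l) = M s₀ l * a 0 l - d0 * (M s₀ l * q l) by
      linear_combination -(M s₀ l) * hb' l, Finset.sum_sub_distrib, ← Finset.mul_sum, hq, ha]
    simp [δ]
  have := congrArg constantCoeff hfin
  simp [M, map_sum] at this

end Groth.Agent.RankTwo11.Nets
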