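import Groth.Agent.Lib.RankTwo11.SimpleBundle
import Groth.Agent.Lib.Euler2.Pn
import Groth.Agent.Lib.Euler2.Hodge
import Groth.Agent.Lib.Omega12.Universal
import Groth.Agent.Lib.PicPn.Aut
import Mathlib.LinearAlgebra.Matrix.ToLinearEquiv

/-!
# Quotients of `Ω(1)` by a subbundle `O(-1)`
-/

set_option autoImplicit false
set_option linter.style.haveILetI false
set_option linter.unusedSectionVars false
set_option backward.isDefEq.respectTransparency false
set_option backward.isDefEq.respectTransparency.types false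
set_option maxHeartbeats 1000000

universe u

open CategoryTheory CategoryTheory.Limits AlgebraicGeometry TopologicalSpace Opposite

noncomputable section

namespace Groth.Agent.RankTwo11.NullCorr

open Groth.Agent

variable {k : Type u} [Field k] {n : ℕ}

local notation "O" d:max => _root_.Twist.twistProjSpace n k d

/-- The summands. -/
abbrev T1 (_ : Fin (n + 1)) : (CohB1.ProjSpace n k).Modules := _root_.Twist.twistProjSpace n k 1

theorem term_mem (c : Fin (n + 1) → k) :
    (∑ l, MvPolynomial.C (c l) * MvPolynomial.X l) ∈ CohB1.polyGrading n k 1 :=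
  Submodule.sum_mem _ fun l _ => by
    simpa using (MvPolynomial.isHomogeneous_C _ (c l)).mul (MvPolynomial.isHomogeneous_X k l)

theorem sum_gX (c : Fin (n + 1) → k) :
    ∑ l, Simple.sc k n (c l) • Simple.gX k n l =
      Twist.gsec (CohB1.polyGrading n k) (d := 1) ⟨_, term_mem c⟩ := by
  classical
  refine Twist.sec_ext fun x hx => ?_
  let φ : Γ(_root_.Twist.twistProjSpace n k 1, ⊤) →+ _ := AddMonoidHom.mk'
    (fun t => Twist.val (𝒜 := CohB1.polyGrading n k) (n := (1 : ℤ)) (U := ⊤) t x trivial) (fun a b => rfl)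
  let h1 := Twist.one_notMem n k x
  have hterm : ∀ l, φ (Simple.sc k n (c l) • Simple.gX k n l) =
      Localization.mk (MvPolynomial.C (c l) * MvPolynomial.X l) ⟨1, h1⟩ := fun l => by
    refine (Twist.val_smul (U := ⊤) (Simple.sc k n (c l)) (Simple.gX k n l) x trivial).trans ?_
    refine (congrArg₂ (· * ·) (Twist.valO_constFun n k (c l) x)
      (Twist.val_globalOf (𝒜 := CohB1.polyGrading n k) _ x trivial h1)).trans ?_
    rw [Localization.mk_mul]
    exact congrArg _ (Subtype.ext (one_mul 1))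
  show φ _ = _
  rw [map_sum, Finset.sum_congr rfl fun l _ => hterm l]
  exact (map_sum (AddMonoidHom.mk' (fun a => Localization.mk a (⟨1, h1⟩ : x.asHomogeneousIdeal.toIdeal.primeCompl))
    (fun a b => (Localization.add_mk_self a _ b).symm)) _ _).symm

/-- The point with coordinates `z`. -/
theorem exists_point (z : Fin (n + 1) → k) (hz : z ≠ 0) :
    ∃ x : ProjectiveSpectrum (CohB1.polyGrading n k), ∀ c : Fin (n + 1) → k, ∑ l, c l * z l = 0 →
      (∑ l, MvPolynomial.C (c l) * MvPolynomial.X l) ∈ x.asHomogeneousIdeal := by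
  classical
  let φ : MvPolynomial (Fin (n + 1)) k →ₐ[k] Polynomial k :=
    MvPolynomial.aeval fun l => Polynomial.C (z l) * Polynomial.X
  have hφ : ∀ {i : ℕ} {p : MvPolynomial (Fin (n + 1)) k}, p.IsHomogeneous i →
      φ p = Polynomial.C (MvPolynomial.eval z p) * Polynomial.X ^ i := by
    intro i p hp
    conv_lhs => rw [p.as_sum]
    conv_rhs => rw [p.as_sum]
    rw [map_sum, map_sum, map_sum, Finset.sum_mul]
    refine Finset.sum_congr rfl fun d hd => ?_
    simp only [φ, MvPolynomial.aeval_monomial, MvPolynomial.eval_monomial, map_mul, mul_pow, Finsupp.prod,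
      Finset.prod_mul_distrib, map_prod, map_pow, Finset.prod_pow_eq_pow_sum, Polynomial.algebraMap_eq]
    rw [← mul_assoc]
    congr 2
    have := hp (MvPolynomial.mem_support_iff.1 hd)
    rw [← this, Finsupp.weight_apply]
    simp [Finsupp.sum]
  have hhom : Ideal.IsHomogeneous (CohB1.polyGrading n k) (RingHom.ker φ) := by
    intro i p hp
    rw [RingHom.mem_ker] at hp ⊢
    have h1 := congrArg (fun q : Polynomial k => q.coeff i) hp
    rw [show p = ∑ j ∈ Finset.range (p.totalDegree + 1), MvPolynomial.homogeneousComponent j p from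
      (MvPolynomial.sum_homogeneousComponent p).symm, map_sum] at h1
    simp only [Polynomial.finsetSum_coeff, hφ (MvPolynomial.homogeneousComponent_isHomogeneous _ p),
      Polynomial.coeff_C_mul_X_pow, Polynomial.coeff_zero, Finset.sum_ite_eq, Finset.mem_range] at h1
    have hdec : ((DirectSum.decompose (CohB1.polyGrading n k) p i : CohB1.polyGrading n k i) :
        MvPolynomial (Fin (n + 1)) k) = MvPolynomial.homogeneousComponent i p :=
      MvPolynomial.decomposition.decompose'_apply p i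
    rw [hdec, hφ (MvPolynomial.homogeneousComponent_isHomogeneous i p)]
    split_ifs at h1 with hi
    · rw [h1, map_zero, zero_mul]
    · rw [MvPolynomial.homogeneousComponent_eq_zero _ _ (by omega), map_zero, map_zero, zero_mul]
  refine ⟨⟨⟨RingHom.ker φ, hhom⟩, RingHom.ker_isPrime _, fun hle => ?_⟩, fun c hc => ?_⟩
  · obtain ⟨l, hl⟩ := Function.ne_iff.1 hz
    have hX : (MvPolynomial.X l : MvPolynomial (Fin (n + 1)) k) ∈ RingHom.ker φ :=
      hle (HomogeneousIdeal.mem_irrelevant_of_mem (CohB1.polyGrading n k) Nat.one_pos (ProjSpace.X_mem' n k l))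
    rw [RingHom.mem_ker] at hX
    have := congrArg (fun q : Polynomial k => q.coeff 1) hX
    simp [φ] at this
    exact hl this
  · show φ _ = 0
    simp only [φ, map_sum, map_mul, MvPolynomial.aeval_C, MvPolynomial.aeval_X]
    rw [show (∑ l, algebraMap k (Polynomial k) (c l) * (Polynomial.C (z l) * Polynomial.X)) =
      Polynomial.C (∑ l, c l * z l) * Polynomial.X by
        rw [map_sum, Finset.sum_mul]
        exact Finset.sum_congr rfl fun l _ => by rw [Polynomial.algebraMap_eq, map_mul, mul_assoc], hc, map_zero, zero_mul]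

/-- A short exact sequence with locally free quotient splits on stalks. -/
theorem exists_stalk_retraction {X : Scheme.{u}} {S : ShortComplex X.Modules} (hS : S.ShortExact)
    (h₃ : FlatMod.IsFinLocFree S.X₃) (x : X) :
    ∃ r : S.X₂.presheaf.stalk x →ₗ[X.presheaf.stalk x] S.X₁.presheaf.stalk x,
      ∀ a, r (CurveCoh17.stalkLin S.f x a) = a := by
  haveI := hS.mono_f
  haveI := hS.epi_g
  haveI : Module.Free (X.presheaf.stalk x) (S.X₃.presheaf.stalk x) := ((M1.isFinLocFree_iff _).1 h₃).2 x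
  obtain ⟨s, hs⟩ := Module.projective_lifting_property (CurveCoh17.stalkLin S.g x) LinearMap.id
    ((M1.epi_iff_stalk S.g).1 inferInstance x)
  have hinj : Function.Injective (CurveCoh17.stalkLin S.f x) := (M1.mono_iff_stalk S.f).1 inferInstance x
  have hgf : ∀ a, CurveCoh17.stalkLin S.g x (CurveCoh17.stalkLin S.f x a) = 0 := fun a => by
    rw [CurveCoh17.stalkLin_apply, CurveCoh17.stalkLin_apply, ← ConcreteCategory.comp_apply, ← Functor.map_comp,
      S.zero, Functor.map_zero]
    rfl
  let p : S.X₂.presheaf.stalk x →ₗ[X.presheaf.stalk x] S.X₂.presheaf.stalk x :=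
    LinearMap.id - s.comp (CurveCoh17.stalkLin S.g x)
  have hp : ∀ b, p b ∈ LinearMap.range (CurveCoh17.stalkLin S.f x) := fun b => by
    refine (M1.exact_iff_stalk_eq_zero S).1 hS.exact x (p b) ?_
    show CurveCoh17.stalkLin S.g x (b - s (CurveCoh17.stalkLin S.g x b)) = 0
    rw [map_sub, show CurveCoh17.stalkLin S.g x (s _) = _ from LinearMap.congr_fun hs _, LinearMap.id_apply, sub_self]
  refine ⟨(LinearEquiv.ofInjective _ hinj).symm.toLinearMap.comp (p.codRestrict _ hp), fun a => ?_⟩
  refine (LinearEquiv.symm_apply_eq _).2 (Subtype.ext ?_)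
  show _ - s _ = CurveCoh17.stalkLin S.f x a
  rw [hgf, map_zero, sub_zero]
  rfl

/-- A nowhere vanishing map into sums of `O(1)` has no constant relation. -/
theorem eq_zero_of_relation (w : Coh.structureModule (CohB1.ProjSpace n k) ⟶ ∐ T1 (k := k) (n := n))
    (hw : ∀ x : CohB1.ProjSpace n k, ∃ r : (∐ T1 (k := k) (n := n)).presheaf.stalk x →ₗ[(CohB1.ProjSpace n k).presheaf.stalk x]
      (Coh.structureModule (CohB1.ProjSpace n k)).presheaf.stalk x, ∀ a, r (CurveCoh17.stalkLin w x a) = a)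
    (a' : (∐ T1 (k := k) (n := n)) ⟶ O (1 : ℤ)) (ha : w ≫ a' = 0) : a' = 0 := by
  classical
  let σ : Γ(∐ T1 (k := k) (n := n), ⊤) := w.app ⊤ (M1.one ⊤)
  let s : Fin (n + 1) → Γ(O (1 : ℤ), ⊤) := fun m => (P1Split.proj (T1 (k := k) (n := n)) m).app ⊤ σ
  have hf : ∀ m, ∃ f : Fin (n + 1) → k, ∑ l, Simple.sc k n (f l) • Simple.gX k n l = s m := by
    intro m
    obtain ⟨q, hq⟩ := (Twist.globalOf_bijective_polyGrading n k 1).2 (s m)
    refine ⟨fun l => MvPolynomial.coeff (Finsupp.single l 1) (q : MvPolynomial (Fin (n + 1)) k), ?_⟩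
    rw [← hq, sum_gX]
    exact congrArg (Twist.globalOf (CohB1.polyGrading n k)) (Subtype.ext (PicPn.eq_lin_of_mem q.2).symm)
  choose f hf using hf
  obtain ⟨b, hb⟩ : ∃ b : Fin (n + 1) → k, ∀ m, Sigma.ι (T1 (k := k) (n := n)) m ≫ a' =
      ThetaGrp19.smulHom _ (Simple.sc k n (b m)) := by
    refine ⟨fun m => Classical.choose ((bijective_toGlobal k n).2
      (ThetaGrp19.existsUnique_smulHom (isInvertible_O (k := k) (n := n) 1) (Sigma.ι (T1 (k := k) (n := n)) m ≫ a')).choose),
      fun m => ?_⟩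
    rw [show Simple.sc k n (Classical.choose _) = _ from Classical.choose_spec ((bijective_toGlobal k n).2
      (ThetaGrp19.existsUnique_smulHom (isInvertible_O (k := k) (n := n) 1) (Sigma.ι (T1 (k := k) (n := n)) m ≫ a')).choose)]
    exact (ThetaGrp19.existsUnique_smulHom (isInvertible_O (k := k) (n := n) 1) _).choose_spec.1
  have hσ : σ = ∑ m, (Sigma.ι (T1 (k := k) (n := n)) m).app ⊤ (s m) := by
    have := congrArg (fun F : (∐ T1 (k := k) (n := n)) ⟶ _ => F.app ⊤ σ) (P1Split.sum_proj_ι (T1 (k := k) (n := n)))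
    simp only [P1Split.app_sum, Scheme.Modules.Hom.comp_app, CategoryTheory.comp_apply] at this
    exact this.symm
  have hrel : ∑ m, Simple.sc k n (b m) • s m = 0 := by
    have h := congrArg (fun F : _ ⟶ O (1 : ℤ) => F.app ⊤ (M1.one ⊤)) ha
    rw [Scheme.Modules.Hom.comp_app, CategoryTheory.comp_apply, show w.app ⊤ (M1.one ⊤) = σ from rfl, hσ, map_sum] at h
    refine Eq.trans (Finset.sum_congr rfl fun m _ => ?_) h
    rw [← CategoryTheory.comp_apply, ← Scheme.Modules.Hom.comp_app, hb, ThetaGrp19.smulHom_app]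
    simp [M1.ores]
  by_contra ha0
  have hb0 : b ≠ 0 := fun h => ha0 (Sigma.hom_ext _ _ fun m => by
    rw [hb, h, Pi.zero_apply, comp_zero]
    refine Scheme.Modules.hom_ext _ _ fun V => ?_
    ext t
    rw [ThetaGrp19.smulHom_app, show Simple.sc k n (0 : k) = 0 from map_zero _, map_zero, zero_smul]
    rfl)
  have hbf : ∀ l, ∑ m, b m * f m l = 0 := by
    refine fun l => congrFun (Simple.eq_zero_of_sum_gX (fun l => ∑ m, b m * f m l) ?_) l
    refine Eq.trans ?_ hrel
    simp only [← hf, Finset.smul_sum, ← mul_smul]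
    rw [Finset.sum_comm]
    refine Finset.sum_congr rfl fun l _ => ?_
    rw [← Finset.sum_smul]
    refine congrArg (· • Simple.gX k n l) ?_
    exact (map_sum (Coh.toGlobal (CohB1.ProjSpace.toSpec n k)) _ _).trans
      (Finset.sum_congr rfl fun m _ => map_mul (Coh.toGlobal (CohB1.ProjSpace.toSpec n k)) _ _)
  obtain ⟨z, hz, hfz⟩ := Matrix.exists_mulVec_eq_zero_iff.2
    (Matrix.exists_vecMul_eq_zero_iff.1 ⟨b, hb0, funext hbf⟩ : (Matrix.of f).det = 0)
  obtain ⟨x, hx⟩ := exists_point z hz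
  let y : CohB1.ProjSpace n k := x
  obtain ⟨j, hj⟩ := Opens.mem_iSup.1 ((ProjSpace.iSup_basicOpen n k).ge (Set.mem_univ y))
  let D : (CohB1.ProjSpace n k).Opens := Proj.basicOpen (CohB1.polyGrading n k) (MvPolynomial.X j)
  let g := M1.mres (O (1 : ℤ)) (le_top : D ≤ ⊤) (Simple.gX k n j)
  have hg : Twist.IsGen (O (1 : ℤ)) D g := fun V hV => by
    simp only [g, M1.mres_mres]
    exact Twist.bijective_smul_gsec (CohB1.polyGrading n k) ⟨MvPolynomial.X j, ProjSpace.X_mem' n k j⟩ V hV
  have hr : ∀ m, ∃ r : Γ(CohB1.ProjSpace n k, D), r • g = M1.mres _ (le_top : D ≤ ⊤) (s m) := fun m => by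
    obtain ⟨r, hr⟩ := (hg D le_rfl).2 (M1.mres _ (le_top : D ≤ ⊤) (s m))
    exact ⟨r, by simpa [M1.mres_id] using hr⟩
  choose r hr using hr
  obtain ⟨ρ, hρ⟩ := hw y
  let one' := (Coh.structureModule (CohB1.ProjSpace n k)).presheaf.germ ⊤ y trivial (M1.one ⊤)
  have hone : ∀ c : (CohB1.ProjSpace n k).presheaf.stalk y, c • one' = 0 → c = 0 := fun c hc => by
    have := ((P1Split.isBas_of_isGen (P1Split.isGen_one (X := CohB1.ProjSpace n k) ⊤)).stalk (x := y) trivial).1
      (a₁ := fun _ => c) (a₂ := fun _ => 0) (by simpa using hc)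
    exact congrFun this 0
  let τ : Fin (n + 1) → (∐ T1 (k := k) (n := n)).presheaf.stalk y := fun m =>
    (∐ T1 (k := k) (n := n)).presheaf.germ D y hj ((Sigma.ι (T1 (k := k) (n := n)) m).app D g)
  have hwy : CurveCoh17.stalkLin w y one' =
      ∑ m, (CohB1.ProjSpace n k).presheaf.germ D y hj (r m) • τ m := by
    rw [Simple.stalk_map_germ, show w.app ⊤ (M1.one ⊤) = σ from rfl, hσ, map_sum]
    refine Finset.sum_congr rfl fun m _ => ?_
    rw [← M1.germ_mres _ (le_top : D ≤ ⊤) hj, ← M1.app_mres, ← hr, Scheme.Modules.Hom.app_smul, M1.germ_smul]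
  by_cases hu : ∃ m, IsUnit ((CohB1.ProjSpace n k).presheaf.germ D y hj (r m))
  · obtain ⟨m, hm⟩ := hu
    let U : (CohB1.ProjSpace n k).Opens := (CohB1.ProjSpace n k).basicOpen (r m)
    have hyU : y ∈ U := ((CohB1.ProjSpace n k).mem_basicOpen (r m) y hj).2 hm
    have hs : Twist.gsec (CohB1.polyGrading n k) (d := 1) ⟨_, term_mem (f m)⟩ = s m :=
      (sum_gX (f m)).symm.trans (hf m)
    have hle := Twist.le_basicOpen_of_bijective (CohB1.polyGrading n k) (Twist.iSup_basicOpen_one n k)
      (d := 1) ⟨_, term_mem (f m)⟩ U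
      fun V hV => by
        have hVD : V ≤ D := hV.trans ((CohB1.ProjSpace n k).basicOpen_le (r m))
        rw [hs]
        have hu' : IsUnit (M1.ores (X := CohB1.ProjSpace n k) hV
            (M1.ores ((CohB1.ProjSpace n k).basicOpen_le (r m)) (r m)) : Γ(CohB1.ProjSpace n k, V)) :=
          ((CohB1.ProjSpace n k).toLocallyRingedSpace.toRingedSpace.isUnit_res_basicOpen (r m)).map
            (M1.ores (X := CohB1.ProjSpace n k) hV).hom
        obtain ⟨v, hv⟩ : ∃ v : Γ(CohB1.ProjSpace n k, V)ˣ,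
            (v : Γ(CohB1.ProjSpace n k, V)) = M1.ores (X := CohB1.ProjSpace n k) hVD (r m) :=
          ⟨hu'.unit, (M1.ores_ores (X := CohB1.ProjSpace n k) _ _ _)⟩
        have hres : M1.mres (O (1 : ℤ)) (le_top : V ≤ ⊤) (s m) = (v : Γ(CohB1.ProjSpace n k, V)) • M1.mres _ hVD g := by
          rw [hv, ← M1.mres_mres _ (le_top : D ≤ ⊤) hVD, ← hr, M1.mres_smul]
        have hmul : Function.Bijective fun c : Γ(CohB1.ProjSpace n k, V) => c * (v : Γ(CohB1.ProjSpace n k, V)) :=
          ⟨fun a b h => (Units.mul_left_inj v).1 h, fun c => ⟨c * ((v⁻¹ : Γ(CohB1.ProjSpace n k, V)ˣ) : Γ(CohB1.ProjSpace n k, V)),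
            Units.inv_mul_cancel_right c v⟩⟩
        have e : (fun c : Γ(CohB1.ProjSpace n k, V) => c • M1.mres (O (1 : ℤ)) (le_top : V ≤ ⊤) (s m)) =
            (fun c => c • M1.mres (O (1 : ℤ)) hVD g) ∘ fun c => c * (v : Γ(CohB1.ProjSpace n k, V)) := funext fun c => by
          show _ = (c * (v : Γ(CohB1.ProjSpace n k, V))) • M1.mres (O (1 : ℤ)) hVD g
          rw [hres, mul_smul]
        exact (congrArg Function.Bijective e).mpr ((hg V hVD).comp hmul)
    exact hle hyU (hx (f m) (congrFun hfz m))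
  · push_neg at hu
    have hmax : ∀ m, (CohB1.ProjSpace n k).presheaf.germ D y hj (r m) ∈
        IsLocalRing.maximalIdeal ((CohB1.ProjSpace n k).presheaf.stalk y) := fun m => (IsLocalRing.mem_maximalIdeal _).2 (hu m)
    have h1 := hρ one'
    rw [hwy, map_sum] at h1
    obtain ⟨e, he⟩ := ((P1Split.isBas_of_isGen (P1Split.isGen_one (X := CohB1.ProjSpace n k) ⊤)).stalk (x := y) trivial).2
      one'
    choose cm hcm using fun m => ((P1Split.isBas_of_isGen (P1Split.isGen_one (X := CohB1.ProjSpace n k) ⊤)).stalk (x := y)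
      trivial).2 (ρ (τ m))
    have h2 : (∑ m, (CohB1.ProjSpace n k).presheaf.germ D y hj (r m) * cm m 0 - 1) • one' = 0 := by
      rw [sub_smul, one_smul, Finset.sum_smul, sub_eq_zero]
      refine Eq.trans (Finset.sum_congr rfl fun m _ => ?_) h1
      rw [map_smul, ← hcm m, mul_smul]
      simp [one']
    have h3 := hone _ h2
    have : (1 : (CohB1.ProjSpace n k).presheaf.stalk y) ∈ IsLocalRing.maximalIdeal _ := by
      rw [← sub_eq_zero.1 h3]
      exact Ideal.sum_mem _ fun m _ => Ideal.mul_mem_right _ _ (hmax m)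
    exact (IsLocalRing.maximalIdeal.isMaximal _).ne_top ((Ideal.eq_top_iff_one _).2 this)

end Groth.Agent.RankTwo11.NullCorr
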