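import Groth.Agent.Lib.RankTwo11.NullCorr
import Groth.Agent.Lib.Euler2.BottDim

/-!
# Maps between quotients of `Ω(1)` by subbundles `O(-1)`
-/

set_option autoImplicit false
set_option linter.style.haveILetI false
set_option linter.unusedSectionVars false
set_option backward.isDefEq.respectTransparency false
set_option backward.isDefEq.respectTransparency.types false
set_option maxHeartbeats 1000000

universe u

open CategoryTheory CategoryTheory.Limits AlgebraicGeometry TopologicalSpace Opposite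

noncomputable section

namespace Groth.Agent.RankTwo11.NullCorr

open Groth.Agent

variable {k : Type u} [Field k] {n : ℕ}

local notation "O" d:max => _root_.Twist.twistProjSpace n k d

variable (k n) in
/-- `Ω(1)`. -/
abbrev Om1 : (CohB1.ProjSpace n k).Modules :=
  CohB1.tensorMod (Omega.sheaf (CohB1.ProjSpace.toSpec n k)) (O (1 : ℤ))

variable (k n) in
/-- The free module of rank `n + 1`. -/
abbrev Fr : (CohB1.ProjSpace n k).Modules := FlatMod.freeMod (CohB1.ProjSpace n k) (n + 1)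

/-- A stalkwise retraction. -/
def HasRetr {X : Scheme.{u}} {M N : X.Modules} (f : M ⟶ N) : Prop :=
  ∀ x : X, ∃ r : N.presheaf.stalk x →ₗ[X.presheaf.stalk x] M.presheaf.stalk x,
    ∀ a, r (CurveCoh17.stalkLin f x a) = a

theorem HasRetr.comp {X : Scheme.{u}} {M N P : X.Modules} {f : M ⟶ N} {g : N ⟶ P}
    (hf : HasRetr f) (hg : HasRetr g) : HasRetr (f ≫ g) := fun x => by
  obtain ⟨r, hr⟩ := hf x
  obtain ⟨r', hr'⟩ := hg x
  exact ⟨r.comp r', fun a => by rw [CurveCoh17.stalkLin_comp, LinearMap.comp_apply, hr', hr]⟩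

theorem hasRetr_iso {X : Scheme.{u}} {M N : X.Modules} (e : M ≅ N) : HasRetr e.hom := fun x =>
  ⟨CurveCoh17.stalkLin e.inv x, CurveCoh17.stalkLin_inv_hom e x⟩

theorem hasRetr_shortExact {X : Scheme.{u}} {S : ShortComplex X.Modules} (hS : S.ShortExact)
    (h₃ : FlatMod.IsFinLocFree S.X₃) : HasRetr S.f := exists_stalk_retraction hS h₃

variable (k n) in
/-- The Euler sequence. -/
theorem exists_euler : ∃ (ι : Om1 k n ⟶ Fr k n) (e : Fr k n ⟶ O (1 : ℤ)) (w : ι ≫ e = 0),
    (ShortComplex.mk ι e w).ShortExact := by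
  obtain ⟨u, hu, ⟨i⟩⟩ := Euler2.exists_euler_projSpace n k
    (Omega12.isUniversal_dOmega (f := CohB1.ProjSpace.toSpec n k))
  let F := M2.freeModPullbackIso (CohB1.ProjSpace.toSpec n k) (n + 1)
  let e : Fr k n ⟶ O (1 : ℤ) := F.inv ≫ u
  haveI : Epi e := epi_comp _ _
  let ι : Om1 k n ⟶ Fr k n := i.hom ≫ kernel.ι u ≫ F.hom
  have w : ι ≫ e = 0 := by simp [ι, e]
  refine ⟨ι, e, w, ShortComplex.shortExact_of_iso (ShortComplex.isoMk i.symm F (Iso.refl _) ?_ ?_ :
    ShortComplex.mk (kernel.ι u) u (kernel.condition u) ≅ ShortComplex.mk ι e w) ?_⟩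
  · simp [ι]
  · simp [e]
  · exact ShortComplex.ShortExact.mk' (ShortComplex.exact_kernel u) inferInstance hu

/-- The map between quotients is a monomorphism. -/
theorem mono_cokernel_map {C : Type*} [Category C] [Abelian C] {A B B' : C} (f : A ⟶ B) (g : B ⟶ B') [Mono g]
    [Mono f] : Mono (cokernel.map f (f ≫ g) (𝟙 A) g (by simp)) := by
  refine Preadditive.mono_of_cancel_zero _ fun {T} x hx => ?_
  obtain ⟨T', p, _, y, hy⟩ := surjective_up_to_refinements_of_epi (cokernel.π f) x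
  have h0 : (y ≫ g) ≫ cokernel.π (f ≫ g) = 0 := by
    have := congrArg (p ≫ ·) hx
    simp only [comp_zero] at this
    rw [← this, reassoc_of% hy]
    simp [cokernel.π_desc]
  let l := Abelian.monoLift (f ≫ g) (y ≫ g) h0
  have hl : y = l ≫ f := by
    rw [← cancel_mono g, Category.assoc, Abelian.monoLift_comp]
  rw [← cancel_epi p, hy, hl, Category.assoc, cokernel.condition, comp_zero, comp_zero]

/-- Maps extend along an inclusion with quotient `O(b)` if the obstruction group vanishes. -/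
theorem exists_extension {b : ℤ} {S : ShortComplex (CohB1.ProjSpace n k).Modules} (hS : S.ShortExact)
    (eb : S.X₃ ≅ O b) {Q : (CohB1.ProjSpace n k).Modules} (g : S.X₁ ⟶ Q)
    (hQ : Subsingleton (Coh.HH (CohB1.ProjSpace n k) (CohB1.tensorMod Q (O (-b))) 1)) :
    ∃ G : S.X₂ ⟶ Q, S.f ≫ G = g := by
  haveI := hS.mono_f
  haveI := hS.epi_g
  let e' : pushout g S.f ⟶ S.X₃ := pushout.desc 0 S.g (by rw [comp_zero, S.zero])
  have hinr : pushout.inr g S.f ≫ e' = S.g := pushout.inr_desc _ _ _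
  have hinl : pushout.inl g S.f ≫ e' = 0 := pushout.inl_desc _ _ _
  haveI : Epi e' := by
    haveI : Epi (pushout.inr g S.f ≫ e') := by rw [hinr]; infer_instance
    exact epi_of_epi (pushout.inr g S.f) e'
  have hc : IsColimit (CokernelCofork.ofπ e' hinl) :=
    CokernelCofork.IsColimit.ofπ' e' hinl fun {T} h hh => ⟨hS.exact.desc (pushout.inr g S.f ≫ h) (by
      rw [← Category.assoc, ← pushout.condition, Category.assoc, hh, comp_zero]), by
      refine pushout.hom_ext ?_ ?_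
      · rw [← Category.assoc, hinl, zero_comp, hh]
      · rw [← Category.assoc, hinr, ShortComplex.Exact.g_desc]⟩
  haveI : Mono (pushout.inl g S.f) := inferInstance
  let P := ShortComplex.mk (pushout.inl g S.f) e' hinl
  have hP : P.ShortExact := ShortComplex.ShortExact.mk' (ShortComplex.exact_of_g_is_cokernel P hc) inferInstance inferInstance
  have hP' : (P.map (M2.tensorR (O (-b)))).ShortExact := (CMReg18.projData k n).shortExact_tw hP (-b)
  let s : Coh.structureModule (CohB1.ProjSpace n k) ⟶ CohB1.tensorMod S.X₃ (O (-b)) :=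
    (M2.tensorIso eb (Iso.refl (O (-b))) ≪≫ negIso b).inv
  obtain ⟨t, ht⟩ := exists_lift k hP' hQ s
  obtain ⟨σ, hσ⟩ := ES11.tensorR_map_surjective (negIso' b)
    ((M2.tensorIso eb (Iso.refl (O (-b))) ≪≫ negIso b).hom ≫ t)
  have hσg : σ ≫ e' = 𝟙 S.X₃ := ES11.tensorR_map_injective (negIso' b) (by
    refine ((M2.tensorR (O (-b))).map_comp σ e').trans ?_
    show M2.tensorMap σ (𝟙 _) ≫ M2.tensorMap e' (𝟙 _) = _
    rw [hσ, Category.assoc]
    refine (congrArg (_ ≫ ·) ht).trans ?_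
    show (M2.tensorIso eb (Iso.refl (O (-b))) ≪≫ negIso b).hom ≫ (M2.tensorIso eb (Iso.refl (O (-b))) ≪≫ negIso b).inv = _
    rw [Iso.hom_inv_id]
    exact (M2.tensorMap_id _ _).symm)
  let spl := ShortComplex.Splitting.ofExactOfSection P hP.exact σ hσg inferInstance
  refine ⟨pushout.inr g S.f ≫ spl.r, ?_⟩
  rw [← Category.assoc, ← pushout.condition, Category.assoc]
  exact (congrArg (g ≫ ·) spl.f_r).trans (Category.comp_id g)

theorem subsingleton_neg_one : Subsingleton (Coh.HH (CohB1.ProjSpace (n + 1) k)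
    (_root_.Twist.twistProjSpace (n + 1) k (-1)) 1) :=
  Simple.subsingleton_twist (fun h => absurd h one_ne_zero) (Or.inr (by omega))

theorem subsingleton_freeMod_twist {d : ℤ} (N : ℕ) {q : ℕ}
    (h : Subsingleton (Coh.HH (CohB1.ProjSpace n k) (O d) q)) :
    Subsingleton (Coh.HH (CohB1.ProjSpace n k) (CohB1.tensorMod (FlatMod.freeMod (CohB1.ProjSpace n k) N) (O d)) q) :=
  Euler2.subsingleton_HH_freeMod_tensor N _ h

theorem subsingleton_coker {v : (O (-1 : ℤ)) ⟶ Fr k n} [Mono v] (hn : 1 ≤ n) :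
    Subsingleton (Coh.HH (CohB1.ProjSpace n k) (CohB1.tensorMod (cokernel v) (O (-1 : ℤ))) 1) := by
  have hS : (ShortComplex.mk v (cokernel.π v) (cokernel.condition v)).ShortExact :=
    ShortComplex.ShortExact.mk' (ShortComplex.exact_cokernel v) inferInstance inferInstance
  refine Simple.van_right k ((CMReg18.projData k n).shortExact_tw hS (-1)) 1
    (subsingleton_freeMod_twist (n + 1) (Simple.subsingleton_twist (fun h => absurd h one_ne_zero) (Or.inr (by omega))))
    (CMReg18.van_iso k (addIso (-1) (-1)).symm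
      (Simple.subsingleton_twist (fun h => absurd h (by omega)) ?_))
  rcases eq_or_ne n 1 with rfl | h
  · exact Or.inl (by omega)
  · exact Or.inr (by omega)

/-- Endomorphisms of `O(a)` are constants. -/
theorem exists_const {a : ℤ} (φ : (O a) ⟶ O a) :
    ∃ c : k, φ = ThetaGrp19.smulHom (O a) (Simple.sc k n c) := by
  obtain ⟨r, hr, -⟩ := ThetaGrp19.existsUnique_smulHom (isInvertible_O (k := k) (n := n) a) φ
  obtain ⟨c, hc⟩ := (bijective_toGlobal k n).2 r
  exact ⟨c, by rw [show Simple.sc k n c = r from hc]; exact hr⟩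

/-- A matrix killing a nowhere degenerate vector of linear forms vanishes. -/
theorem eq_zero_of_comp (v : (O (-1 : ℤ)) ⟶ Fr k n)
    (hv : HasRetr ((M2.tensorR (O (1 : ℤ))).map v)) (a : Fr k n ⟶ Fr k n) (h : v ≫ a = 0) : a = 0 := by
  let θ := M2.freeModTensorIso (CohB1.ProjSpace n k) (n + 1) (O (1 : ℤ))
  let w : Coh.structureModule (CohB1.ProjSpace n k) ⟶ ∐ T1 (k := k) (n := n) :=
    (negIso' (k := k) (n := n) 1).inv ≫ (M2.tensorR (O (1 : ℤ))).map v ≫ θ.hom
  have hw : HasRetr w := (hasRetr_iso (negIso' (k := k) (n := n) 1).symm).comp (hv.comp (hasRetr_iso θ))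
  have hm : ∀ m, a ≫ P1Split.proj _ m = 0 := fun m => by
    let p := a ≫ P1Split.proj (fun _ : Fin (n + 1) => Coh.structureModule (CohB1.ProjSpace n k)) m
    have hp : v ≫ p = 0 := by simp only [p, reassoc_of% h, zero_comp]
    have h' := eq_zero_of_relation w hw
      (θ.inv ≫ (M2.tensorR (O (1 : ℤ))).map p ≫
        ((M2.tensorComm _ _ ≪≫ M2.tensorRUnit (O (1 : ℤ))).hom)) (by
        simp only [w, Category.assoc, Iso.hom_inv_id_assoc]
        rw [← Functor.map_comp_assoc, hp, Functor.map_zero, zero_comp, comp_zero])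
    rw [← cancel_epi θ.hom, Iso.hom_inv_id_assoc, comp_zero, ← cancel_mono
      ((M2.tensorComm _ _ ≪≫ M2.tensorRUnit (O (1 : ℤ))).inv), Category.assoc, Iso.hom_inv_id, Category.comp_id,
      zero_comp] at h'
    exact ES11.tensorR_map_injective (negIso 1) (h'.trans (Functor.map_zero (M2.tensorR _) _ _).symm)
  calc a = a ≫ ∑ m, P1Split.proj _ m ≫ Sigma.ι (fun _ : Fin (n + 1) => Coh.structureModule (CohB1.ProjSpace n k)) m := by
        rw [P1Split.sum_proj_ι, Category.comp_id]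
    _ = 0 := by
        rw [Preadditive.comp_sum]
        exact Finset.sum_eq_zero fun m _ => by rw [← Category.assoc, hm, zero_comp]

theorem hasRetr_twist {ι : Om1 k n ⟶ Fr k n} {e : Fr k n ⟶ _root_.Twist.twistProjSpace n k 1} {w : ι ≫ e = 0}
    {u : (O (-1 : ℤ)) ⟶ Om1 k n} [Mono u] (hM : FlatMod.IsFinLocFree (cokernel u)) (hE : (ShortComplex.mk ι e w).ShortExact) :
    HasRetr ((M2.tensorR (O (1 : ℤ))).map (u ≫ ι)) := by
  have hS : (ShortComplex.mk u (cokernel.π u) (cokernel.condition u)).ShortExact :=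
    ShortComplex.ShortExact.mk' (ShortComplex.exact_cokernel u) inferInstance inferInstance
  have h1 : HasRetr ((M2.tensorR (O (1 : ℤ))).map u) :=
    hasRetr_shortExact ((CMReg18.projData k n).shortExact_tw hS 1)
      (M2.isFinLocFree_tensor hM (M2.isFinLocFree_of_ofRank (rank_O (k := k) (n := n) 1)))
  have h2 : HasRetr ((M2.tensorR (O (1 : ℤ))).map ι) :=
    hasRetr_shortExact ((CMReg18.projData k n).shortExact_tw hE 1)
      (M2.isFinLocFree_tensor (M2.isFinLocFree_of_ofRank (rank_O (k := k) (n := n) 1))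
        (M2.isFinLocFree_of_ofRank (rank_O (k := k) (n := n) 1)))
  rw [Functor.map_comp]
  exact h1.comp h2

/-- A map between the quotients comes from a matrix. -/
theorem exists_matrix {ι : Om1 k n ⟶ Fr k n} {e : Fr k n ⟶ _root_.Twist.twistProjSpace n k 1} {w : ι ≫ e = 0}
    (hn : 1 ≤ n) (u u' : (O (-1 : ℤ)) ⟶ Om1 k n) [Mono u] [Mono u']
    (hE : (ShortComplex.mk ι e w).ShortExact) (φ : cokernel u ⟶ cokernel u') :
    haveI := hE.mono_f
    ∃ (A : Fr k n ⟶ Fr k n) (c : k),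
      ι ≫ A ≫ cokernel.π (u' ≫ ι) = cokernel.π u ≫ φ ≫ cokernel.map u' (u' ≫ ι) (𝟙 _) ι (by simp) ∧
      (u ≫ ι) ≫ A = ThetaGrp19.smulHom _ (Simple.sc k n c) ≫ u' ≫ ι := by
  haveI : Mono ι := hE.mono_f
  haveI : Mono (u' ≫ ι) := mono_comp _ _
  let j := cokernel.map u' (u' ≫ ι) (𝟙 _) ι (by simp)
  obtain ⟨G, hG⟩ := exists_extension hE (Iso.refl _) (cokernel.π u ≫ φ ≫ j) (subsingleton_coker hn)
  have hS : (ShortComplex.mk (u' ≫ ι) (cokernel.π _) (cokernel.condition _)).ShortExact :=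
    ShortComplex.ShortExact.mk' (ShortComplex.exact_cokernel (u' ≫ ι)) inferInstance inferInstance
  have hl : ∀ m : Fin (n + 1), ∃ t, t ≫ cokernel.π (u' ≫ ι) = Sigma.ι _ m ≫ G := fun m =>
    exists_lift k hS (Simple.subsingleton_twist (fun h => absurd h one_ne_zero) (Or.inr (by omega))) _
  choose t ht using hl
  let A : Fr k n ⟶ Fr k n := Sigma.desc t
  have hA : A ≫ cokernel.π (u' ≫ ι) = G := Sigma.hom_ext _ _ fun m => by
    rw [Sigma.ι_desc_assoc]; exact ht m
  have h1 : ι ≫ A ≫ cokernel.π (u' ≫ ι) = cokernel.π u ≫ φ ≫ j := by rw [hA]; exact hG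
  have h2 : ((u ≫ ι) ≫ A) ≫ cokernel.π (u' ≫ ι) = 0 := by
    rw [Category.assoc, Category.assoc, h1, cokernel.condition_assoc, zero_comp]
  obtain ⟨c, hc⟩ := exists_const (Abelian.monoLift _ _ h2)
  exact ⟨A, c, h1, by rw [← hc, Abelian.monoLift_comp]⟩

theorem exists_scalar_endo (hn : 1 ≤ n) (u : (O (-1 : ℤ)) ⟶ Om1 k n) [Mono u]
    (hM : FlatMod.IsFinLocFree (cokernel u)) (φ : cokernel u ⟶ cokernel u) :
    ∃ c : k, φ = ThetaGrp19.smulHom (cokernel u) (Simple.sc k n c) := by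
  obtain ⟨ι, e, w, hE⟩ := exists_euler k n
  haveI : Mono ι := hE.mono_f
  obtain ⟨A, c, h1, h2⟩ := exists_matrix hn u u hE φ
  have hA : A = ThetaGrp19.smulHom (Fr k n) (Simple.sc k n c) :=
    sub_eq_zero.1 (eq_zero_of_comp (u ≫ ι) (hasRetr_twist hM hE) _ (by
      rw [Preadditive.comp_sub, h2, ← ThetaGrp19.smulHom_naturality (u ≫ ι), sub_self]))
  haveI := mono_cokernel_map u ι
  refine ⟨c, ?_⟩
  rw [← cancel_mono (cokernel.map u (u ≫ ι) (𝟙 _) ι (Category.id_comp _).symm), ← cancel_epi (cokernel.π u), ← h1, hA,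
    ThetaGrp19.smulHom_naturality, ThetaGrp19.smulHom_naturality, cokernel.π_desc_assoc, Category.assoc]

theorem subsingleton_hh0_Om1 : Subsingleton (Coh.HH (CohB1.ProjSpace n k) (Om1 k n) 0) :=
  Euler2.subsingleton_HH_iso
    (M2.tensorIso (ExtFil4.isoExtPow (Euler2.isExtPow_Om n k 1) (ExtFil4.isExtPow_one _)).some (Iso.refl _))
    (Euler2.van_pos_zero n k (d := 1) one_pos 1 le_rfl)

theorem exists_smul_of_iso (hn : 1 ≤ n) (u u' : (O (-1 : ℤ)) ⟶ Om1 k n) [Mono u] [Mono u']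
    (hM : ¬ IsZero (cokernel u)) (φ : cokernel u ≅ cokernel u') :
    ∃ c : k, c ≠ 0 ∧ u' = u ≫ ThetaGrp19.smulHom (Om1 k n) (Simple.sc k n c) := by
  obtain ⟨ι, e, w, hE⟩ := exists_euler k n
  haveI : Mono ι := hE.mono_f
  haveI := mono_cokernel_map u' ι
  obtain ⟨A, c, h1, h2⟩ := exists_matrix hn u u' hE φ.hom
  haveI : Epi e := hE.epi_g
  have hw : (u' ≫ ι) ≫ e = 0 := by rw [Category.assoc, w, comp_zero]
  have hj : cokernel.map u' (u' ≫ ι) (𝟙 _) ι (by simp) ≫ cokernel.desc (u' ≫ ι) e hw = 0 := by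
    refine coequalizer.hom_ext ?_
    rw [cokernel.π_desc_assoc, Category.assoc, cokernel.π_desc, comp_zero, w]
  have h3 : ι ≫ A ≫ e = 0 := by
    rw [← cokernel.π_desc (u' ≫ ι) e hw, reassoc_of% h1, hj, comp_zero, comp_zero]
  obtain ⟨d, hd⟩ := exists_const (hE.exact.desc (A ≫ e) h3)
  have he : A ≫ e = e ≫ ThetaGrp19.smulHom _ (Simple.sc k n d) := by
    rw [← hd]; exact (hE.exact.g_desc _ _).symm
  let B := A - ThetaGrp19.smulHom (Fr k n) (Simple.sc k n d)
  have hB : B ≫ e = 0 := by rw [Preadditive.sub_comp, he, ThetaGrp19.smulHom_naturality, sub_self]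
  have hA : A = ThetaGrp19.smulHom (Fr k n) (Simple.sc k n d) := by
    refine sub_eq_zero.1 (?_ : B = 0)
    rw [← hE.exact.lift_f B hB]
    have : hE.exact.lift B hB = 0 := Sigma.hom_ext _ _ fun m => by
      rw [comp_zero]; exact eq_zero_of_subsingleton subsingleton_hh0_Om1 _
    rw [this, zero_comp]
  subst hA
  have hz : Simple.sc k n (0 : k) = 0 := map_zero _
  have hsm : ∀ (M : (CohB1.ProjSpace n k).Modules), ThetaGrp19.smulHom M (Simple.sc k n (0 : k)) = 0 := fun M =>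
    Scheme.Modules.hom_ext _ _ fun V => by
      ext t
      rw [ThetaGrp19.smulHom_app, hz, map_zero, zero_smul]
      rfl
  have hd0 : d ≠ 0 := fun h => hM (by
    have h0 : cokernel.π u ≫ φ.hom ≫ cokernel.map u' (u' ≫ ι) (𝟙 _) ι (by simp) = 0 := by
      rw [← h1, h, hsm, zero_comp, comp_zero]
    exact (IsZero.iff_id_eq_zero _).2 (by
      rw [← φ.hom_inv_id, zero_of_comp_mono _ (zero_of_epi_comp _ h0), zero_comp]))
  have h4 : u ≫ ThetaGrp19.smulHom (Om1 k n) (Simple.sc k n d) =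
      u' ≫ ThetaGrp19.smulHom (Om1 k n) (Simple.sc k n c) := by
    rw [← cancel_mono ι, Category.assoc, Category.assoc, ThetaGrp19.smulHom_naturality,
      ThetaGrp19.smulHom_naturality, ← Category.assoc, h2, ThetaGrp19.smulHom_naturality, Category.assoc]
  have hinv : ∀ a : k, a ≠ 0 → ∀ M : (CohB1.ProjSpace n k).Modules,
      ThetaGrp19.smulHom M (Simple.sc k n a) ≫ ThetaGrp19.smulHom M (Simple.sc k n a⁻¹) = 𝟙 M := fun a ha M => by
    rw [ThetaGrp19.smulHom_comp, show Simple.sc k n a * Simple.sc k n a⁻¹ = Simple.sc k n (a * a⁻¹) from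
      (map_mul _ _ _).symm, mul_inv_cancel₀ ha, show Simple.sc k n (1 : k) = 1 from map_one _, ThetaGrp19.smulHom_one]
  have hc0 : c ≠ 0 := fun h => by
    rw [h, hsm, comp_zero] at h4
    have h5 := congrArg (· ≫ ThetaGrp19.smulHom (Om1 k n) (Simple.sc k n d⁻¹)) h4
    simp only [Category.assoc, hinv d hd0, Category.comp_id, zero_comp] at h5
    obtain ⟨m, hm⟩ := exists_ne_zero_twist (k := k) (n := n) (a := -1) (b := -1) le_rfl
    exact hm (by rw [← cancel_mono u, h5, comp_zero, comp_zero])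
  refine ⟨d * c⁻¹, mul_ne_zero hd0 (inv_ne_zero hc0), ?_⟩
  have h5 := congrArg (· ≫ ThetaGrp19.smulHom (Om1 k n) (Simple.sc k n c⁻¹)) h4
  simp only [Category.assoc, hinv c hc0, Category.comp_id] at h5
  rw [← h5, ThetaGrp19.smulHom_comp]
  exact congrArg (fun r => u ≫ ThetaGrp19.smulHom _ r) (map_mul _ _ _).symm

theorem nonempty_iso_of_smul (u u' : (O (-1 : ℤ)) ⟶ Om1 k n) {c : k} (hc : c ≠ 0)
    (h : u' = u ≫ ThetaGrp19.smulHom (Om1 k n) (Simple.sc k n c)) :
    Nonempty (cokernel u ≅ cokernel u') := by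
  have hu : IsUnit (Simple.sc k n c) := (isUnit_iff_ne_zero.2 hc).map _
  obtain ⟨r, hr⟩ := hu
  let i : Om1 k n ≅ Om1 k n :=
    { hom := ThetaGrp19.smulHom _ (Simple.sc k n c)
      inv := ThetaGrp19.smulHom _ ((r⁻¹ : _ˣ) : Γ(CohB1.ProjSpace n k, ⊤))
      hom_inv_id := by rw [ThetaGrp19.smulHom_comp, ← hr, Units.mul_inv, ThetaGrp19.smulHom_one]
      inv_hom_id := by rw [ThetaGrp19.smulHom_comp, ← hr, Units.inv_mul, ThetaGrp19.smulHom_one] }
  exact ⟨cokernel.mapIso u u' (Iso.refl _) i (by simp [h, i])⟩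

end Groth.Agent.RankTwo11.NullCorr
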