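import Mathlib.LinearAlgebra.Matrix.NonsingularInverse
import Mathlib.LinearAlgebra.Matrix.ToLin
import Mathlib.LinearAlgebra.FiniteDimensional.Lemmas
import Mathlib.LinearAlgebra.Dimension.Finite
import Mathlib.LinearAlgebra.Dimension.Localization
import Mathlib.RingTheory.LocalRing.Module
import Mathlib.RingTheory.LocalRing.ResidueField.Basic
import Mathlib.Tactic.LinearCombination

/-!
# A linear space of skew forms without common decomposable zero

The forms `ω_m = ∑_{i < l, i + l = m + 1} x_i ∧ x_l`, `m < 2n - 1`, on `R^{n+1}`.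
-/

set_option autoImplicit false
set_option linter.style.haveILetI false
set_option linter.unusedSectionVars false

universe u

noncomputable section

namespace Groth.Agent.RankTwo11.Skew

variable {n : ℕ} {R : Type u} [CommRing R]

/-- The coefficients. -/
def W (m : Fin (2 * n - 1)) (i l : Fin (n + 1)) : ℤ :=
  if (i : ℕ) + l = m + 1 then (if i < l then 1 else if l < i then -1 else 0) else 0

theorem W_swap (m : Fin (2 * n - 1)) (i l : Fin (n + 1)) : W m l i = -W m i l := by
  simp only [W, add_comm (l : ℕ) i]
  split_ifs <;> omega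

theorem W_pair {m : Fin (2 * n - 1)} {i l : Fin (n + 1)} (h : (i : ℕ) + l = m + 1) (hil : i < l) : W m i l = 1 := by
  simp [W, h, hil]

theorem W_ne {m : Fin (2 * n - 1)} {i l : Fin (n + 1)} (h : (i : ℕ) + l ≠ m + 1) : W m i l = 0 := by simp [W, h]

/-- The `i`-th column of the matrix `z ↦ ω(-, z)`. -/
def col (z : Fin (n + 1) → R) (i : Fin (n + 1)) (m : Fin (2 * n - 1)) : R := ∑ l, (W m i l : R) * z l

/-- `c ↦ ω(c, z)`. -/
def L (z : Fin (n + 1) → R) : (Fin (n + 1) → R) →ₗ[R] (Fin (2 * n - 1) → R) :=
  Fintype.linearCombination R (col z)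

theorem L_apply (z c : Fin (n + 1) → R) (m : Fin (2 * n - 1)) : L z c m = ∑ i, ∑ l, (W m i l : R) * (c i * z l) := by
  simp only [L, Fintype.linearCombination_apply, Finset.sum_apply, Pi.smul_apply, smul_eq_mul, col, Finset.mul_sum]
  exact Finset.sum_congr rfl fun i _ => Finset.sum_congr rfl fun l _ => by ring

theorem L_pairs (z c : Fin (n + 1) → R) (m : Fin (2 * n - 1)) :
    L z c m = ∑ i, ∑ l, if i < l then (W m i l : R) * (c i * z l - c l * z i) else 0 := by
  have key : ∀ i l : Fin (n + 1), (W m i l : R) * (c i * z l) =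
      (if i < l then (W m i l : R) * (c i * z l) else 0) + (if l < i then (W m i l : R) * (c i * z l) else 0) :=
    fun i l => by
      rcases lt_trichotomy i l with h | h | h
      · simp [h, h.not_gt]
      · subst h; simp [W]
      · simp [h, h.not_gt]
  rw [L_apply]
  conv_lhs => enter [2, i, 2, l]; rw [key]
  simp only [Finset.sum_add_distrib]
  conv_lhs => enter [2]; rw [Finset.sum_comm]
  rw [← Finset.sum_add_distrib]
  refine Finset.sum_congr rfl fun i _ => ?_
  rw [← Finset.sum_add_distrib]
  refine Finset.sum_congr rfl fun l _ => ?_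
  split_ifs with h
  · rw [W_swap m i l]; push_cast; ring
  · simp

/-- No nonzero decomposable bivector is annihilated by all the forms. -/
theorem cross_eq_zero [IsDomain R] (z c : Fin (n + 1) → R) (h : L z c = 0) (i l : Fin (n + 1)) :
    c i * z l - c l * z i = 0 := by
  classical
  let p : Fin (n + 1) → Fin (n + 1) → R := fun i l => c i * z l - c l * z i
  suffices ∀ (N : ℕ) (i l : Fin (n + 1)), i < l → (i : ℕ) * (n + 1) + l ≤ N → p i l = 0 by
    rcases lt_trichotomy i l with h' | h' | h'
    · exact this _ i l h' le_rfl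
    · subst h'; ring
    · have := this _ l i h' le_rfl
      simp only [p] at this
      linear_combination -this
  intro N
  induction N using Nat.strong_induction_on with
  | _ N ih =>
    intro i l hil hN
    by_contra hp
    have hm : (i : ℕ) + l - 1 < 2 * n - 1 := by have := i.2; have := l.2; omega
    let m : Fin (2 * n - 1) := ⟨(i : ℕ) + l - 1, hm⟩
    have hsum : (i : ℕ) + l = m + 1 := by simp [m]; omega
    refine hp ?_
    have h0 := (L_pairs z c m).symm.trans (congrFun h m)
    rw [Finset.sum_eq_single i (fun a _ ha => Finset.sum_eq_zero fun b _ => ?_) (by simp),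
      Finset.sum_eq_single l (fun b _ hb => ?_) (by simp), if_pos hil, W_pair hsum hil, Int.cast_one, one_mul,
      Pi.zero_apply] at h0
    · exact h0
    · split_ifs with hib
      · rw [W_ne (m := m) (fun h' => hb (Fin.ext (by omega))), Int.cast_zero, zero_mul]
      · rfl
    · split_ifs with hab
      · by_cases hs : (a : ℕ) + b = m + 1
        · have hlt : ∀ (x y : Fin (n + 1)), x < y → ((x : ℕ) < i ∨ (x = i ∧ y < l)) → p x y = 0 := by
            intro x y hxy hlex
            refine ih ((x : ℕ) * (n + 1) + y) (lt_of_lt_of_le ?_ hN) x y hxy le_rfl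
            rcases hlex with hlex | ⟨rfl, hlex⟩
            · have := Nat.mul_le_mul_right (n + 1) (show (x : ℕ) + 1 ≤ i from hlex)
              have := y.2
              linarith
            · exact Nat.add_lt_add_left hlex _
          suffices hpab : p a b = 0 by show _ * p a b = 0; rw [hpab, mul_zero]
          rcases lt_trichotomy (a : ℕ) i with h' | h' | h'
          · exact hlt a b hab (Or.inl h')
          · exact absurd (Fin.ext h') ha
          · have hbl : b < l := Fin.lt_def.2 (by omega)
            have h1 : p i a = 0 := hlt i a (Fin.lt_def.2 h') (Or.inr ⟨rfl, hab.trans hbl⟩)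
            have h2 : p i b = 0 := hlt i b (Fin.lt_def.2 (lt_trans h' hab)) (Or.inr ⟨rfl, hbl⟩)
            have h3 : p i l * p a b = 0 := by
              have e : p i l * p a b = p i a * p l b - p i b * p l a := by simp only [p]; ring
              rw [e, h1, h2, zero_mul, zero_mul, sub_zero]
            exact (mul_eq_zero.1 h3).resolve_left hp
        · rw [W_ne hs, Int.cast_zero, zero_mul]
      · rfl

theorem L_self (z : Fin (n + 1) → R) : L z z = 0 := funext fun m => by
  rw [L_pairs]
  refine Finset.sum_eq_zero fun i _ => Finset.sum_eq_zero fun l _ => ?_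
  split_ifs with h
  · rw [show z i * z l - z l * z i = 0 by ring, mul_zero]
  · rfl

/-- The columns other than the `j`-th. -/
def colMat (z : Fin (n + 1) → R) (j : Fin (n + 1)) : Matrix (Fin (2 * n - 1)) (Fin n) R :=
  Matrix.of fun m s => col z (j.succAbove s) m

theorem L_eq_colMat (z c : Fin (n + 1) → R) (j : Fin (n + 1)) (hj : z j = 1) :
    L z c = (colMat z j).mulVec fun s => c (j.succAbove s) - c j * z (j.succAbove s) := by
  let c' : Fin (n + 1) → R := fun i => c i - c j * z i
  have h1 : L z c = L z c' := by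
    rw [show c' = c - c j • z from rfl, map_sub, map_smul, L_self, smul_zero, sub_zero]
  rw [h1, L, Fintype.linearCombination_apply, Fin.sum_univ_succAbove _ j]
  have hcj : c' j = 0 := by simp [c', hj]
  rw [hcj, zero_smul, zero_add]
  funext m
  simp [Matrix.mulVec, dotProduct, colMat, c', mul_comm]

theorem exists_leftInverse [IsLocalRing R] (z : Fin (n + 1) → R) (j : Fin (n + 1)) (hj : z j = 1) :
    ∃ Q : Matrix (Fin n) (Fin (2 * n - 1)) R, Q * colMat z j = 1 := by
  classical
  let π := IsLocalRing.residue R
  have hπ : (colMat z j).map π = colMat (fun i => π (z i)) j := by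
    ext m s
    simp [colMat, col, map_sum]
  have hinj : Function.Injective ((colMat (fun i => π (z i)) j).mulVec) := by
    refine (injective_iff_map_eq_zero (Matrix.mulVecLin (colMat (fun i => π (z i)) j))).2 fun d hd => ?_
    let c : Fin (n + 1) → IsLocalRing.ResidueField R := Fin.insertNth j 0 d
    have hc : L (fun i => π (z i)) c = 0 := by
      rw [L_eq_colMat _ _ j (by simp [hj])]
      simpa [c] using hd
    funext s
    have := cross_eq_zero _ _ hc (j.succAbove s) j
    simpa [c, hj] using this
  obtain ⟨g, hg⟩ := LinearMap.exists_leftInverse_of_injective (Matrix.mulVecLin (colMat (fun i => π (z i)) j))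
    (LinearMap.ker_eq_bot.2 hinj)
  have hQ : ∀ s m, ∃ q : R, π q = LinearMap.toMatrix' g s m := fun s m => IsLocalRing.residue_surjective _
  choose q hq using hQ
  let Q : Matrix (Fin n) (Fin (2 * n - 1)) R := Matrix.of q
  have hmap : (Q * colMat z j).map π = 1 := by
    rw [Matrix.map_mul, hπ, show Q.map π = LinearMap.toMatrix' g from by ext s m; exact hq s m]
    have := congrArg LinearMap.toMatrix' hg
    rwa [LinearMap.toMatrix'_comp, LinearMap.toMatrix'_id, ← Matrix.toLin'_apply', LinearMap.toMatrix'_toLin'] at this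
  have hu : IsUnit (Q * colMat z j).det := by
    refine (IsLocalRing.residue_ne_zero_iff_isUnit _).1 ?_
    show π _ ≠ 0
    rw [RingHom.map_det, show π.mapMatrix (Q * colMat z j) = 1 from hmap, Matrix.det_one]
    exact one_ne_zero
  exact ⟨(Q * colMat z j)⁻¹ * Q, by rw [Matrix.mul_assoc, Matrix.nonsing_inv_mul _ hu]⟩

/-- The kernel of `L z`. -/
theorem eq_smul_of_L_eq_zero [IsLocalRing R] (z c : Fin (n + 1) → R) (j : Fin (n + 1)) (hj : z j = 1)
    (h : L z c = 0) : c = c j • z := by
  obtain ⟨Q, hQ⟩ := exists_leftInverse z j hj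
  rw [L_eq_colMat z c j hj] at h
  have h' := congrArg Q.mulVec h
  rw [Matrix.mulVec_mulVec, hQ, Matrix.one_mulVec, Matrix.mulVec_zero] at h'
  funext i
  rcases eq_or_ne i j with rfl | hi
  · simp [hj]
  · obtain ⟨s, rfl⟩ := Fin.exists_succAbove_eq hi
    simpa [sub_eq_zero] using congrFun h' s

/-- The cokernel of `L z` is free of rank `n - 1`. -/
theorem free_quotient_range [IsLocalRing R] [IsDomain R] (z : Fin (n + 1) → R) (j : Fin (n + 1)) (hj : z j = 1) :
    Module.Free R ((Fin (2 * n - 1) → R) ⧸ LinearMap.range (L z)) ∧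
      Module.finrank R ((Fin (2 * n - 1) → R) ⧸ LinearMap.range (L z)) = n - 1 := by
  classical
  obtain ⟨Q, hQ⟩ := exists_leftInverse z j hj
  let N := Matrix.mulVecLin (colMat z j)
  have hQN : ∀ d, Q.mulVec (N d) = d := fun d => by
    show Q.mulVec ((colMat z j).mulVec d) = d
    rw [Matrix.mulVec_mulVec, hQ, Matrix.one_mulVec]
  have hrange : LinearMap.range (L z) = LinearMap.range N := by
    refine le_antisymm ?_ ?_
    · rintro _ ⟨c, rfl⟩
      exact ⟨_, (L_eq_colMat z c j hj).symm⟩
    · rintro _ ⟨d, rfl⟩
      refine ⟨Fin.insertNth j 0 d, ?_⟩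
      rw [L_eq_colMat z _ j hj]
      simp [N]
  rw [hrange]
  let q : (Fin (2 * n - 1) → R) →ₗ[R] (Fin (2 * n - 1) → R) := LinearMap.id - N.comp (Matrix.mulVecLin Q)
  have hker : LinearMap.ker q = LinearMap.range N := by
    ext v
    constructor
    · intro hv
      exact ⟨Q.mulVec v, (sub_eq_zero.1 (show v - N (Q.mulVec v) = 0 from hv)).symm⟩
    · rintro ⟨d, rfl⟩
      show N d - N (Q.mulVec (N d)) = 0
      rw [hQN, sub_self]
  haveI : Module.Projective R ((Fin (2 * n - 1) → R) ⧸ LinearMap.range N) := by
    let s : ((Fin (2 * n - 1) → R) ⧸ LinearMap.range N) →ₗ[R] (Fin (2 * n - 1) → R) :=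
      (LinearMap.range N).liftQ q hker.ge
    refine Module.Projective.of_split s (LinearMap.range N).mkQ (LinearMap.ext fun x => ?_)
    obtain ⟨v, rfl⟩ := Submodule.mkQ_surjective _ x
    show Submodule.Quotient.mk (v - N (Q.mulVec v)) = Submodule.Quotient.mk v
    rw [Submodule.Quotient.eq]
    exact ⟨-(Q.mulVec v), by rw [map_neg]; abel⟩
  refine ⟨Module.free_of_flat_of_isLocalRing, ?_⟩
  have h1 := (LinearMap.range N).finrank_quotient_add_finrank
  rw [LinearMap.finrank_range_of_inj (Function.LeftInverse.injective hQN), Module.finrank_fin_fun,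
    Module.finrank_fin_fun] at h1
  omega

/-- Matrices self-adjoint for all the forms are scalar. -/
theorem eq_scalar_of_skew {k : Type u} [Field k] [CharZero k] (B : Fin (n + 1) → Fin (n + 1) → k)
    (h : ∀ m (i l : Fin (n + 1)), ∑ t, B t i * (W m t l : k) = -∑ t, B t l * (W m t i : k)) :
    ∃ c : k, ∀ t i, B t i = if t = i then c else 0 := by
  classical
  have hadj : ∀ x : Fin (n + 1) → k, L x (fun t => ∑ i, B t i * x i) = 0 := fun x => funext fun m => by
    have e1 : L x (fun t => ∑ i, B t i * x i) m = ∑ i, ∑ l, (∑ t, B t i * (W m t l : k)) * (x i * x l) := by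
      rw [L_apply]
      simp only [Finset.sum_mul, Finset.mul_sum]
      rw [Finset.sum_comm]
      conv_rhs => rw [Finset.sum_comm]
      exact Finset.sum_congr rfl fun l _ => by
        rw [Finset.sum_comm]
        exact Finset.sum_congr rfl fun i _ => Finset.sum_congr rfl fun t _ => by ring
    have e2 : L x (fun t => ∑ i, B t i * x i) m = -L x (fun t => ∑ i, B t i * x i) m := by
      conv_rhs => rw [e1, Finset.sum_comm]
      rw [e1, ← Finset.sum_neg_distrib]
      refine Finset.sum_congr rfl fun i _ => ?_
      rw [← Finset.sum_neg_distrib]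
      refine Finset.sum_congr rfl fun l _ => ?_
      rw [h m i l]; ring
    have h2 := eq_neg_iff_add_eq_zero.1 e2
    rw [← two_mul, mul_eq_zero] at h2
    exact h2.resolve_left two_ne_zero
  have hoff : ∀ t i, t ≠ i → B t i = 0 := fun t i hti => by
    have := cross_eq_zero _ _ (hadj (Pi.single i 1)) t i
    simpa [Pi.single_apply, hti] using this
  refine ⟨B 0 0, fun t i => ?_⟩
  split_ifs with hti
  · subst hti
    by_cases h0 : t = 0
    · subst h0; rfl
    · have := cross_eq_zero _ _ (hadj (Pi.single 0 1 + Pi.single t 1)) t 0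
      simp [Pi.single_apply, h0, Ne.symm h0, Finset.sum_add_distrib, mul_add, hoff t 0 h0, hoff 0 t (Ne.symm h0),
        sub_eq_zero] at this
      exact this
  · exact hoff t i hti

/-- The forms are linearly independent. -/
theorem eq_zero_of_comb {k : Type u} [Field k] (a : Fin (2 * n - 1) → k)
    (h : ∀ i l : Fin (n + 1), ∑ m, a m * (W m i l : k) = 0) : a = 0 := by
  funext m
  have hm := m.2
  let i : Fin (n + 1) := ⟨(m : ℕ) + 1 - n, by omega⟩
  let l : Fin (n + 1) := ⟨(m : ℕ) + 1 - ((m : ℕ) + 1 - n), by omega⟩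
  have hs : (i : ℕ) + l = m + 1 := by simp [i, l]
  have hil : i < l := Fin.lt_def.2 (by simp [i, l]; omega)
  have := h i l
  rw [Finset.sum_eq_single m (fun m' _ hm' => by rw [W_ne (fun h' => hm' (Fin.ext (by omega))), Int.cast_zero, mul_zero])
    (by simp), W_pair hs hil, Int.cast_one, mul_one] at this
  exact this

end Groth.Agent.RankTwo11.Skew
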