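import Groth.Agent.Lib.RankTwo11.Split
import Groth.Agent.Lib.RankTwo11.SkewForms
import Groth.Agent.Lib.VB17.Sub
import Groth.Agent.Lib.Twist.GlobalProjSpace
import Groth.Agent.Lib.CMReg18.Linear
import Groth.Agent.Lib.RankFree12.Scheme

/-!
# A simple bundle of rank `n - 1` on projective space

The cokernel of `O^{n+1} ⟶ O(1)^{2n-1}` given by the skew forms `ω_m`.
-/

set_option autoImplicit false
set_option linter.style.haveILetI false
set_option linter.unusedSectionVars false
set_option backward.isDefEq.respectTransparency false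
set_option backward.isDefEq.respectTransparency.types false
set_option maxHeartbeats 1000000

universe u

open CategoryTheory CategoryTheory.Limits AlgebraicGeometry TopologicalSpace Opposite

noncomputable section

namespace Groth.Agent.RankTwo11.Simple

open Groth.Agent

variable (k : Type u) [Field k] (n : ℕ)

/-- The constants. -/
def sc (a : k) : Γ(CohB1.ProjSpace n k, ⊤) := Coh.toGlobal (CohB1.ProjSpace.toSpec n k) a

/-- The coordinate sections of `O(1)`. -/
def gX (l : Fin (n + 1)) : Γ(_root_.Twist.twistProjSpace n k 1, ⊤) :=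
  Twist.gsec (CohB1.polyGrading n k) (d := 1) ⟨MvPolynomial.X l, ProjSpace.X_mem' n k l⟩

/-- The entries. -/
def ell (m : Fin (2 * n - 1)) (i : Fin (n + 1)) : Γ(_root_.Twist.twistProjSpace n k 1, ⊤) :=
  ∑ l, (Skew.W m i l : Γ(CohB1.ProjSpace n k, ⊤)) • gX k n l

/-- The summands of the target. -/
abbrev O1 (_ : Fin (2 * n - 1)) : (CohB1.ProjSpace n k).Modules := _root_.Twist.twistProjSpace n k 1

/-- The columns. -/
def sigma (i : Fin (n + 1)) : Γ(∐ O1 k n, ⊤) :=
  ∑ m, (Sigma.ι (O1 k n) m).app ⊤ (ell k n m i)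

/-- The presentation. -/
def Phi : FlatMod.freeMod (CohB1.ProjSpace n k) (n + 1) ⟶ ∐ O1 k n := Sigma.desc fun i => M1.secHom (sigma k n i)

variable {k n}

theorem Phi_one (i : Fin (n + 1)) :
    (Phi k n).app ⊤ ((Sigma.ι (fun _ : Fin (n + 1) => Coh.structureModule (CohB1.ProjSpace n k)) i).app ⊤ (M1.one ⊤)) =
      sigma k n i := by
  rw [← CategoryTheory.comp_apply, ← Scheme.Modules.Hom.comp_app, Phi, Sigma.ι_desc]
  exact M1.secHom_app_one _

theorem eq_zero_of_sum_gX (c : Fin (n + 1) → k)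
    (h : ∑ l, sc k n (c l) • gX k n l = 0) :
    c = 0 := by
  classical
  let q : MvPolynomial (Fin (n + 1)) k := ∑ l, MvPolynomial.C (c l) * MvPolynomial.X l
  have hq : q ∈ CohB1.polyGrading n k 1 := Submodule.sum_mem _ fun l _ => by
    simpa using (MvPolynomial.isHomogeneous_C _ (c l)).mul (MvPolynomial.isHomogeneous_X k l)
  have hq0 : (⟨q, hq⟩ : CohB1.polyGrading n k 1) = 0 := by
    refine (Twist.globalOf_bijective_polyGrading n k 1).1 (Twist.sec_ext fun x hx => ?_)
    let φ : Γ(_root_.Twist.twistProjSpace n k 1, ⊤) →+ _ := AddMonoidHom.mk'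
      (fun t => Twist.val (𝒜 := CohB1.polyGrading n k) (n := (1 : ℤ)) (U := ⊤) t x trivial) (fun a b => rfl)
    let h1 := Twist.one_notMem n k x
    have hterm : ∀ l, φ (sc k n (c l) • gX k n l) =
        Localization.mk (MvPolynomial.C (c l) * MvPolynomial.X l) ⟨1, h1⟩ := fun l => by
      refine (Twist.val_smul (U := ⊤) (sc k n (c l)) (gX k n l) x trivial).trans ?_
      refine (congrArg₂ (· * ·) (Twist.valO_constFun n k (c l) x)
        (Twist.val_globalOf (𝒜 := CohB1.polyGrading n k) _ x trivial h1)).trans ?_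
      rw [Localization.mk_mul]
      exact congrArg _ (Subtype.ext (one_mul 1))
    have h0 := congrArg φ h
    rw [map_sum, map_zero, Finset.sum_congr rfl fun l _ => hterm l] at h0
    refine Eq.trans ?_ (Localization.mk_zero (⟨1, h1⟩ : x.asHomogeneousIdeal.toIdeal.primeCompl)).symm
    refine Eq.trans ?_ h0
    show Localization.mk q _ = _
    exact map_sum (AddMonoidHom.mk' (fun a => Localization.mk a (⟨1, h1⟩ : x.asHomogeneousIdeal.toIdeal.primeCompl))
      (fun a b => (Localization.add_mk_self a _ b).symm)) _ _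
  have := congrArg Subtype.val hq0
  funext l
  have h2 := congrArg (MvPolynomial.coeff (Finsupp.single l 1)) this
  simpa [q, MvPolynomial.coeff_sum, MvPolynomial.coeff_C_mul, MvPolynomial.coeff_X', Finsupp.single_eq_single_iff]
    using h2

theorem stalk_map_germ {M N : (CohB1.ProjSpace n k).Modules} (f : M ⟶ N) {U : (CohB1.ProjSpace n k).Opens}
    {x : CohB1.ProjSpace n k} (hx : x ∈ U) (s : Γ(M, U)) :
    CurveCoh17.stalkLin f x (M.presheaf.germ U x hx s) = N.presheaf.germ U x hx (f.app U s) :=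
  M1.germ_naturality f U x hx s

/-- Coordinates in which the presentation at a point is `L z`. -/
theorem exists_coords (x : CohB1.ProjSpace n k) :
    ∃ (z : Fin (n + 1) → (CohB1.ProjSpace n k).presheaf.stalk x) (j : Fin (n + 1))
      (eU : (FlatMod.freeMod (CohB1.ProjSpace n k) (n + 1)).presheaf.stalk x ≃ₗ[(CohB1.ProjSpace n k).presheaf.stalk x]
        (Fin (n + 1) → (CohB1.ProjSpace n k).presheaf.stalk x))
      (eT : (∐ O1 k n).presheaf.stalk x ≃ₗ[(CohB1.ProjSpace n k).presheaf.stalk x]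
        (Fin (2 * n - 1) → (CohB1.ProjSpace n k).presheaf.stalk x)),
      z j = 1 ∧ ∀ c, eT (CurveCoh17.stalkLin (Phi k n) x (eU.symm c)) = Skew.L z c := by
  classical
  obtain ⟨j, hj⟩ := Opens.mem_iSup.1 ((ProjSpace.iSup_basicOpen n k).ge (Set.mem_univ x))
  let D : (CohB1.ProjSpace n k).Opens := Proj.basicOpen (CohB1.polyGrading n k) (MvPolynomial.X j)
  let s := M1.mres (_root_.Twist.twistProjSpace n k 1) (le_top : D ≤ ⊤) (gX k n j)
  have hs : Twist.IsGen (_root_.Twist.twistProjSpace n k 1) D s := fun V hV => by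
    simp only [s, M1.mres_mres]
    exact Twist.bijective_smul_gsec (CohB1.polyGrading n k) ⟨MvPolynomial.X j, ProjSpace.X_mem' n k j⟩ V hV
  have hr : ∀ l, ∃ r : Γ(CohB1.ProjSpace n k, D), r • s = M1.mres _ (le_top : D ≤ ⊤) (gX k n l) := fun l => by
    obtain ⟨r, hr⟩ := (hs D le_rfl).2 (M1.mres _ (le_top : D ≤ ⊤) (gX k n l))
    exact ⟨r, by simpa [M1.mres_id] using hr⟩
  choose r hr using hr
  have hrj : r j = 1 := (hs D le_rfl).1 (by
    simp only [M1.mres_id, hr, one_smul]
    rfl)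
  let z : Fin (n + 1) → (CohB1.ProjSpace n k).presheaf.stalk x := fun l => (CohB1.ProjSpace n k).presheaf.germ D x hj (r l)
  let u₁ : Fin (n + 1) → Γ(FlatMod.freeMod (CohB1.ProjSpace n k) (n + 1), ⊤) := fun i =>
    (Sigma.ι (fun _ : Fin (n + 1) => Coh.structureModule (CohB1.ProjSpace n k)) i).app ⊤ (M1.one ⊤)
  let t₁ : Fin (2 * n - 1) → Γ(∐ O1 k n, D) := fun m => (Sigma.ι (O1 k n) m).app D s
  have hu : P1Split.IsBas (FlatMod.freeMod (CohB1.ProjSpace n k) (n + 1)) ⊤ u₁ :=
    P1Split.isBas_coprod (fun _ : Fin (n + 1) => Coh.structureModule (CohB1.ProjSpace n k)) (fun _ => M1.one ⊤)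
      fun _ => P1Split.isGen_one ⊤
  have ht : P1Split.IsBas (∐ O1 k n) D t₁ := P1Split.isBas_coprod (O1 k n) (fun _ => s) fun _ => hs
  let uS : Fin (n + 1) → (FlatMod.freeMod (CohB1.ProjSpace n k) (n + 1)).presheaf.stalk x := fun i =>
    (FlatMod.freeMod (CohB1.ProjSpace n k) (n + 1)).presheaf.germ ⊤ x trivial (u₁ i)
  let tS : Fin (2 * n - 1) → (∐ O1 k n).presheaf.stalk x := fun m => (∐ O1 k n).presheaf.germ D x hj (t₁ m)
  let eU := (LinearEquiv.ofBijective (Fintype.linearCombination ((CohB1.ProjSpace n k).presheaf.stalk x) uS)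
    (hu.stalk (show x ∈ (⊤ : (CohB1.ProjSpace n k).Opens) from trivial))).symm
  let eT := (LinearEquiv.ofBijective (Fintype.linearCombination ((CohB1.ProjSpace n k).presheaf.stalk x) tS)
    (ht.stalk hj)).symm
  refine ⟨z, j, eU, eT, by simp [z, hrj], fun c => eT.symm.injective ?_⟩
  rw [LinearEquiv.symm_apply_apply]
  simp only [eU, eT, LinearEquiv.symm_symm, LinearEquiv.ofBijective_apply, Skew.L, Fintype.linearCombination_apply,
    map_sum, map_smul]
  refine Finset.sum_congr rfl fun i _ => congrArg (c i • ·) ?_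
  simp only [uS, tS, u₁]
  rw [stalk_map_germ, Phi_one, sigma, map_sum]
  refine Finset.sum_congr rfl fun m _ => ?_
  have hell : M1.mres (_root_.Twist.twistProjSpace n k 1) (le_top : D ≤ ⊤) (ell k n m i) =
      (∑ l, (Skew.W m i l : Γ(CohB1.ProjSpace n k, D)) * r l) • s := by
    rw [ell, map_sum, Finset.sum_smul]
    refine Finset.sum_congr rfl fun l _ => ?_
    rw [M1.mres_smul, ← hr, mul_smul, map_intCast]
  rw [← M1.germ_mres _ (le_top : D ≤ ⊤) hj, ← M1.app_mres, hell, Scheme.Modules.Hom.app_smul, M1.germ_smul]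
  refine congrArg (· • ((∐ O1 k n).presheaf.germ D x hj (t₁ m) : (∐ O1 k n).presheaf.stalk x)) ?_
  simp [Skew.col, z, map_sum]

/-- The target is finite locally free. -/
theorem isFinLocFree_T : FlatMod.IsFinLocFree (∐ O1 k n) := fun x => by
  obtain ⟨j, hj⟩ := Opens.mem_iSup.1 ((ProjSpace.iSup_basicOpen n k).ge (Set.mem_univ x))
  let D : (CohB1.ProjSpace n k).Opens := Proj.basicOpen (CohB1.polyGrading n k) (MvPolynomial.X j)
  have hb := P1Split.isBas_coprod (O1 k n) (U := D) (fun _ => M1.mres _ (le_top : D ≤ ⊤) (gX k n j)) fun _ V hV => by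
    simp only [M1.mres_mres]
    exact Twist.bijective_smul_gsec (CohB1.polyGrading n k) ⟨MvPolynomial.X j, ProjSpace.X_mem' n k j⟩ V hV
  have himg : D.ι ''ᵁ ⊤ = D := by simp
  obtain ⟨ψ⟩ := CurveCoh17.nonempty_iso_freeMod_of_isBas
    (CurveCoh17.isBas_restrict D.ι (∐ O1 k n) (D := ⊤) (hb.mres himg.le))
  exact ⟨D, _, hj, ⟨ψ.symm⟩⟩

theorem rank_target (hn : 2 ≤ n) : FlatMod.IsFinLocFreeOfRank (n - 1) (cokernel (Phi k n)) := by
  haveI : IsIntegral (CohB1.ProjSpace n k) := RegExt.isIntegral_projSpace n k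
  haveI : IsLocallyNoetherian (CohB1.ProjSpace n k) := CohFound.ProjNum.isLocallyNoetherian_projSpace n k
  have hT := isFinLocFree_T (k := k) (n := n)
  have hC : Coh.IsCoh (cokernel (Phi k n)) :=
    M1.isCoh_cokernel (M2.isQCoh_of_isFinLocFree (M2.isFinLocFree_of_ofRank (M2.isFinLocFreeOfRank_freeMod _ _)))
      ((M1.isCoh_iff_isFP _).2 (M1.isFP_of_isFinLocFree hT)) (Phi k n)
  have key : ∀ x : CohB1.ProjSpace n k,
      Module.Free ((CohB1.ProjSpace n k).presheaf.stalk x) ((cokernel (Phi k n)).presheaf.stalk x) ∧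
      Module.finrank ((CohB1.ProjSpace n k).presheaf.stalk x) ((cokernel (Phi k n)).presheaf.stalk x) = n - 1 := fun x => by
    obtain ⟨z, j, eU, eT, hj, hL⟩ := exists_coords (k := k) (n := n) x
    obtain ⟨hfree, hrank⟩ := Skew.free_quotient_range z j hj
    let q := (CurveCoh17.stalkLin (cokernel.π (Phi k n)) x).comp eT.symm.toLinearMap
    have hsurj : Function.Surjective q :=
      ((M1.epi_iff_stalk (cokernel.π (Phi k n))).1 inferInstance x).comp eT.symm.surjective
    have hker : LinearMap.ker q = LinearMap.range (Skew.L z) := by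
      ext v
      constructor
      · intro hv
        obtain ⟨a, ha⟩ := (M1.exact_iff_stalk_eq_zero _).1
          (ShortComplex.exact_cokernel (Phi k n)) x (eT.symm v) hv
        refine ⟨eU a, ?_⟩
        rw [← hL, LinearEquiv.symm_apply_apply]
        exact eT.eq_symm_apply.1 ha
      · rintro ⟨c, rfl⟩
        rw [LinearMap.mem_ker, ← hL]
        show CurveCoh17.stalkLin (cokernel.π (Phi k n)) x (eT.symm (eT _)) = 0
        rw [LinearEquiv.symm_apply_apply, CurveCoh17.stalkLin_apply, CurveCoh17.stalkLin_apply,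
          ← ConcreteCategory.comp_apply, ← Functor.map_comp, cokernel.condition, Functor.map_zero]
        rfl
    let e : ((Fin (2 * n - 1) → (CohB1.ProjSpace n k).presheaf.stalk x) ⧸ LinearMap.range (Skew.L z)) ≃ₗ[_]
        (cokernel (Phi k n)).presheaf.stalk x :=
      (Submodule.quotEquivOfEq _ _ hker.symm).trans (q.quotKerEquivOfSurjective hsurj)
    exact ⟨Module.Free.of_equiv e, by rw [← e.finrank_eq, hrank]⟩
  have hfin := RH26.isFinLocFree_of_stalks hC fun x => (key x).1
  intro x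
  obtain ⟨U, m, hxU, ⟨e⟩⟩ := hfin x
  have hη := RH26.mem_of_genericPoint U hxU
  have hm : m = n - 1 := by
    have h1 := RankFree12.rk_of_freeMod hC.1 e hη
    obtain ⟨D, c, hxD, hc⟩ : ∃ (D : (CohB1.ProjSpace n k).Opens) (c : Fin m → Γ(cokernel (Phi k n), D)),
        x ∈ D ∧ P1Split.IsBas (cokernel (Phi k n)) D c := by
      exact ⟨_, _, show x ∈ U.ι ''ᵁ ⊤ from ⟨⟨x, hxU⟩, trivial, rfl⟩, P1Split.isBas_of_restrict U.ι _
        ((P1Split.isBas_coprod (fun _ : Fin m => Coh.structureModule (U : Scheme.{u})) (fun _ => M1.one ⊤)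
          fun _ => P1Split.isGen_one ⊤).map_iso e.symm)⟩
    rw [← (key x).2, ← (LinearEquiv.ofBijective (Fintype.linearCombination _ _) (hc.stalk hxD)).finrank_eq,
      Module.finrank_fin_fun]
  exact ⟨U, hxU, hm ▸ ⟨e⟩⟩

theorem isInvertible_ker : PicF.IsInvertible (kernel (Phi k n)) := by
  haveI : IsIntegral (CohB1.ProjSpace n k) := RegExt.isIntegral_projSpace n k
  haveI : IsLocallyNoetherian (CohB1.ProjSpace n k) := CohFound.ProjNum.isLocallyNoetherian_projSpace n k
  have hU := M2.isFinLocFree_of_ofRank (M2.isFinLocFreeOfRank_freeMod (CohB1.ProjSpace n k) (n + 1))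
  have hT : Coh.IsQCoh (∐ O1 k n) := M2.isQCoh_of_isFinLocFree isFinLocFree_T
  refine RH26.isInvertible_of_gen (M1.isCoh_kernel ((M1.isCoh_iff_isFP _).2 (M1.isFP_of_isFinLocFree hU)) hT (Phi k n))
    fun x => ?_
  obtain ⟨z, j, eU, eT, hj, hL⟩ := exists_coords (k := k) (n := n) x
  have hι := (M1.mono_iff_stalk (kernel.ι (Phi k n))).1 inferInstance x
  have hex : ∃ a : (kernel (Phi k n)).presheaf.stalk x, CurveCoh17.stalkLin (kernel.ι (Phi k n)) x a = eU.symm z :=
    (M1.exact_iff_stalk_eq_zero _).1 (ShortComplex.exact_kernel (Phi k n)) x (eU.symm z)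
      (eT.injective ((hL z).trans ((Skew.L_self z).trans (map_zero eT).symm)))
  obtain ⟨a, ha'⟩ := hex
  refine ⟨a, fun r r' (h : r • a = r' • a) => ?_, fun y => ?_⟩
  · have h' := congrArg (eU ∘ CurveCoh17.stalkLin (kernel.ι (Phi k n)) x) h
    simp only [Function.comp_apply, map_smul, ha', LinearEquiv.apply_symm_apply] at h'
    simpa [hj] using congrFun h' j
  · refine ⟨eU (CurveCoh17.stalkLin (kernel.ι (Phi k n)) x y) j, hι (eU.injective ?_)⟩
    have h0 : Skew.L z (eU (CurveCoh17.stalkLin (kernel.ι (Phi k n)) x y)) = 0 := by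
      rw [← hL, LinearEquiv.symm_apply_apply, CurveCoh17.stalkLin_apply, CurveCoh17.stalkLin_apply,
        ← ConcreteCategory.comp_apply, ← Functor.map_comp, kernel.condition, Functor.map_zero]
      exact map_zero eT
    show eU (CurveCoh17.stalkLin (kernel.ι (Phi k n)) x (_ • a)) = eU (CurveCoh17.stalkLin (kernel.ι (Phi k n)) x y)
    rw [map_smul, ha', map_smul, LinearEquiv.apply_symm_apply]
    exact (Skew.eq_smul_of_L_eq_zero z _ j hj h0).symm

/-- Vanishing for a quotient. -/
theorem van_right {X : Scheme.{u}} (A : Type u) [CommRing A] [X.Over (Spec (CommRingCat.of A))]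
    {S : ShortComplex X.Modules} (hS : S.ShortExact) (q : ℕ) (h₂ : Subsingleton (Coh.HH X S.X₂ q))
    (h₁ : Subsingleton (Coh.HH X S.X₁ (q + 1))) : Subsingleton (Coh.HH X S.X₃ q) :=
  subsingleton_of_forall_eq 0 fun x => by
    obtain ⟨y, hy⟩ := (CurveCoh17.exact_hmap_hdelta A hS q x).1 (Subsingleton.elim _ _)
    rw [← hy, Subsingleton.elim y 0, map_zero]

theorem shortExact_kernel : (ShortComplex.mk (kernel.ι (Phi k n)) (Abelian.factorThruImage (Phi k n))
    (by rw [← cancel_mono (Abelian.image.ι (Phi k n)), Category.assoc, Abelian.image.fac, kernel.condition,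
      zero_comp])).ShortExact :=
  { exact := ShortComplex.exact_of_f_is_kernel _ <| KernelFork.IsLimit.ofι' _ _ fun {A} b hb =>
      ⟨kernel.lift (Phi k n) b (by rw [← Abelian.image.fac (Phi k n), ← Category.assoc]; exact (congrArg (· ≫ Abelian.image.ι (Phi k n)) hb).trans zero_comp),
        kernel.lift_ι _ _ _⟩ }

theorem shortExact_cokernel : (ShortComplex.mk (Abelian.image.ι (Phi k n)) (cokernel.π (Phi k n))
    (kernel.condition _)).ShortExact :=
  { exact := ShortComplex.exact_kernel (cokernel.π (Phi k n)) }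

theorem subsingleton_twist {d : ℤ} {q : ℕ} (h₀ : q = 0 → d < 0) (hq : q ≠ n ∨ -((n : ℤ) + 1) < d) :
    Subsingleton (Coh.HH (CohB1.ProjSpace n k) (_root_.Twist.twistProjSpace n k d) q) :=
  S0844.result k n d q (fun h => absurd h.2 (not_le.2 (h₀ h.1))) (fun h => by
    rcases hq with hq | hq
    · exact hq h.1
    · omega)

theorem exists_scalar_endo [CharZero k] (hn : 3 ≤ n) (φ : cokernel (Phi k n) ⟶ cokernel (Phi k n)) :
    ∃ c : k, φ = ThetaGrp19.smulHom (cokernel (Phi k n)) (sc k n c) := by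
  classical
  let Pn := CohB1.ProjSpace n k
  let K := Abelian.image (Phi k n)
  obtain ⟨d, ⟨ed⟩⟩ := PicPn.exists_iso_twist (R := k) (isInvertible_ker (k := k) (n := n))
  have hker1 : Subsingleton (Coh.HH (CohB1.ProjSpace n k) (kernel (Phi k n)) 1) :=
    CMReg18.van_iso k ed.symm (subsingleton_twist (fun h => absurd h one_ne_zero) (Or.inl (by omega)))
  have hKm : Subsingleton (Coh.HH (CohB1.ProjSpace n k)
      (CohB1.tensorMod K (_root_.Twist.twistProjSpace n k (-1))) 1) := by
    refine van_right k ((CMReg18.projData k n).shortExact_tw (shortExact_kernel (k := k) (n := n)) (-1)) 1 ?_ ?_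
    · refine CMReg18.van_iso k (PreservesCoproduct.iso (M2.tensorR (_root_.Twist.twistProjSpace n k (-1))) _).symm
        (CMReg18.van_sigma k _ fun _ => CMReg18.van_iso k (M2.tensorLUnit _).symm ?_)
      exact subsingleton_twist (fun h => absurd h one_ne_zero) (Or.inl (by omega))
    · refine CMReg18.van_iso k (M2.tensorIso ed (Iso.refl _) ≪≫ RankTwo11.addIso d (-1)).symm ?_
      exact subsingleton_twist (fun h => absurd h (by norm_num)) (Or.inl (by omega))
  -- lift to the target
  have hA : ∀ m : Fin (2 * n - 1), ∃ a : O1 k n m ⟶ ∐ O1 k n,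
      a ≫ cokernel.π (Phi k n) = Sigma.ι (O1 k n) m ≫ cokernel.π (Phi k n) ≫ φ := fun m => by
    let g : O1 k n m ⟶ cokernel (Phi k n) := Sigma.ι (O1 k n) m ≫ cokernel.π (Phi k n) ≫ φ
    obtain ⟨t, ht⟩ := RankTwo11.exists_lift k ((CMReg18.projData k n).shortExact_tw (shortExact_cokernel (k := k) (n := n)) (-1)) hKm
      ((RankTwo11.negIso (1 : ℤ)).inv ≫ M2.tensorMap g (𝟙 _))
    obtain ⟨a, ha⟩ := ES11.tensorR_map_surjective (RankTwo11.negIso' (1 : ℤ)) ((RankTwo11.negIso (1 : ℤ)).hom ≫ t)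
    refine ⟨a, ES11.tensorR_map_injective (RankTwo11.negIso' (1 : ℤ)) ?_⟩
    refine ((M2.tensorR (_root_.Twist.twistProjSpace n k (-1))).map_comp a (cokernel.π (Phi k n))).trans ?_
    show M2.tensorMap a (𝟙 _) ≫ M2.tensorMap (cokernel.π (Phi k n)) (𝟙 _) = _
    rw [ha, Category.assoc]
    exact (congrArg (_ ≫ ·) ht).trans (Iso.hom_inv_id_assoc _ _)
  choose a ha using hA
  let A : (∐ O1 k n) ⟶ ∐ O1 k n := Sigma.desc a
  have hAπ : A ≫ cokernel.π (Phi k n) = cokernel.π (Phi k n) ≫ φ := Sigma.hom_ext _ _ fun m => by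
    rw [Sigma.ι_desc_assoc]; exact ha m
  -- lift to the source
  have hcond : (Phi k n ≫ A) ≫ cokernel.π (Phi k n) = 0 := by
    rw [Category.assoc, hAπ, cokernel.condition_assoc, zero_comp]
  let bK : FlatMod.freeMod (CohB1.ProjSpace n k) (n + 1) ⟶ K := kernel.lift _ (Phi k n ≫ A) hcond
  have hB : ∀ i : Fin (n + 1), ∃ b : Coh.structureModule (CohB1.ProjSpace n k) ⟶ FlatMod.freeMod (CohB1.ProjSpace n k) (n + 1),
      b ≫ Abelian.factorThruImage (Phi k n) = Sigma.ι _ i ≫ bK := fun i =>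
    RankTwo11.exists_lift k (shortExact_kernel (k := k) (n := n)) hker1 _
  choose b hb using hB
  let B : FlatMod.freeMod (CohB1.ProjSpace n k) (n + 1) ⟶ FlatMod.freeMod (CohB1.ProjSpace n k) (n + 1) := Sigma.desc b
  have hBA : B ≫ Phi k n = Phi k n ≫ A := by
    have h1 : B ≫ Abelian.factorThruImage (Phi k n) = bK := Sigma.hom_ext _ _ fun i => by
      rw [Sigma.ι_desc_assoc]; exact hb i
    rw [← Abelian.image.fac (Phi k n), ← Category.assoc, h1, Abelian.image.fac]
    exact kernel.lift_ι _ _ _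
  -- coordinates
  let one₁ : Fin (n + 1) → Γ(FlatMod.freeMod (CohB1.ProjSpace n k) (n + 1), ⊤) := fun i =>
    (Sigma.ι (fun _ : Fin (n + 1) => Coh.structureModule (CohB1.ProjSpace n k)) i).app ⊤ (M1.one ⊤)
  have hone : P1Split.IsBas (FlatMod.freeMod (CohB1.ProjSpace n k) (n + 1)) ⊤ one₁ :=
    P1Split.isBas_coprod (fun _ : Fin (n + 1) => Coh.structureModule (CohB1.ProjSpace n k)) (fun _ => M1.one ⊤)
      fun _ => P1Split.isGen_one ⊤
  have hβ : ∀ i, ∃ β : Fin (n + 1) → k, ∑ t, sc k n (β t) • one₁ t = B.app ⊤ (one₁ i) := fun i => by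
    obtain ⟨c, hc⟩ := (hone ⊤ le_rfl).2 (B.app ⊤ (one₁ i))
    choose β hβ using fun t => (bijective_toGlobal k n).2 (c t)
    refine ⟨β, Eq.trans (Finset.sum_congr rfl fun t _ => ?_) hc⟩
    rw [M1.mres_id]
    exact congrArg (· • one₁ t) (hβ t)
  choose β hβ using hβ
  have hα : ∀ m m' : Fin (2 * n - 1), ∃ α : k,
      Sigma.ι (O1 k n) m ≫ A ≫ P1Split.proj (O1 k n) m' = ThetaGrp19.smulHom _ (sc k n α) := fun m m' => by
    obtain ⟨c, hc, -⟩ := ThetaGrp19.existsUnique_smulHom (RankTwo11.isInvertible_O (k := k) (n := n) 1)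
      (Sigma.ι (O1 k n) m ≫ A ≫ P1Split.proj (O1 k n) m')
    obtain ⟨α, rfl⟩ := (bijective_toGlobal k n).2 c
    exact ⟨α, hc⟩
  choose α hα using hα
  have hproj : ∀ (i : Fin (n + 1)) (m' : Fin (2 * n - 1)),
      (P1Split.proj (O1 k n) m').app ⊤ (sigma k n i) = ell k n m' i := fun i m' => by
    rw [sigma, map_sum, Finset.sum_eq_single m' (fun m _ hm => ?_) (by simp), ← CategoryTheory.comp_apply,
      ← Scheme.Modules.Hom.comp_app, P1Split.ι_proj_self]
    · rfl
    · rw [← CategoryTheory.comp_apply, ← Scheme.Modules.Hom.comp_app, P1Split.ι_proj_ne _ hm]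
      rfl
  have hcoef : ∀ i m' l, ∑ m, α m m' * (Skew.W m i l : k) = ∑ t, β i t * (Skew.W m' t l : k) := by
    intro i m'
    have e1 := congrArg (fun f => (P1Split.proj (O1 k n) m').app ⊤ (Scheme.Modules.Hom.app f ⊤ (one₁ i))) hBA
    simp only [Scheme.Modules.Hom.comp_app, CategoryTheory.comp_apply] at e1
    rw [← hβ i] at e1
    simp only [map_sum, Scheme.Modules.Hom.app_smul] at e1
    have hσ : ∀ t, (Phi k n).app ⊤ (one₁ t) = sigma k n t := fun t => Phi_one t
    simp only [hσ, hproj] at e1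
    have e2 : ∀ m, (P1Split.proj (O1 k n) m').app ⊤ (A.app ⊤ ((Sigma.ι (O1 k n) m).app ⊤ (ell k n m i))) =
        sc k n (α m m') • ell k n m i := fun m => by
      rw [← CategoryTheory.comp_apply, ← Scheme.Modules.Hom.comp_app, ← CategoryTheory.comp_apply,
        ← Scheme.Modules.Hom.comp_app, hα, ThetaGrp19.smulHom_app]
      simp [M1.ores]
    rw [sigma, map_sum, map_sum] at e1
    simp only [e2] at e1
    have hscW : ∀ z : ℤ, (z : Γ(CohB1.ProjSpace n k, ⊤)) = sc k n (z : k) := fun z =>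
      (map_intCast (Coh.toGlobal (CohB1.ProjSpace.toSpec n k)) z).symm
    simp only [ell, Finset.smul_sum, ← mul_smul, hscW] at e1
    have hmul : ∀ u v : k, sc k n u * sc k n v = sc k n (u * v) := fun u v =>
      (map_mul (Coh.toGlobal (CohB1.ProjSpace.toSpec n k)) u v).symm
    have hsum : ∀ {ι : Type} [Fintype ι] (f : ι → k), ∑ t, sc k n (f t) = sc k n (∑ t, f t) := fun f =>
      (map_sum (Coh.toGlobal (CohB1.ProjSpace.toSpec n k)) f Finset.univ).symm
    rw [Finset.sum_comm] at e1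
    conv_rhs at e1 => rw [Finset.sum_comm]
    simp only [← Finset.sum_smul, hmul, hsum] at e1
    have e3 := eq_zero_of_sum_gX (k := k) (n := n) (fun l => ∑ t, β i t * (Skew.W m' t l : k) - ∑ m, α m m' * (Skew.W m i l : k)) (by
      have hsub : ∀ u v : k, sc k n (u - v) = sc k n u - sc k n v := fun u v =>
        map_sub (Coh.toGlobal (CohB1.ProjSpace.toSpec n k)) u v
      simp only [hsub, sub_smul, Finset.sum_sub_distrib, e1, sub_self])
    intro l
    exact (sub_eq_zero.1 (congrFun e3 l)).symm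
  obtain ⟨c, hc⟩ := Skew.eq_scalar_of_skew (fun t i => β i t) fun m' i l => by
    rw [← hcoef i m' l, ← hcoef l m' i, ← Finset.sum_neg_distrib]
    refine Finset.sum_congr rfl fun m _ => ?_
    rw [Skew.W_swap m i l]; push_cast; ring
  have hαc : ∀ m m', α m m' = if m = m' then c else 0 := fun m₁ m' => by
    have h := Skew.eq_zero_of_comb (fun m => α m m' - if m = m' then c else 0) fun i l => by
      simp only [sub_mul, Finset.sum_sub_distrib, hcoef i m' l, hc]
      simp
    exact sub_eq_zero.1 (congrFun h m₁)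
  refine ⟨c, (cancel_epi (cokernel.π (Phi k n))).1 ?_⟩
  rw [← hAπ, ← ThetaGrp19.smulHom_naturality]
  refine congrArg (· ≫ cokernel.π (Phi k n)) (Sigma.hom_ext _ _ fun m => ?_)
  rw [← ThetaGrp19.smulHom_naturality, ← Category.comp_id (Sigma.ι (O1 k n) m ≫ A), ← P1Split.sum_proj_ι (O1 k n),
    Preadditive.comp_sum, Finset.sum_eq_single m]
  · rw [Category.assoc, ← Category.assoc A, ← Category.assoc, hα, hαc, if_pos rfl]
  · intro m' _ hm'
    rw [Category.assoc, ← Category.assoc A, ← Category.assoc, hα, hαc, if_neg (Ne.symm hm')]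
    have : ThetaGrp19.smulHom (O1 k n m') (sc k n (0 : k)) = 0 := Scheme.Modules.hom_ext _ _ fun V => by
      ext s
      rw [ThetaGrp19.smulHom_app, show sc k n (0 : k) = 0 from map_zero _, map_zero, zero_smul]
      rfl
    rw [this, zero_comp]
  · simp

end Groth.Agent.RankTwo11.Simple
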