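import Groth.Agent.Lib.RankTwo11.NullCorrHom
import Groth.Agent.Lib.RankTwo11.SimpleBundle
import Groth.Agent.Lib.CurveCoh17.IdealPow

/-!
# A null-correlation presentation in odd dimension
-/

set_option autoImplicit false
set_option linter.style.haveILetI false
set_option linter.unusedSectionVars false
set_option backward.isDefEq.respectTransparency false
set_option backward.isDefEq.respectTransparency.types false
set_option maxHeartbeats 1000000

universe u

open CategoryTheory CategoryTheory.Limits AlgebraicGeometry TopologicalSpace Opposite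

noncomputable section

namespace Groth.Agent.RankTwo11.NullPres

open Groth.Agent

section General

variable {X : Scheme.{u}}

/-- Stalks of constant rank give a bundle. -/
theorem rank_of_stalks [IsIntegral X] [IsLocallyNoetherian X] {M : X.Modules} (hM : Coh.IsCoh M) {r : ℕ}
    (hfree : ∀ x, Module.Free (X.presheaf.stalk x) (M.presheaf.stalk x))
    (hrk : ∀ x, Module.finrank (X.presheaf.stalk x) (M.presheaf.stalk x) = r) :
    FlatMod.IsFinLocFreeOfRank r M := by
  intro x
  obtain ⟨U, m, hxU, ⟨e⟩⟩ := RH26.isFinLocFree_of_stalks hM hfree x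
  obtain ⟨D, c, hxD, hc⟩ : ∃ (D : X.Opens) (c : Fin m → Γ(M, D)), x ∈ D ∧ P1Split.IsBas M D c :=
    ⟨_, _, show x ∈ U.ι ''ᵁ ⊤ from ⟨⟨x, hxU⟩, trivial, rfl⟩, P1Split.isBas_of_restrict U.ι _
      ((P1Split.isBas_coprod (fun _ : Fin m => Coh.structureModule (U : Scheme.{u})) (fun _ => M1.one ⊤)
        fun _ => P1Split.isGen_one ⊤).map_iso e.symm)⟩
  have hm : m = r := by
    rw [← hrk x, ← (LinearEquiv.ofBijective (Fintype.linearCombination _ _) (hc.stalk hxD)).finrank_eq,
      Module.finrank_fin_fun]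
  exact ⟨U, hxU, hm ▸ ⟨e⟩⟩

/-- The quotient by a stalkwise split line. -/
theorem rank_cokernel [IsIntegral X] [IsLocallyNoetherian X] {n : ℕ} {A B : X.Modules} (f : A ⟶ B)
    (hA : FlatMod.IsFinLocFreeOfRank 1 A) (hB : FlatMod.IsFinLocFreeOfRank n B) (hf : NullCorr.HasRetr f) :
    FlatMod.IsFinLocFreeOfRank (n - 1) (cokernel f) := by
  have hC : Coh.IsCoh (cokernel f) := M1.isCoh_cokernel (M2.isQCoh_of_isFinLocFree (M2.isFinLocFree_of_ofRank hA))
    ((M1.isCoh_iff_isFP _).2 (M1.isFP_of_isFinLocFree (M2.isFinLocFree_of_ofRank hB))) f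
  have key : ∀ x, Module.Free (X.presheaf.stalk x) ((cokernel f).presheaf.stalk x) ∧
      Module.finrank (X.presheaf.stalk x) ((cokernel f).presheaf.stalk x) = n - 1 := fun x => by
    obtain ⟨r, hr⟩ := hf x
    obtain ⟨eA⟩ := CurveCoh17.nonempty_stalk_equiv hA x
    obtain ⟨eB⟩ := CurveCoh17.nonempty_stalk_equiv hB x
    let φ := CurveCoh17.stalkLin f x
    let q := CurveCoh17.stalkLin (cokernel.π f) x
    have hq : Function.Surjective q := (M1.epi_iff_stalk (cokernel.π f)).1 inferInstance x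
    have hqφ : ∀ a, q (φ a) = 0 := fun a => by
      show CurveCoh17.stalkLin (cokernel.π f) x (CurveCoh17.stalkLin f x a) = 0
      rw [CurveCoh17.stalkLin_apply, CurveCoh17.stalkLin_apply,
        ← ConcreteCategory.comp_apply, ← Functor.map_comp, cokernel.condition, Functor.map_zero]
      rfl
    have hbij : Function.Bijective (r.prod q) := by
      refine ⟨(injective_iff_map_eq_zero _).2 fun b hb => ?_, fun ⟨a, c⟩ => ?_⟩
      · have hb' := Prod.ext_iff.1 hb
        obtain ⟨a, ha⟩ := (M1.exact_iff_stalk_eq_zero _).1 (ShortComplex.exact_cokernel f) x b hb'.2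
        have ha0 : φ a = b := ha
        have : a = 0 := (hr a).symm.trans ((congrArg r ha0).trans hb'.1)
        rw [← ha0, this, map_zero]
      · obtain ⟨b, rfl⟩ := hq c
        refine ⟨b + φ (a - r b), Prod.ext ?_ ?_⟩
        · show r (b + φ (a - r b)) = a
          rw [map_add, show r (φ (a - r b)) = a - r b from hr _, add_sub_cancel]
        · show q (b + φ (a - r b)) = q b
          rw [map_add, hqφ, add_zero]
    let e := LinearEquiv.ofBijective (r.prod q) hbij
    haveI := Module.Free.of_equiv eA.symm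
    haveI := Module.Finite.equiv eA.symm
    haveI := Module.Free.of_equiv eB.symm
    haveI := Module.Finite.equiv eB.symm
    haveI := Module.Finite.of_surjective q hq
    haveI : Module.Projective (X.presheaf.stalk x) ((cokernel f).presheaf.stalk x) :=
      Module.Projective.of_split (e.symm.toLinearMap.comp (LinearMap.inr _ _ _)) q (LinearMap.ext fun c => by
        show q (e.symm (0, c)) = c
        exact congrArg Prod.snd (e.apply_symm_apply ((0 : A.presheaf.stalk x), c)))
    haveI : Module.Free (X.presheaf.stalk x) ((cokernel f).presheaf.stalk x) := Module.free_of_flat_of_isLocalRing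
    refine ⟨inferInstance, ?_⟩
    have := e.finrank_eq
    rw [Module.finrank_prod, eA.finrank_eq, eB.finrank_eq, Module.finrank_fin_fun, Module.finrank_fin_fun] at this
    omega
  exact rank_of_stalks hC (fun x => (key x).1) fun x => (key x).2

end General

variable {k : Type u} [Field k] {n : ℕ}

local notation "L1" => _root_.Twist.twistProjSpace n k (1 : ℤ)

/-- Two sections of `O(1)` commute in the tensor square. -/
theorem tsec_symm (a b : Γ(L1, ⊤)) : M2.tsec L1 L1 a b = M2.tsec L1 L1 b a := by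
  refine M1.section_ext _ _ fun x hx => ?_
  obtain ⟨j, hj⟩ := Opens.mem_iSup.1 ((ProjSpace.iSup_basicOpen n k).ge (Set.mem_univ x))
  let D : (CohB1.ProjSpace n k).Opens := Proj.basicOpen (CohB1.polyGrading n k) (MvPolynomial.X j)
  let s := M1.mres L1 (le_top : D ≤ ⊤) (Simple.gX k n j)
  have hs : Twist.IsGen L1 D s := fun V hV => by
    simp only [s, M1.mres_mres]
    exact Twist.bijective_smul_gsec (CohB1.polyGrading n k) ⟨MvPolynomial.X j, ProjSpace.X_mem' n k j⟩ V hV
  obtain ⟨p, hp⟩ := (hs D le_rfl).2 (M1.mres L1 (le_top : D ≤ ⊤) a)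
  obtain ⟨q, hq⟩ := (hs D le_rfl).2 (M1.mres L1 (le_top : D ≤ ⊤) b)
  simp only [M1.mres_id] at hp hq
  rw [← M1.germ_mres _ (le_top : D ≤ ⊤) hj (M2.tsec L1 L1 a b), ← M1.germ_mres _ (le_top : D ≤ ⊤) hj (M2.tsec L1 L1 b a),
    RankTwo11.mres_tsec, RankTwo11.mres_tsec, ← hp, ← hq]
  simp only [M2.tsec_smul_left, M2.tsec_smul_right, ← mul_smul, mul_comm]

/-- A null-correlation presentation. -/
theorem exists_pres (hn : Odd n) :
    ∃ u : _root_.Twist.twistProjSpace n k (-1) ⟶ NullCorr.Om1 k n,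
      Mono u ∧ FlatMod.IsFinLocFreeOfRank (n - 1) (cokernel u) := by
  classical
  haveI : IsIntegral (CohB1.ProjSpace n k) := RegExt.isIntegral_projSpace n k
  haveI : IsLocallyNoetherian (CohB1.ProjSpace n k) := CohFound.ProjNum.isLocallyNoetherian_projSpace n k
  obtain ⟨ι, e, w, hE⟩ := NullCorr.exists_euler k n
  haveI : Epi e := hE.epi_g
  let u₁ : Fin (n + 1) → Γ(NullCorr.Fr k n, ⊤) := fun i =>
    (Sigma.ι (fun _ : Fin (n + 1) => Coh.structureModule (CohB1.ProjSpace n k)) i).app ⊤ (M1.one ⊤)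
  have hu : P1Split.IsBas (NullCorr.Fr k n) ⊤ u₁ :=
    P1Split.isBas_coprod (fun _ : Fin (n + 1) => Coh.structureModule (CohB1.ProjSpace n k)) (fun _ => M1.one ⊤)
      fun _ => P1Split.isGen_one ⊤
  let y : Fin (n + 1) → Γ(L1, ⊤) := fun i => e.app ⊤ (u₁ i)
  have hgen : ∀ x : CohB1.ProjSpace n k, ∃ i, Function.Bijective
      fun c : (CohB1.ProjSpace n k).presheaf.stalk x =>
        c • ((L1).presheaf.germ ⊤ x trivial (y i) : (L1).presheaf.stalk x) := fun x => by
    obtain ⟨eL⟩ := CurveCoh17.nonempty_stalk_equiv (rank_O (k := k) (n := n) 1) x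
    let E1 := eL.trans (LinearEquiv.funUnique (Fin 1) _ _)
    obtain ⟨b, hb⟩ := (M1.epi_iff_stalk e).1 inferInstance x (E1.symm 1)
    obtain ⟨a, ha⟩ := (hu.stalk (show x ∈ (⊤ : (CohB1.ProjSpace n k).Opens) from trivial)).2 b
    have hsum : ∑ i, a i * E1 ((L1).presheaf.germ ⊤ x trivial (y i)) = 1 := by
      rw [← E1.apply_symm_apply 1, ← (show CurveCoh17.stalkLin e x b = E1.symm 1 from hb), ← ha]
      simp only [map_sum, map_smul, smul_eq_mul]
      exact Finset.sum_congr rfl fun i _ => congrArg (a i * ·) (congrArg E1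
        (Simple.stalk_map_germ e (show x ∈ (⊤ : (CohB1.ProjSpace n k).Opens) from trivial) (u₁ i)).symm)
    obtain ⟨i, hi⟩ : ∃ i, IsUnit (E1 ((L1).presheaf.germ ⊤ x trivial (y i))) := by
      by_contra! h
      exact (IsLocalRing.maximalIdeal.isMaximal ((CohB1.ProjSpace n k).presheaf.stalk x)).ne_top
        ((Ideal.eq_top_iff_one _).2 (hsum ▸ Ideal.sum_mem _ fun i _ => Ideal.mul_mem_left _ _ (h i)))
    refine ⟨i, ?_⟩
    have h : (fun c : (CohB1.ProjSpace n k).presheaf.stalk x =>
        c • ((L1).presheaf.germ ⊤ x trivial (y i) : (L1).presheaf.stalk x)) =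
        E1.symm ∘ fun c => c * E1 ((L1).presheaf.germ ⊤ x trivial (y i)) := funext fun c => by
      refine E1.eq_symm_apply.2 ?_
      rw [map_smul, smul_eq_mul]
    rw [h]
    refine E1.symm.bijective.comp ?_
    obtain ⟨v, hv⟩ := hi
    rw [← hv]
    exact v.mulRight.bijective
  let ε : Fin (n + 1) → Γ(CohB1.ProjSpace n k, ⊤) := fun m => if m < m.rev then 1 else -1
  have hrev : ∀ m : Fin (n + 1), m.rev ≠ m := fun m h => by
    obtain ⟨t, ht⟩ := hn
    have := congrArg Fin.val h
    rw [Fin.val_rev] at this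
    omega
  have hε : ∀ m, ε m * ε m = 1 := fun m => by dsimp only [ε]; split_ifs <;> simp
  have hεr : ∀ m, ε m + ε m.rev = 0 := fun m => by
    dsimp only [ε]
    rcases lt_trichotomy m m.rev with h | h | h
    · rw [if_pos h, if_neg (by rw [Fin.rev_rev]; exact not_lt.2 h.le), add_neg_cancel]
    · exact absurd h.symm (hrev m)
    · rw [if_neg (not_lt.2 h.le), if_pos (by rw [Fin.rev_rev]; exact h), neg_add_cancel]
  let σ : Γ(CohB1.tensorMod (NullCorr.Fr k n) L1, ⊤) :=
    ∑ m, ε m • M2.tsec (NullCorr.Fr k n) L1 (u₁ m) (y m.rev)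
  let E2 := (M2.tensorR L1).map e
  have hσ : E2.app ⊤ σ = 0 := by
    have hterm : ∀ m, E2.app ⊤ (ε m • M2.tsec (NullCorr.Fr k n) L1 (u₁ m) (y m.rev)) =
        ε m • M2.tsec L1 L1 (y m) (y m.rev) := fun m => by
      rw [Scheme.Modules.Hom.app_smul]
      exact congrArg (ε m • ·) ((M2.tensorMap_tsec e (𝟙 L1) _ _).trans rfl)
    refine (map_sum (E2.app ⊤).hom _ _).trans ((Finset.sum_congr rfl fun m _ => hterm m).trans ?_)
    refine Finset.sum_involution (fun m _ => m.rev) (fun m _ => ?_) (fun m _ _ => hrev m) (fun m _ => Finset.mem_univ _)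
      fun m _ => Fin.rev_rev m
    rw [Fin.rev_rev, tsec_symm (y m.rev) (y m), ← add_smul, hεr, zero_smul]
  let w' : Coh.structureModule (CohB1.ProjSpace n k) ⟶ CohB1.tensorMod (NullCorr.Fr k n) L1 := M1.secHom σ
  have hw' : w' ≫ E2 = 0 := M1.unit_hom_ext (by
    rw [Scheme.Modules.Hom.comp_app, CategoryTheory.comp_apply, M1.secHom_app_one]
    exact hσ.trans rfl)
  have hretr : NullCorr.HasRetr w' := fun x => by
    obtain ⟨i, hi⟩ := hgen x
    let π : CohB1.tensorMod (NullCorr.Fr k n) L1 ⟶ L1 := (M2.tensorR L1).map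
      (P1Split.proj (fun _ : Fin (n + 1) => Coh.structureModule (CohB1.ProjSpace n k)) i.rev) ≫ (M2.tensorLUnit L1).hom
    have hπ : π.app ⊤ σ = ε i.rev • y i := by
      refine (map_sum (π.app ⊤).hom _ _).trans ((Finset.sum_eq_single i.rev (fun m _ hm => ?_)
        (fun h => absurd (Finset.mem_univ _) h)).trans ?_)
      all_goals
        refine (Scheme.Modules.Hom.app_smul π _ _).trans ?_
        rw [Scheme.Modules.Hom.comp_app, CategoryTheory.comp_apply]
        refine (congrArg (fun t => _ • (M2.tensorLUnit L1).hom.app ⊤ t) (M2.tensorMap_tsec _ (𝟙 L1) _ _)).trans ?_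
        rw [← CategoryTheory.comp_apply, ← Scheme.Modules.Hom.comp_app, CurveCoh17.tensorLUnit_tsec]
      · rw [P1Split.ι_proj_ne _ hm]
        show ε m • ((0 : Γ(CohB1.ProjSpace n k, ⊤)) • _) = 0
        rw [zero_smul, smul_zero]
      · rw [P1Split.ι_proj_self, Fin.rev_rev]
        show ε i.rev • ((1 : Γ(CohB1.ProjSpace n k, ⊤)) • y i) = _
        rw [one_smul]
    let g := CurveCoh17.stalkLin (M1.secHom (y i)) x
    let o : (Coh.structureModule (CohB1.ProjSpace n k)).presheaf.stalk x :=
      (Coh.structureModule (CohB1.ProjSpace n k)).presheaf.germ ⊤ x trivial (M1.one ⊤)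
    have ho : Function.Bijective fun c : (CohB1.ProjSpace n k).presheaf.stalk x => c • o :=
      (P1Split.isGen_one (X := CohB1.ProjSpace n k) ⊤).stalk trivial
    have hgo : g o = (L1).presheaf.germ ⊤ x trivial (y i) :=
      (Simple.stalk_map_germ _ _ _).trans (congrArg _ (M1.secHom_app_one _))
    have hg : Function.Bijective g := by
      refine (Function.Bijective.of_comp_iff _ ho).1 ?_
      convert hi using 1
      exact funext fun c => (map_smul g c o).trans (congrArg (c • ·) hgo)
    let eg := LinearEquiv.ofBijective g hg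
    let c₀ := (CohB1.ProjSpace n k).presheaf.germ ⊤ x trivial (ε i.rev)
    refine ⟨c₀ • eg.symm.toLinearMap.comp (CurveCoh17.stalkLin π x), fun a => ?_⟩
    obtain ⟨c, rfl⟩ := ho.2 a
    simp only [map_smul]
    refine congrArg (c • ·) ?_
    show c₀ • eg.symm (CurveCoh17.stalkLin π x (CurveCoh17.stalkLin w' x o)) = o
    rw [Simple.stalk_map_germ, M1.secHom_app_one, Simple.stalk_map_germ, hπ, M1.germ_smul, map_smul, ← mul_smul,
      ← map_mul, hε, map_one, one_smul, LinearEquiv.symm_apply_eq]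
    exact hgo.symm
  have hT := (CMReg18.projData k n).shortExact_tw hE 1
  obtain ⟨v, hv⟩ := KernelFork.IsLimit.lift' hT.fIsKernel w' hw'
  have hvr : NullCorr.HasRetr v := fun x => by
    obtain ⟨r, hr⟩ := hretr x
    refine ⟨r.comp (CurveCoh17.stalkLin ((M2.tensorR L1).map ι) x), fun a => ?_⟩
    refine Eq.trans ?_ (hr a)
    show r (CurveCoh17.stalkLin ((M2.tensorR L1).map ι) x (CurveCoh17.stalkLin v x a)) = _
    exact congrArg r ((CurveCoh17.stalkLin_comp _ _ _ _).symm.trans (congrArg (fun φ => CurveCoh17.stalkLin φ x a) hv))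
  haveI : Mono v := (M1.mono_iff_stalk v).2 fun x => by
    obtain ⟨r, hr⟩ := hvr x
    exact fun a b h => by
      have h' : CurveCoh17.stalkLin v x a = CurveCoh17.stalkLin v x b := h
      rw [← hr a, ← hr b, h']
  have hΩ : FlatMod.IsFinLocFreeOfRank n (CohB1.tensorMod (NullCorr.Om1 k n) L1) := by
    have := M2.isFinLocFreeOfRank_tensor (M2.isFinLocFreeOfRank_tensor (Euler2.rank_omega (R := k) (n := n))
      (rank_O (k := k) (n := n) 1)) (rank_O (k := k) (n := n) 1)
    rwa [mul_one, mul_one] at this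
  have hC := rank_cokernel v
    ((M2.isInvertible_iff_isFinLocFreeOfRank_one _).1
      (M2.isInvertible_of_iso zeroIso (isInvertible_O (k := k) (n := n) 0))) hΩ hvr
  have hS : (ShortComplex.mk v (cokernel.π v) (cokernel.condition v)).ShortExact :=
    ShortComplex.ShortExact.mk' (ShortComplex.exact_cokernel v) inferInstance inferInstance
  have hS' := (CMReg18.projData k n).shortExact_tw hS (-1)
  let a₀ := M2.tensorLUnit (_root_.Twist.twistProjSpace n k (-1))
  let b₀ := M2.untwist (negIso (k := k) (n := n) 1) (NullCorr.Om1 k n)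
  let f' := (M2.tensorR (_root_.Twist.twistProjSpace n k (-1))).map v
  let π' := (M2.tensorR (_root_.Twist.twistProjSpace n k (-1))).map (cokernel.π v)
  haveI : Mono f' := hS'.mono_f
  haveI : Epi π' := hS'.epi_g
  refine ⟨a₀.inv ≫ f' ≫ b₀.hom, inferInstance, ?_⟩
  have hC' := M2.isFinLocFreeOfRank_tensor hC (rank_O (k := k) (n := n) (-1))
  rw [mul_one] at hC'
  let e1 : cokernel f' ≅ cokernel (a₀.inv ≫ f' ≫ b₀.hom) := cokernel.mapIso _ _ a₀ b₀ (by simp)
  let e2 : cokernel f' ≅ CohB1.tensorMod (cokernel v) (_root_.Twist.twistProjSpace n k (-1)) :=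
    IsColimit.coconePointUniqueUpToIso (colimit.isColimit _) hS'.gIsCokernel
  exact M2.isFinLocFreeOfRank_of_iso (e2.symm ≪≫ e1) hC'

end Groth.Agent.RankTwo11.NullPres
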