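import Groth.Agent.Lib.RankTwo11.Linear

/-!
# Null correlation bundles on hyperplanes
-/

set_option autoImplicit false
set_option linter.style.haveILetI false
set_option linter.unusedSectionVars false
set_option backward.isDefEq.respectTransparency false
set_option backward.isDefEq.respectTransparency.types false
set_option maxHeartbeats 1000000

universe u

open CategoryTheory CategoryTheory.Limits AlgebraicGeometry TopologicalSpace Opposite

noncomputable section

namespace Groth.Agent.RankTwo11.NullRestrict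

open Groth.Agent

variable {k : Type u} [Field k] {m n : ℕ}

theorem subsingleton_of_hom_eq_zero {X : Scheme.{u}} {F : X.Modules}
    (h : ∀ s : Coh.structureModule X ⟶ F, s = 0) : Subsingleton (Coh.HH X F 0) := by
  haveI : Subsingleton Γ(F, ⊤) := subsingleton_of_forall_eq 0 fun a => by
    rw [← M1.secHom_app_one a, h (M1.secHom a)]
    rfl
  exact (CurveCoh17.hh0 F).toEquiv.subsingleton

theorem hom_eq_zero_of_iso {X : Scheme.{u}} {F G : X.Modules} (e : F ≅ G)
    (h : Subsingleton (Coh.HH X G 0)) (s : Coh.structureModule X ⟶ F) : s = 0 := by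
  rw [← cancel_mono e.hom, zero_comp]
  exact eq_zero_of_subsingleton h _

theorem restrict (hm : 2 ≤ m) (hmn : m < n) (u : _root_.Twist.twistProjSpace n k (-1) ⟶ NullCorr.Om1 k n) [Mono u]
    (hM : FlatMod.IsFinLocFree (cokernel u)) (f : CohB1.ProjSpace m k ⟶ CohB1.ProjSpace n k)
    (eO : (Scheme.Modules.pullback f).obj (_root_.Twist.twistProjSpace n k 1) ≅ _root_.Twist.twistProjSpace m k 1) :
    Subsingleton (Coh.HH (CohB1.ProjSpace m k)
        (CohB1.tensorMod ((Scheme.Modules.pullback f).obj (cokernel u)) (_root_.Twist.twistProjSpace m k (-1))) 0) ∧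
      Nontrivial (Coh.HH (CohB1.ProjSpace m k) ((Scheme.Modules.pullback f).obj (cokernel u)) 0) := by
  let P := Scheme.Modules.pullback f
  let O1 := _root_.Twist.twistProjSpace m k 1
  let O' := _root_.Twist.twistProjSpace m k (-1)
  obtain ⟨-, ⟨e⟩⟩ := Linear.nonempty_pullback_omega f eO
  have hS : (ShortComplex.mk u (cokernel.π u) (cokernel.condition u)).ShortExact :=
    ShortComplex.ShortExact.mk' (ShortComplex.exact_cokernel u) inferInstance inferInstance
  have hp := CMReg18.shortExact_pullback f _ hS (KFlat.Sch.isFlat_of_isFinLocFree hM)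
  let eN : P.obj (_root_.Twist.twistProjSpace n k (-1)) ≅ O' :=
    (M2.untwist (negIso (k := k) (n := m) 1) _).symm ≪≫
      M2.tensorIso ((M2.tensorIso (Iso.refl _) eO.symm) ≪≫ (M2.pullTensorIso f _ _).symm ≪≫
        P.mapIso (negIso' (k := k) (n := n) 1) ≪≫ PicLoc.pullbackStructureIso f) (Iso.refl O') ≪≫
      M2.tensorLUnit O'
  let eA : P.obj (NullCorr.Om1 k n) ≅ CohB1.tensorMod (P.obj (Omega.sheaf (CohB1.ProjSpace.toSpec n k))) O1 :=
    M2.pullTensorIso f _ _ ≪≫ M2.tensorIso (Iso.refl _) eO
  constructor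
  · have hp' := (CMReg18.projData k m).shortExact_tw hp (-1)
    refine Simple.van_right k hp' 0 (subsingleton_of_hom_eq_zero fun s => ?_)
      (CMReg18.van_iso k (M2.tensorIso eN (Iso.refl O') ≪≫ addIso (-1) (-1)).symm
        (Simple.subsingleton_twist (fun h => absurd h one_ne_zero) (Or.inl (by omega))))
    have hΩ : Subsingleton (Coh.HH (CohB1.ProjSpace m k) (Omega.sheaf (CohB1.ProjSpace.toSpec m k)) 0) :=
      CMReg18.van_iso k (ExtFil4.isoExtPow (Euler2.isExtPow_Om m k 1) (ExtFil4.isExtPow_one _)).some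
        (Euler2.van_zero m k (by omega) 1 0 (Or.inl zero_ne_one))
    let j : CohB1.tensorMod (P.obj (NullCorr.Om1 k n)) O' ≅
        Omega.sheaf (CohB1.ProjSpace.toSpec m k) ⊞ ∐ fun _ : Fin (n - m) => O' :=
      M2.tensorIso eA (Iso.refl O') ≪≫ M2.untwist (negIso (k := k) (n := m) 1) _ ≪≫ e
    rw [← cancel_mono j.hom, zero_comp]
    refine biprod.hom_ext _ _ ?_ ?_
    · rw [zero_comp]
      exact eq_zero_of_subsingleton hΩ _
    · rw [zero_comp]
      refine Eq.trans (Category.comp_id _).symm ?_
      rw [← P1Split.sum_proj_ι, Preadditive.comp_sum]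
      refine Finset.sum_eq_zero fun l _ => ?_
      rw [← Category.assoc]
      refine (congrArg (· ≫ _) (eq_zero_of_subsingleton (Simple.subsingleton_twist (fun _ => by omega) (Or.inl (by omega))) _)).trans zero_comp
  · let t : O' ⟶ P.obj (Omega.sheaf (CohB1.ProjSpace.toSpec n k)) :=
      Sigma.ι (fun _ : Fin (n - m) => O') ⟨0, by omega⟩ ≫ biprod.inr ≫ e.inv
    have ht : t ≠ 0 := fun h => by
      haveI : Mono (Sigma.ι (fun _ : Fin (n - m) => O') ⟨0, by omega⟩) :=
        SplitMono.mono (f := Sigma.ι (fun _ : Fin (n - m) => O') ⟨0, by omega⟩)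
          ⟨P1Split.proj _ _, P1Split.ι_proj_self _ _⟩
      have : Mono t := mono_comp _ _
      obtain ⟨m', hm'⟩ := exists_ne_zero_twist (k := k) (n := m) (a := -1) (b := -1) le_rfl
      exact hm' (by rw [← cancel_mono t, h, comp_zero, comp_zero])
    let q : Coh.structureModule (CohB1.ProjSpace m k) ⟶ P.obj (NullCorr.Om1 k n) :=
      (negIso' (k := k) (n := m) 1).inv ≫ M2.tensorMap t (𝟙 O1) ≫ eA.inv
    have hq : q ≠ 0 := iso_comp_ne_zero (f := M2.tensorMap t (𝟙 O1) ≫ eA.inv)
      (comp_iso_ne_zero (tensor_ne_zero (negIso 1) ht) eA.symm) (negIso' (k := k) (n := m) 1).symm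
    rw [← not_subsingleton_iff_nontrivial]
    intro hz
    haveI := hp.mono_f
    have h0 : q ≫ P.map (cokernel.π u) = 0 := eq_zero_of_subsingleton hz _
    have hl : hp.exact.lift q h0 = 0 :=
      hom_eq_zero_of_iso eN (Simple.subsingleton_twist (fun _ => by omega) (Or.inl (by omega))) _
    exact hq (by rw [← hp.exact.lift_f q h0, hl, zero_comp])

end Groth.Agent.RankTwo11.NullRestrict
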