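import Groth.Agent.Lib.Wedge2.Top
import Groth.Agent.Lib.ExtFil4.Main
import Groth.Agent.Lib.ThetaGrp19.Scalar

/-!
# Pairings on modules of rank two

An alternating pairing on `E` is a morphism out of its second exterior power; consequences for endomorphisms
(Cayley-Hamilton) and for maps to and from invertible modules.
-/

set_option autoImplicit false
set_option linter.style.haveILetI false
set_option linter.unusedSectionVars false
set_option backward.isDefEq.respectTransparency false
set_option backward.isDefEq.respectTransparency.types false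
set_option maxHeartbeats 800000
set_option synthInstance.maxHeartbeats 200000

universe u

open CategoryTheory Limits AlgebraicGeometry Opposite TopologicalSpace TensorProduct exteriorPower

noncomputable section

namespace Groth.Agent.RankTwo11

open KoszShH13 (appLin appLin_apply IsAffBasis isAffBasis_top exists_glue hom_ext_basis)

variable {X : Scheme.{u}} {E L G : X.Modules}

/-- The alternating map given by an alternating bilinear map. -/
def altOfBil {R M N : Type u} [CommRing R] [AddCommGroup M] [Module R M] [AddCommGroup N] [Module R N]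
    (b : M →ₗ[R] M →ₗ[R] N) (hb : ∀ x, b x x = 0) : M [⋀^Fin 2]→ₗ[R] N where
  toFun v := b (v 0) (v 1)
  map_update_add' v i x y := by
    fin_cases i <;> simp [Function.update_apply]
  map_update_smul' v i c x := by
    fin_cases i <;> simp [Function.update_apply]
  map_eq_zero_of_eq' v i j h hij := by
    have h01 : v 0 = v 1 := by
      fin_cases i <;> fin_cases j <;> first | exact absurd rfl hij | exact h | exact h.symm
    show b (v 0) (v 1) = 0
    rw [h01, hb]

theorem altOfBil_apply {R M N : Type u} [CommRing R] [AddCommGroup M] [Module R M] [AddCommGroup N] [Module R N]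
    (b : M →ₗ[R] M →ₗ[R] N) (hb : ∀ x, b x x = 0) (v : Fin 2 → M) : altOfBil b hb v = b (v 0) (v 1) := rfl

theorem upd {M : Type u} (x y z : M) : Function.update ![x, y] 1 z = ![x, z] := by
  funext i
  fin_cases i <;> simp [Function.update_apply]

/-- The data of a second exterior power. -/
structure Ext2 (E L : X.Modules) where
  φ : ∀ U : X.affineOpens, Γ(L, U.1) ≃ₗ[Γ(X, U.1)] ↥(⋀[Γ(X, U.1)]^2 Γ(E, U.1))
  hφ : ∀ (U V : X.affineOpens) (h : V.1 ≤ U.1) (e : Fin 2 → Γ(E, U.1)),
    M1.mres L h ((φ U).symm (ιMulti _ 2 e)) = (φ V).symm (ιMulti _ 2 fun j => M1.mres E h (e j))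

theorem nonempty_ext2 (h : ExtPow.IsExtPow 2 E L) : Nonempty (Ext2 E L) := by
  obtain ⟨φ, hφ⟩ := ExtFil4.exists_phi h
  exact ⟨⟨φ, hφ⟩⟩

variable (w : Ext2 E L)

/-- The wedge of two sections. -/
def Ext2.wed (U : X.affineOpens) : Γ(E, U.1) →ₗ[Γ(X, U.1)] Γ(E, U.1) →ₗ[Γ(X, U.1)] Γ(L, U.1) :=
  LinearMap.mk₂ Γ(X, U.1) (fun x y => (w.φ U).symm (ιMulti _ 2 ![x, y]))
    (fun x x' y => by
      rw [← map_add]; congr 1
      have := (ιMulti Γ(X, U.1) 2 (M := Γ(E, U.1))).map_vecCons_add ![y] x x'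
      exact this)
    (fun c x y => by
      rw [← map_smul]; congr 1
      exact (ιMulti Γ(X, U.1) 2 (M := Γ(E, U.1))).map_vecCons_smul ![y] c x)
    (fun x y y' => by
      rw [← map_add]; congr 1
      have h := (ιMulti Γ(X, U.1) 2 (M := Γ(E, U.1))).map_update_add ![x, y] 1 y y'
      simp only [upd] at h
      exact h)
    (fun c x y => by
      rw [← map_smul]; congr 1
      have h := (ιMulti Γ(X, U.1) 2 (M := Γ(E, U.1))).map_update_smul ![x, y] 1 c y
      simp only [upd] at h
      exact h)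

theorem Ext2.wed_apply (U : X.affineOpens) (x y : Γ(E, U.1)) :
    w.wed U x y = (w.φ U).symm (ιMulti _ 2 ![x, y]) := rfl

theorem Ext2.wed_self (U : X.affineOpens) (x : Γ(E, U.1)) : w.wed U x x = 0 := by
  rw [w.wed_apply, (ιMulti Γ(X, U.1) 2 (M := Γ(E, U.1))).map_eq_zero_of_eq ![x, x] (i := 0) (j := 1) rfl (by decide),
    map_zero]

theorem Ext2.mres_wed (U V : X.affineOpens) (h : V.1 ≤ U.1) (x y : Γ(E, U.1)) :
    M1.mres L h (w.wed U x y) = w.wed V (M1.mres E h x) (M1.mres E h y) := by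
  rw [w.wed_apply, w.wed_apply, w.hφ U V h]
  congr 2

include w in
/-- Alternating pairings are morphisms out of the exterior power. -/
theorem Ext2.exists_hom (b : ∀ U : X.affineOpens, Γ(E, U.1) →ₗ[Γ(X, U.1)] Γ(E, U.1) →ₗ[Γ(X, U.1)] Γ(G, U.1))
    (hb : ∀ U x, b U x x = 0)
    (hres : ∀ (U V : X.affineOpens) (h : V.1 ≤ U.1) x y,
      M1.mres G h (b U x y) = b V (M1.mres E h x) (M1.mres E h y)) :
    ∃ D : L ⟶ G, ∀ (U : X.affineOpens) (x y : Γ(E, U.1)), D.app U.1 (w.wed U x y) = b U x y := by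
  let f : ∀ U : X.affineOpens, Γ(L, U.1) →ₗ[Γ(X, U.1)] Γ(G, U.1) := fun U =>
    (exteriorPower.alternatingMapLinearEquiv (altOfBil (b U) (hb U))).comp (w.φ U).toLinearMap
  have hf : ∀ (U : X.affineOpens) (e : Fin 2 → Γ(E, U.1)),
      f U ((w.φ U).symm (ιMulti _ 2 e)) = b U (e 0) (e 1) := fun U e => by
    simp only [f, LinearMap.comp_apply, LinearEquiv.coe_coe, LinearEquiv.apply_symm_apply,
      exteriorPower.alternatingMapLinearEquiv_apply_ιMulti, altOfBil_apply]
  obtain ⟨D, hD⟩ := exists_glue (P := fun _ => True) isAffBasis_top (fun U _ => (f U).toAddMonoidHom)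
    (fun U _ c m => (f U).map_smul c m) (fun U _ V _ h m => by
      show M1.mres G h (f U m) = f V (M1.mres L h m)
      obtain ⟨z, rfl⟩ := (w.φ U).symm.surjective m
      have hz : z ∈ Submodule.span Γ(X, U.1) (Set.range (ιMulti Γ(X, U.1) 2 (M := Γ(E, U.1)))) := by
        rw [ιMulti_span]; trivial
      induction hz using Submodule.span_induction with
      | zero => simp
      | add a b _ _ ha hb => simp only [map_add, ha, hb]
      | smul c a _ ha => rw [map_smul, map_smul, M1.mres_smul, M1.mres_smul, ha, map_smul]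
      | mem a ha =>
        obtain ⟨e, rfl⟩ := ha
        rw [hf, w.hφ U V h, hf, hres])
  refine ⟨D, fun U x y => ?_⟩
  refine (hD U trivial _).trans ?_
  show f U _ = _
  rw [w.wed_apply, hf]
  rfl

/-- Affine opens on which `E` has a basis. -/
def Fr (E : X.Modules) (U : X.affineOpens) : Prop := ∃ e : Fin 2 → Γ(E, U.1), P1Split.IsBas E U.1 e

theorem isAffBasis_fr (hE : FlatMod.IsFinLocFreeOfRank 2 E) : IsAffBasis (Fr E) := fun W x hx => by
  obtain ⟨D, e, hxD, he⟩ := P1Split.exists_isBas_nhd hE x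
  obtain ⟨V, hV, hxV, hVD⟩ := exists_isAffineOpen_mem_and_subset (U := W ⊓ D) (x := x) ⟨hx, hxD⟩
  exact ⟨⟨V, hV⟩, ⟨_, he.mres (fun z hz => (hVD hz).2)⟩, hxV, fun z hz => (hVD hz).1⟩

theorem exists_basis {U : X.affineOpens} (hU : Fr E U) :
    ∃ b : Module.Basis (Fin 2) Γ(X, U.1) Γ(E, U.1), True := by
  obtain ⟨e, he⟩ := hU
  refine ⟨Module.Basis.ofEquivFun (LinearEquiv.ofBijective (Fintype.linearCombination Γ(X, U.1) e) ?_).symm, trivial⟩
  have h := he U.1 le_rfl
  simp only [M1.mres_id] at h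
  exact h

theorem Ext2.eq_zero_of_wed {U : X.affineOpens} (hU : Fr E U) (z : Γ(E, U.1)) (h : ∀ y, w.wed U z y = 0) :
    z = 0 := by
  obtain ⟨b, -⟩ := exists_basis hU
  have hinj : Function.Injective fun r : Γ(X, U.1) => r • w.wed U (b 0) (b 1) := fun r r' hr => by
    refine (Wedge2.bijective_smul_top b).1 ((w.φ U).symm.injective ?_)
    have e : ![b 0, b 1] = ⇑b := funext fun i => by fin_cases i <;> rfl
    simpa [w.wed_apply, e, map_smul] using hr
  have hsum : z = b.repr z 0 • b 0 + b.repr z 1 • b 1 := by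
    conv_lhs => rw [← b.sum_repr z, Fin.sum_univ_two]
  have h10 : w.wed U (b 1) (b 0) = -w.wed U (b 0) (b 1) := by
    have := w.wed_self U (b 0 + b 1)
    simp only [map_add, LinearMap.add_apply, w.wed_self, zero_add, add_zero] at this
    exact eq_neg_of_add_eq_zero_left this
  have h0 := h (b 1)
  have h1 := h (b 0)
  rw [hsum] at h0 h1
  simp only [map_add, map_smul, LinearMap.add_apply, LinearMap.smul_apply, w.wed_self, smul_zero, add_zero, zero_add,
    h10, smul_neg, neg_eq_zero] at h0 h1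
  have c0 : b.repr z 0 = 0 := hinj (by simpa using h0)
  have c1 : b.repr z 1 = 0 := hinj (by simpa using h1)
  rw [hsum, c0, c1, zero_smul, zero_smul, add_zero]

theorem mres_tsec (M N : X.Modules) {U V : X.Opens} (h : V ≤ U) (a : Γ(M, U)) (b : Γ(N, U)) :
    M1.mres (CohB1.tensorMod M N) h (M2.tsec M N a b) = M2.tsec M N (M1.mres M h a) (M1.mres N h b) :=
  M2.res_tsec h a b

theorem app_smul_lin {M N : X.Modules} (f : M ⟶ N) (U : X.Opens) :
    ∀ (r : Γ(X, U)) (m : Γ(M, U)), f.app U (r • m) = r • f.app U m := fun r m =>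
  Scheme.Modules.Hom.app_smul f r m

variable (hE : FlatMod.IsFinLocFreeOfRank 2 E) (hL : PicF.IsInvertible L)

include w hE hL in
/-- Cayley-Hamilton. -/
theorem Ext2.cayley_hamilton (ψ : E ⟶ E) : ∃ t d : Γ(X, ⊤),
    ψ ≫ ψ - ψ ≫ ThetaGrp19.smulHom E t + ThetaGrp19.smulHom E d = 0 := by
  obtain ⟨Λ, hΛ⟩ := w.exists_hom (fun U => (w.wed U).compl₁₂ (appLin ψ U.1) (appLin ψ U.1))
    (fun U x => by simp [LinearMap.compl₁₂_apply, w.wed_self])
    (fun U V h x y => by
      simp only [LinearMap.compl₁₂_apply, appLin_apply, w.mres_wed U V h, M1.map_app_eq])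
  obtain ⟨T, hT⟩ := w.exists_hom
    (fun U => (w.wed U).compl₁₂ (appLin ψ U.1) LinearMap.id + (w.wed U).compl₁₂ LinearMap.id (appLin ψ U.1))
    (fun U x => by
      have := w.wed_self U (appLin ψ U.1 x + x)
      simp only [map_add, LinearMap.add_apply, w.wed_self, zero_add, add_zero] at this
      simp only [LinearMap.add_apply, LinearMap.compl₁₂_apply, LinearMap.id_apply]
      rw [add_comm]; exact this)
    (fun U V h x y => by
      simp only [LinearMap.add_apply, LinearMap.compl₁₂_apply, LinearMap.id_apply, appLin_apply, map_add,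
        w.mres_wed U V h, M1.map_app_eq])
  obtain ⟨d, rfl, -⟩ := ThetaGrp19.existsUnique_smulHom hL Λ
  obtain ⟨t, rfl, -⟩ := ThetaGrp19.existsUnique_smulHom hL T
  refine ⟨t, d, hom_ext_basis (isAffBasis_fr hE) fun U hU x => ?_⟩
  refine w.eq_zero_of_wed hU _ fun y => ?_
  let p : Γ(X, U.1) := M1.ores le_top t
  let q : Γ(X, U.1) := M1.ores le_top d
  let z : Γ(E, U.1) := ψ.app U.1 x
  have h1 : p • w.wed U z y = w.wed U (ψ.app U.1 z) y + w.wed U z (ψ.app U.1 y) := by
    have := hT U z y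
    simpa [ThetaGrp19.smulHom_app, appLin_apply, p, q, z] using this
  have h2 : q • w.wed U x y = w.wed U z (ψ.app U.1 y) := by
    have := hΛ U x y
    simpa [ThetaGrp19.smulHom_app, appLin_apply, p, q, z] using this
  show w.wed U (ψ.app U.1 z - p • z + q • x) y = 0
  rw [map_add, map_sub, map_smul, map_smul, LinearMap.add_apply, LinearMap.sub_apply, LinearMap.smul_apply,
    LinearMap.smul_apply, h1, h2]
  abel

include w hE in
/-- A map to an invertible module gives a map from the determinant. -/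
theorem Ext2.exists_dual {M : X.Modules} (hM : Coh.IsQCoh M) (f : E ⟶ M) (hf : f ≠ 0) :
    ∃ D : L ⟶ CohB1.tensorMod E M, D ≠ 0 := by
  let b : ∀ U : X.affineOpens, Γ(E, U.1) →ₗ[Γ(X, U.1)] Γ(E, U.1) →ₗ[Γ(X, U.1)] Γ(CohB1.tensorMod E M, U.1) :=
    fun U =>
    let β := ((TensorProduct.mk Γ(X, U.1) Γ(E, U.1) Γ(M, U.1)).compl₁₂ LinearMap.id (appLin f U.1)).compr₂
      (CBC10.secTensor E M)
    β.flip - β
  have hbv : ∀ U x y, b U x y = M2.tsec E M y (f.app U.1 x) - M2.tsec E M x (f.app U.1 y) := fun U x y => by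
    simp only [b, LinearMap.sub_apply, LinearMap.flip_apply, LinearMap.compr₂_apply, LinearMap.compl₁₂_apply,
      TensorProduct.mk_apply, LinearMap.id_apply, appLin_apply, CBC10.secTensor_tmul]
  obtain ⟨D, hD⟩ := w.exists_hom b (fun U x => by rw [hbv, sub_self]) (fun U V h x y => by
    rw [hbv, hbv, map_sub, mres_tsec, mres_tsec, M1.map_app_eq, M1.map_app_eq])
  refine ⟨D, fun h0 => hf (hom_ext_basis (isAffBasis_fr hE) fun U hU m => ?_)⟩
  obtain ⟨e, -⟩ := exists_basis hU
  have h : ∀ x y : Γ(E, U.1), y ⊗ₜ[Γ(X, U.1)] appLin f U.1 x = x ⊗ₜ[Γ(X, U.1)] appLin f U.1 y := fun x y => by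
    refine (CBC10.bijective_secTensor E M (M2.isQCoh_of_isFinLocFree (M2.isFinLocFree_of_ofRank hE)) hM U.2).1 ?_
    rw [CBC10.secTensor_tmul, CBC10.secTensor_tmul]
    refine sub_eq_zero.1 ?_
    simp only [appLin_apply]
    rw [← show b U x y = M2.tsec E M y (f.app U.1 x) - M2.tsec E M x (f.app U.1 y) from hbv U x y, ← hD U x y, h0]
    rfl
  have key : ∀ i j : Fin 2, i ≠ j → appLin f U.1 (e i) = 0 := fun i j hij => by
    have := congrArg ((TensorProduct.lid Γ(X, U.1) Γ(M, U.1)).toLinearMap.comp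
      (TensorProduct.map (e.coord j) LinearMap.id)) (h (e i) (e j))
    simpa [hij, Finsupp.single_apply, Ne.symm hij] using this
  have : appLin f U.1 = 0 := e.ext fun i => by
    fin_cases i
    · exact key 0 1 (by decide)
    · exact key 1 0 (by decide)
  exact LinearMap.congr_fun this m

include w hE in
/-- A map from an invertible module gives a map to the determinant. -/
theorem Ext2.exists_codual {M : X.Modules} (hM : Coh.IsQCoh M) (s : M ⟶ E) (hs : s ≠ 0) :
    ∃ g : CohB1.tensorMod M E ⟶ L, g ≠ 0 := by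
  have hEq := M2.isQCoh_of_isFinLocFree (M2.isFinLocFree_of_ofRank hE)
  let σ : ∀ U : X.affineOpens, Γ(M, U.1) ⊗[Γ(X, U.1)] Γ(E, U.1) ≃ₗ[Γ(X, U.1)] Γ(CohB1.tensorMod M E, U.1) :=
    fun U => LinearEquiv.ofBijective _ (CBC10.bijective_secTensor M E hM hEq U.2)
  let f : ∀ U : X.affineOpens, Γ(CohB1.tensorMod M E, U.1) →ₗ[Γ(X, U.1)] Γ(L, U.1) := fun U =>
    (TensorProduct.lift ((w.wed U).comp (appLin s U.1))).comp (σ U).symm.toLinearMap
  have hf : ∀ (U : X.affineOpens) m x, f U (M2.tsec M E m x) = w.wed U (s.app U.1 m) x := fun U m x => by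
    have e : (σ U).symm (M2.tsec M E m x) = m ⊗ₜ x :=
      (σ U).symm_apply_eq.2 (CBC10.secTensor_tmul M E m x).symm
    simp only [f, LinearMap.comp_apply, LinearEquiv.coe_coe, e, TensorProduct.lift.tmul, appLin_apply]
  obtain ⟨g, hg⟩ := exists_glue (P := fun _ => True) isAffBasis_top (fun U _ => (f U).toAddMonoidHom)
    (fun U _ c m => (f U).map_smul c m) (fun U _ V _ h m => by
      show M1.mres L h (f U m) = f V (M1.mres _ h m)
      obtain ⟨z, rfl⟩ := (σ U).surjective m
      induction z using TensorProduct.induction_on with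
      | zero => simp
      | add a b ha hb => simp only [map_add, ha, hb]
      | tmul a x =>
        show M1.mres L h (f U (CBC10.secTensor M E (a ⊗ₜ x))) = f V (M1.mres _ h (CBC10.secTensor M E (a ⊗ₜ x)))
        rw [CBC10.secTensor_tmul, mres_tsec, hf, hf, w.mres_wed U V h, M1.map_app_eq])
  refine ⟨g, fun h0 => hs (hom_ext_basis (isAffBasis_fr hE) fun U hU m => ?_)⟩
  refine w.eq_zero_of_wed hU _ fun y => ?_
  refine (hf U m y).symm.trans ((hg U trivial _).symm.trans ?_)
  rw [h0]
  rfl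

end Groth.Agent.RankTwo11
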