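import Groth.Agent.Lib.RankTwo11.LineVanish
import Groth.Agent.Lib.RankTwo11.CompleteInt
import Groth.Agent.Lib.Cyc26.LinSub
import Groth.Agent.Lib.RegSeqExt12.Scalar
import Groth.Agent.Lib.Nodal27.Point
import Groth.Agent.Lib.DVRTriv4.Seq

/-!
# Pencils of lines through a point and the maps they induce on cohomology
-/

set_option autoImplicit false
set_option linter.style.haveILetI false
set_option linter.unusedSectionVars false
set_option backward.isDefEq.respectTransparency false
set_option backward.isDefEq.respectTransparency.types false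
set_option maxHeartbeats 1000000

universe u

open CategoryTheory CategoryTheory.Limits AlgebraicGeometry TopologicalSpace Opposite

noncomputable section

namespace Groth.Agent.RankTwo11.Pencil

open Groth.Agent

/-- No pencil of isomorphisms. -/
theorem subsingleton_of_pencil {k V W : Type*} [Field k] [IsAlgClosed k] [AddCommGroup V] [Module k V]
    [Module.Finite k V] [AddCommGroup W] [Module k W] (A B : V →ₗ[k] W) (hB : Function.Bijective B)
    (hA : ∀ a : k, Function.Injective (A + a • B)) : Subsingleton V := by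
  rcases subsingleton_or_nontrivial V with h | h
  · exact h
  exfalso
  let e := LinearEquiv.ofBijective B hB
  obtain ⟨a, ha⟩ := Module.End.exists_eigenvalue (e.symm.toLinearMap.comp A : Module.End k V)
  obtain ⟨v, hv⟩ := ha.exists_hasEigenvector
  have h1 : A v = a • B v := by
    have h2 := congrArg e hv.apply_eq_smul
    rw [map_smul] at h2
    exact (e.apply_symm_apply (A v)).symm.trans h2
  refine hv.2 (hA (-a) ?_)
  rw [LinearMap.add_apply, LinearMap.smul_apply, h1, neg_smul, add_neg_cancel, map_zero]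

section Factor

variable {X : Scheme.{u}} [IsIntegral X] {L D : X.Modules}

/-- The map from the inverse bundle factors through the ideal. -/
theorem exists_factor (hL : PicF.IsInvertible L) (hD : PicF.IsInvertible D)
    (ε : CohB1.tensorMod L D ≅ Coh.structureModule X) (s : Coh.structureModule X ⟶ L) (hs : s ≠ 0) :
    ∃ ψ : D ⟶ ClSub.idealMod (PicF2.zeroScheme L s),
      ψ ≫ ClSub.idealModι (PicF2.zeroScheme L s) = (M2.tensorLUnit D).inv ≫ M2.tensorMap s (𝟙 D) ≫ ε.hom := by
  let I := PicF2.zeroScheme L s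
  let φ : D ⟶ Coh.structureModule X := (M2.tensorLUnit D).inv ≫ M2.tensorMap s (𝟙 D) ≫ ε.hom
  suffices h0 : φ ≫ ClSub.toSubscheme I = 0 from ⟨kernel.lift _ φ h0, kernel.lift_ι _ _ _⟩
  have hchart : ∀ x : X, ∃ (U : X.affineOpens) (e' : Γ(D, U.1)), x ∈ U.1 ∧ M2.IsGenerator e' ∧
      (φ ≫ ClSub.toSubscheme I).app U.1 e' = 0 := fun x => by
    obtain ⟨U, e, e', a, hx, he, he', hsv, -, hI⟩ := IrrDiv13.exists_chart hL hD s hs x
    refine ⟨U, e', hx, he', ?_⟩
    have hm : (show Γ(X, U.1) from φ.app U.1 e') ∈ I.ideal U := by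
      have hu : (M2.tensorLUnit D).inv.app U.1 e' = M2.tsec _ D (M1.one U.1) e' := by
        apply (ConcreteCategory.bijective_of_isIso ((M2.tensorLUnit D).hom.app U.1)).1
        refine Eq.trans ?_ (CurveCoh17.tensorLUnit_tsec (M := D) (1 : Γ(X, U.1)) e').symm
        rw [one_smul]
        exact congrArg (fun ψ => ψ.app U.1 e') (M2.tensorLUnit D).inv_hom_id
      show (show Γ(X, U.1) from ε.hom.app U.1 ((M2.tensorMap s (𝟙 D)).app U.1 ((M2.tensorLUnit D).inv.app U.1 e'))) ∈ _
      rw [hu, M2.tensorMap_tsec, show s.app U.1 (M1.one U.1) = MeroLib.sval L s U.1 from rfl, hsv, M2.tsec_smul_left,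
        Scheme.Modules.Hom.app_smul, hI]
      exact Ideal.mem_span_singleton'.2 ⟨_, mul_comm _ _⟩
    rw [← I.ker_subschemeι, Scheme.Hom.ker_apply] at hm
    show I.subschemeι.app U.1 (show Γ(X, U.1) from φ.app U.1 e') = 0
    exact RingHom.mem_ker.mp hm
  refine Scheme.Modules.hom_ext _ _ fun W => ?_
  ext b
  choose U e' hxU he' h0 using hchart
  choose V hV hxV hVle using fun x : W => exists_isAffineOpen_mem_and_subset (U := W ⊓ (U x.1).1) (x := (x : X)) ⟨x.2, hxU x.1⟩
  refine M1.modules_eq_of_locally_eq _ W V (fun x w hw => (hVle x hw).1)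
    (fun x hx => Opens.mem_iSup.2 ⟨⟨x, hx⟩, hxV ⟨x, hx⟩⟩) _ _ fun x => ?_
  have hVW : V x ≤ W := fun w hw => (hVle x hw).1
  have hVU : V x ≤ (U x.1).1 := fun w hw => (hVle x hw).2
  obtain ⟨r, hr⟩ := Amp.exists_coeff (Amp.isGenerator_res hVU (he' x.1)) (M2.res D hVW b)
  refine ((M1.map_app_eq (φ ≫ ClSub.toSubscheme I) hVW b).symm.trans ?_).trans (map_zero _).symm
  show (φ ≫ ClSub.toSubscheme I).app (V x) (M2.res D hVW b) = 0
  rw [← hr, Scheme.Modules.Hom.app_smul,
    show (φ ≫ ClSub.toSubscheme I).app (V x) (M2.res D hVU (e' x.1)) = _ from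
      M1.map_app_eq (φ ≫ ClSub.toSubscheme I) hVU (e' x.1), h0 x.1]
  exact (congrArg (r • ·) (map_zero _)).trans (smul_zero r)

end Factor

variable {k : Type u} [Field k] {n : ℕ}

theorem lin_value (c : Fin (n + 1) → k) :
    (Linear.lin c).app ⊤ (M1.one ⊤) = ∑ l, Simple.sc k n (c l) • Simple.gX k n l :=
  M1.secHom_app_one _

theorem lin_add (c d : Fin (n + 1) → k) : Linear.lin (c + d) = Linear.lin c + Linear.lin d := M1.unit_hom_ext (by
  rw [Scheme.Modules.Hom.add_app]
  show _ = (Linear.lin c).app ⊤ (M1.one ⊤) + (Linear.lin d).app ⊤ (M1.one ⊤)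
  rw [lin_value, lin_value, lin_value, ← Finset.sum_add_distrib]
  refine Finset.sum_congr rfl fun l _ => ?_
  rw [← add_smul, Pi.add_apply]
  exact congrArg (· • _) (map_add (Coh.toGlobal (CohB1.ProjSpace.toSpec n k)) _ _))

theorem lin_smul (a : k) (c : Fin (n + 1) → k) :
    Linear.lin (a • c) = Linear.lin c ≫ ThetaGrp19.smulHom _ (Simple.sc k n a) := M1.unit_hom_ext (by
  rw [Scheme.Modules.Hom.comp_app, CategoryTheory.comp_apply, lin_value, lin_value, ThetaGrp19.smulHom_app,
    Finset.smul_sum]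
  refine Finset.sum_congr rfl fun l _ => ?_
  rw [← mul_smul, Pi.smul_apply, smul_eq_mul]
  exact congrArg (· • _) ((map_mul (Coh.toGlobal (CohB1.ProjSpace.toSpec n k)) _ _).trans (by simp [M1.ores, Simple.sc])))

/-- The form as a map `O(-1) ⟶ O`. -/
def ff (c : Fin (n + 1) → k) :
    _root_.Twist.twistProjSpace n k (-1) ⟶ Coh.structureModule (CohB1.ProjSpace n k) :=
  (M2.tensorLUnit (_root_.Twist.twistProjSpace n k (-1))).inv ≫
    (M2.tensorR (_root_.Twist.twistProjSpace n k (-1))).map (Linear.lin c) ≫ (negIso (k := k) (n := n) 1).hom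

/-- Multiplication by the form. -/
def mu (G : (CohB1.ProjSpace n k).Modules) (c : Fin (n + 1) → k) :
    CohB1.tensorMod G (_root_.Twist.twistProjSpace n k (-1)) ⟶ G :=
  (M2.tensorComm _ _).hom ≫ (M2.tensorR G).map (ff c) ≫ (M2.tensorLUnit G).hom

theorem ff_ne_zero {c : Fin (n + 1) → k} (hc : c ≠ 0) : ff c ≠ 0 := fun h => by
  rw [ff, ← cancel_epi (M2.tensorLUnit _).hom, Iso.hom_inv_id_assoc, comp_zero,
    ← cancel_mono (negIso (k := k) (n := n) 1).inv, Category.assoc, Iso.hom_inv_id, Category.comp_id, zero_comp] at h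
  exact hc (Hyper.lin_eq_zero (ES11.tensorR_map_injective (negIso' (k := k) (n := n) 1)
    (h.trans (Functor.map_zero (M2.tensorR _) _ _).symm)))

theorem mu_add (G : (CohB1.ProjSpace n k).Modules) (c d : Fin (n + 1) → k) : mu G (c + d) = mu G c + mu G d := by
  simp only [mu, ff, lin_add, Functor.map_add, Preadditive.add_comp, Preadditive.comp_add]

theorem mu_smul (G : (CohB1.ProjSpace n k).Modules) (a : k) (c : Fin (n + 1) → k) :
    mu G (a • c) = mu G c ≫ ThetaGrp19.smulHom G (Simple.sc k n a) := by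
  have h : ∀ (N M : (CohB1.ProjSpace n k).Modules) (x : Γ(CohB1.ProjSpace n k, ⊤)),
      (M2.tensorR N).map (ThetaGrp19.smulHom M x) = ThetaGrp19.smulHom (CohB1.tensorMod M N) x :=
    fun N M x => RegSeqExt12.tensorMap_smulHom_left (c := x) M N
  have hf : ff (a • c) = ff c ≫ ThetaGrp19.smulHom _ (Simple.sc k n a) := by
    simp only [ff, lin_smul, Functor.map_comp, h, Category.assoc]
    exact congrArg (_ ≫ ·) (congrArg (_ ≫ ·) (ThetaGrp19.smulHom_naturality _ _))
  simp only [mu, hf, Functor.map_comp, h, Category.assoc]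
  exact congrArg (_ ≫ ·) (congrArg (_ ≫ ·) (ThetaGrp19.smulHom_naturality _ _))

theorem hmap_smulHom (M : (CohB1.ProjSpace n k).Modules) (a : k) (q : ℕ)
    (x : Coh.HH (CohB1.ProjSpace n k) M q) :
    CurveCoh17.hmap k (ThetaGrp19.smulHom M (Simple.sc k n a)) q x = a • x := by
  rw [show ThetaGrp19.smulHom M (Simple.sc k n a) = Formal.smulMod k M a from
    (SheafOfModules.toSheaf _).map_injective (RankTwo11.smulHom_toSheaf M _)]
  exact DVRTriv4.hmap_smulMod k M a q x

/-- A nonzero form cuts out a projective space over `k`, and its multiplication map is controlled by it. -/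
theorem mu_data {m : ℕ} (c : Fin (m + 1 + 1) → k) (hc : c ≠ 0) :
    ∃ (j : CohB1.ProjSpace m k ⟶ CohB1.ProjSpace (m + 1) k) (_ : IsClosedImmersion j),
      j ≫ CohB1.ProjSpace.toSpec (m + 1) k = CohB1.ProjSpace.toSpec m k ∧
      Nonempty ((Scheme.Modules.pullback j).obj (_root_.Twist.twistProjSpace (m + 1) k 1) ≅ _root_.Twist.twistProjSpace m k 1) ∧
      Set.range j.base = ((PicF2.zeroScheme _ (Linear.lin c)).support : Set (CohB1.ProjSpace (m + 1) k)) ∧
      ∀ G : (CohB1.ProjSpace (m + 1) k).Modules, FlatMod.IsFinLocFree G → ∀ q : ℕ,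
        (Subsingleton (Coh.HH _ ((Scheme.Modules.pullback j).obj G) q) →
          Function.Surjective (CurveCoh17.hmap k (mu G c) q)) ∧
        (Subsingleton (Coh.HH _ ((Scheme.Modules.pullback j).obj G) q) →
          Function.Injective (CurveCoh17.hmap k (mu G c) (q + 1))) := by
  classical
  let P := CohB1.ProjSpace (m + 1) k
  let s := Linear.lin c
  have hs : s ≠ 0 := fun h => hc (Hyper.lin_eq_zero h)
  have hs' : (show Coh.structureModule (Proj (CohB1.polyGrading (m + 1) k)) ⟶
      _root_.Twist.twist (CohB1.polyGrading (m + 1) k) 1 from s) ≠ 0 := hs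
  obtain ⟨ℓ, hℓ, hℓ0, hval⟩ := Hyperplane18.exists_linearForm k (m + 1) _ hs'
  obtain ⟨φ, hsurj, hC, hker0, hφ⟩ := Cyc26Lin.exists_linMap (c := 1) (m := m) (n := m + 1)
    (fun _ : Fin 1 => (⟨ℓ, hℓ⟩ : LefPen.Form (m + 1) k 1))
    (linearIndependent_unique_iff.2 fun h => hℓ0 (congrArg Subtype.val h)) (add_comm 1 m)
  have hker : ∀ a, φ a = 0 ↔ ℓ ∣ a := fun a => by
    rw [hker0, Set.range_const, Ideal.mem_span_singleton]
  haveI : IsClosedImmersion (Proj.map φ hφ) := by
    refine Groth.Agent.EGA2.map_of_forall_away φ hφ @IsClosedImmersion fun d hd t ht => ?_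
    refine IsClosedImmersion.spec_of_surjective _ (Groth.Agent.EGA2.away_map_surjective φ ?_ hd ht)
    intro m' hm' b hb
    obtain ⟨a, rfl⟩ := hsurj b
    refine ⟨(DirectSum.decompose (CohB1.polyGrading (m + 1) k) a m' : MvPolynomial (Fin (m + 1 + 1)) k),
      SetLike.coe_mem _, ?_⟩
    rw [GradedRingHom.map_directSumDecompose, DirectSum.decompose_of_mem_same _ hb]
  let j : CohB1.ProjSpace m k ⟶ CohB1.ProjSpace (m + 1) k := Proj.map φ hφ
  haveI : IsClosedImmersion j := ‹IsClosedImmersion (Proj.map φ hφ)›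
  let I : P.IdealSheafData := PicF2.zeroScheme _ s
  have hz : j.ker = I := Hyperplane18.ker_eq_zeroScheme k (m + 1) hℓ φ hφ hker _ hℓ0 hval
  have hjs : j ≫ CohB1.ProjSpace.toSpec (m + 1) k = CohB1.ProjSpace.toSpec m k := by
    show Proj.map φ hφ ≫ Proj.toSpecZero _ ≫ _ = Proj.toSpecZero _ ≫ _
    rw [reassoc_of% (RelProj11.map_toSpecZero (ψ := φ) hφ), ← Spec.map_comp]
    congr 2
    refine CommRingCat.hom_ext (RingHom.ext fun r => Subtype.ext ?_)
    exact hC r
  haveI := IsClosedImmersion.isIso_lift I.subschemeι j ((Scheme.IdealSheafData.ker_subschemeι _).trans hz.symm)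
  let e := asIso (IsClosedImmersion.lift I.subschemeι j ((Scheme.IdealSheafData.ker_subschemeι _).trans hz.symm).le)
  have he : e.hom ≫ I.subschemeι = j := IsClosedImmersion.lift_fac I.subschemeι _ _
  refine ⟨j, inferInstance, hjs, ⟨(Hyperplane18.nonempty_pullback_twist_one φ hφ
    (Groth.Agent.Twist.iSup_basicOpen_one (m + 1) k)).some⟩, ?_, fun G hG q => ?_⟩
  · show Set.range j.base = (I.support : Set P)
    rw [← he, ← I.range_subschemeι]
    exact (TopCat.homeoOfIso (Scheme.forgetToTop.mapIso e)).surjective.range_comp I.subschemeι.base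
  haveI : IsIntegral P := RegExt.isIntegral_projSpace (m + 1) k
  have hO1 : PicF.IsInvertible (_root_.Twist.twistProjSpace (m + 1) k 1) := isInvertible_O 1
  have hO1' : PicF.IsInvertible (_root_.Twist.twistProjSpace (m + 1) k (-1)) := isInvertible_O (-1)
  obtain ⟨eI⟩ := IrrDiv13.nonempty_inverse_iso_zeroScheme hO1 hO1' (negIso 1) s hs
  obtain ⟨ψ, hψ⟩ := exists_factor hO1 hO1' (negIso 1) s hs
  have hψ' : ψ ≫ ClSub.idealModι I = ff c := hψ
  obtain ⟨a, ha⟩ := NullCorr.exists_const (ψ ≫ eI.inv)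
  have ha0 : a ≠ 0 := by
    rintro rfl
    refine ff_ne_zero hc ?_
    have : ψ ≫ eI.inv = 0 := ha.trans ((congrArg _ (map_zero (Coh.toGlobal (CohB1.ProjSpace.toSpec (m + 1) k)))).trans
      (Linear.smulHom_zero _))
    rw [← hψ', ← Category.comp_id ψ, ← eI.inv_hom_id, reassoc_of% this]
    simp
  haveI : IsIso (ψ ≫ eI.inv) := by rw [ha]; exact CompleteInt.smulHom_isIso _ ha0
  haveI : IsIso ψ := IsIso.of_isIso_comp_right ψ eI.inv
  have hGq : Coh.IsQCoh G := M2.isQCoh_of_isFinLocFree hG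
  let S := (ShortComplex.mk (ClSub.idealModι I) (ClSub.toSubscheme I) (kernel.condition _)).map (M2.tensorR G)
  have hS : S.ShortExact := CurveCoh17.shortExact_tensorR (M2.shortExact_idealMod I) G fun x =>
    haveI : Module.Free _ (G.presheaf.stalk x) := ((M1.isFinLocFree_iff _).1 hG).2 x
    Module.Flat.of_free
  let A₀ : CohB1.tensorMod G (_root_.Twist.twistProjSpace (m + 1) k (-1)) ≅ S.X₁ :=
    M2.tensorComm _ _ ≪≫ (M2.tensorR G).mapIso (asIso ψ)
  let B₀ : S.X₂ ≅ G := M2.tensorLUnit G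
  have hmu : mu G c = A₀.hom ≫ S.f ≫ B₀.hom := by
    show _ = ((M2.tensorComm _ _).hom ≫ (M2.tensorR G).map ψ) ≫ (M2.tensorR G).map (ClSub.idealModι I) ≫ _
    rw [Category.assoc, ← Functor.map_comp_assoc, hψ']
    rfl
  have hcomp : ∀ q, ⇑(CurveCoh17.hmap k (mu G c) q) = ⇑(CurveCoh17.hequiv k B₀ q) ∘
      ⇑(CurveCoh17.hmap k S.f q) ∘ ⇑(CurveCoh17.hequiv k A₀ q) := fun q => funext fun x => by
    rw [hmu, CurveCoh17.hmap_comp, CurveCoh17.hmap_comp]
    rfl
  have hX3 : Subsingleton (Coh.HH _ ((Scheme.Modules.pullback j).obj G) q) → Subsingleton (Coh.HH _ S.X₃ q) := fun h => by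
    haveI hOq : (Coh.structureModule I.subscheme).IsQuasicoherent := M1.isQCoh_structureModule I.subscheme
    let GZ := (Scheme.Modules.pullback I.subschemeι).obj G
    obtain ⟨eQ⟩ := CohFound.nonempty_push_tensor_iso I.subschemeι (Coh.structureModule I.subscheme) hOq G hGq
    let M := CohB1.tensorMod (Coh.structureModule I.subscheme) GZ
    have hMq : Coh.IsQCoh M := M2.isQCoh_tensor hOq (M1.isQCoh_pullback _ hGq)
    haveI : M.IsQuasicoherent := hMq
    letI : I.subscheme.Over (Spec (CommRingCat.of k)) := ⟨I.subschemeι ≫ CohB1.ProjSpace.toSpec (m + 1) k⟩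
    obtain ⟨e1⟩ := CurveCoh17.nonempty_hequiv_push k I.subschemeι rfl M q
    let N := (Scheme.Modules.pullback e.hom).obj M
    haveI : IsIso ((Scheme.Modules.pullbackPushforwardAdjunction e.hom).unit.app M) :=
      M1.isIso_unit_of_ker_smul e.hom M hMq fun U a ha s => by
        rw [e.hom.ker_eq_bot_of_isIso] at ha
        rw [show a = 0 by simpa using ha, zero_smul]
    haveI : N.IsQuasicoherent := M1.isQCoh_pullback e.hom hMq
    let e2 := CurveCoh17.hequiv k (asIso ((Scheme.Modules.pullbackPushforwardAdjunction e.hom).unit.app M)) q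
    let eN : N ≅ (Scheme.Modules.pullback j).obj G :=
      (Scheme.Modules.pullback e.hom).mapIso (M2.tensorLUnit GZ) ≪≫
        (Scheme.Modules.pullbackComp e.hom I.subschemeι).app G ≪≫ (Scheme.Modules.pullbackCongr he).app G
    let e0 := CurveCoh17.hequiv k eQ.symm q
    refine (e0.toEquiv.subsingleton_congr).2 ((e1.toEquiv.subsingleton_congr).2
      ((e2.toEquiv.subsingleton_congr).2 ?_))
    have hφ' : e.hom ≫ (I.subscheme ↘ Spec (CommRingCat.of k)) = CohB1.ProjSpace m k ↘ Spec (CommRingCat.of k) :=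
      ((Category.assoc _ _ _).symm.trans (congrArg (· ≫ _) he)).trans hjs
    obtain ⟨e3⟩ := CurveCoh17.nonempty_hequiv_push k e.hom hφ' N q
    exact (e3.toEquiv.subsingleton_congr).2 ((CurveCoh17.hequiv k eN q).toEquiv.subsingleton_congr.2 h)
  refine ⟨fun h => ?_, fun h => ?_⟩
  · haveI := hX3 h
    rw [hcomp]
    refine (LinearEquiv.surjective _).comp (Function.Surjective.comp (fun x => ?_) (LinearEquiv.surjective _))
    exact (CurveCoh17.exact_hmap_hmap k hS q x).1 (Subsingleton.elim _ _)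
  · haveI := hX3 h
    rw [hcomp]
    refine (LinearEquiv.injective _).comp (Function.Injective.comp ?_ (LinearEquiv.injective _))
    refine (injective_iff_map_eq_zero _).2 fun x hx => ?_
    obtain ⟨y, hy⟩ := (CurveCoh17.exact_hdelta_hmap k hS q x).1 hx
    rw [← hy, Subsingleton.elim y 0, map_zero]

/-- The coordinates of a closed point: forms orthogonal to them vanish there. -/
theorem exists_coords [IsAlgClosed k] (x : CohB1.ProjSpace n k) (hx : IsClosed ({x} : Set (CohB1.ProjSpace n k))) :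
    ∃ z : Fin (n + 1) → k, z ≠ 0 ∧ ∀ c : Fin (n + 1) → k, c ≠ 0 → ∑ l, c l * z l = 0 →
      x ∈ ((PicF2.zeroScheme _ (Linear.lin c)).support : Set (CohB1.ProjSpace n k)) := by
  classical
  haveI : IsIntegral (CohB1.ProjSpace n k) := RegExt.isIntegral_projSpace n k
  haveI := CMReg18.isProper_projSpace k (n := n)
  haveI : LocallyOfFiniteType (CohB1.ProjSpace.toSpec n k) :=
    inferInstanceAs (LocallyOfFiniteType (CohB1.ProjSpace n k ↘ Spec (CommRingCat.of k)))
  obtain ⟨i, hi⟩ := Opens.mem_iSup.1 ((ProjSpace.iSup_basicOpen n k).ge (Set.mem_univ x))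
  let D : (CohB1.ProjSpace n k).Opens := Proj.basicOpen (CohB1.polyGrading n k) (MvPolynomial.X i)
  let L := _root_.Twist.twistProjSpace n k 1
  let g := M1.mres L (le_top : D ≤ ⊤) (Simple.gX k n i)
  have hg : Twist.IsGen L D g := fun V hV => by
    simp only [g, M1.mres_mres]
    exact Twist.bijective_smul_gsec (CohB1.polyGrading n k) ⟨MvPolynomial.X i, ProjSpace.X_mem' n k i⟩ V hV
  have hr : ∀ l, ∃ r : Γ(CohB1.ProjSpace n k, D), r • g = M1.mres L (le_top : D ≤ ⊤) (Simple.gX k n l) := fun l => by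
    obtain ⟨r, hr⟩ := (hg D le_rfl).2 (M1.mres L (le_top : D ≤ ⊤) (Simple.gX k n l))
    exact ⟨r, by simpa [M1.mres_id] using hr⟩
  choose r hr using hr
  let R := (CohB1.ProjSpace n k).presheaf.stalk x
  let t : Fin (n + 1) → R := fun l => (CohB1.ProjSpace n k).presheaf.germ D x hi (r l)
  have hti : t i = 1 := by
    have : r i = 1 := (hg D le_rfl).1 (by
      simp only [M1.mres_id, hr, one_smul]
      rfl)
    simp [t, this]
  choose z hz using fun l => Nodal27.exists_sub_mem_maximal (CohB1.ProjSpace.toSpec n k) hx (t l)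
  refine ⟨z, fun h0 => ?_, fun c hc hcz => ?_⟩
  · have h := hz i
    rw [h0, hti, Pi.zero_apply, map_zero, zero_sub, neg_mem_iff] at h
    exact (IsLocalRing.maximalIdeal.isMaximal R).ne_top ((Ideal.eq_top_iff_one _).2 h)
  let gx : L.presheaf.stalk x := L.presheaf.germ D x hi g
  have hgx : Function.Bijective fun a : R => a • gx := hg.stalk hi
  let u : R := ∑ l, RegSmooth17.toStalk (CohB1.ProjSpace.toSpec n k) x (c l) * t l
  have hum : u ∈ IsLocalRing.maximalIdeal R := by
    have h2 : ∑ l, RegSmooth17.toStalk (CohB1.ProjSpace.toSpec n k) x (c l) *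
        RegSmooth17.toStalk (CohB1.ProjSpace.toSpec n k) x (z l) = 0 := by
      simp only [← map_mul, ← map_sum, hcz, map_zero]
    have h1 : u = -∑ l, RegSmooth17.toStalk (CohB1.ProjSpace.toSpec n k) x (c l) *
        (RegSmooth17.toStalk (CohB1.ProjSpace.toSpec n k) x (z l) - t l) := by
      simp only [mul_sub, Finset.sum_sub_distrib, h2, zero_sub, neg_neg]
      rfl
    rw [h1]
    exact neg_mem (Ideal.sum_mem _ fun l _ => Ideal.mul_mem_left _ _ (hz l))
  let s := Linear.lin c
  have hs : s ≠ 0 := fun h => hc (Hyper.lin_eq_zero h)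
  have hgerm : L.presheaf.germ ⊤ x trivial (s.app ⊤ (M1.one ⊤)) = u • gx := by
    rw [lin_value, map_sum, Finset.sum_smul]
    refine Finset.sum_congr rfl fun l _ => ?_
    rw [M1.germ_smul, mul_smul]
    refine congrArg₂ (· • ·) rfl ?_
    rw [← M1.germ_mres L (le_top : D ≤ ⊤) hi, ← hr, M1.germ_smul]
  obtain ⟨U, e, e', a, hxU, he, -, hsv, -, hI⟩ := IrrDiv13.exists_chart (isInvertible_O 1) (isInvertible_O (-1)) s hs x
  rw [SetLike.mem_coe, Scheme.IdealSheafData.mem_support_iff_of_mem hxU, hI, Scheme.zeroLocus_span,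
    Scheme.mem_zeroLocus_iff]
  intro a' ha'
  obtain rfl : a' = a := ha'
  rw [Scheme.mem_basicOpen _ _ _ hxU]
  intro hu
  obtain ⟨b, hb⟩ := hgx.2 (L.presheaf.germ U.1 x hxU e)
  have h1 : L.presheaf.germ U.1 x hxU (MeroLib.sval L s U.1) = u • gx := by
    rw [← hgerm, ← M1.germ_mres L (le_top : U.1 ≤ ⊤) hxU]
    exact congrArg _ (M1.app_mres s (le_top : U.1 ≤ ⊤) (M1.one ⊤))
  rw [hsv, M1.germ_smul, ← hb, ← mul_smul] at h1
  have h2 := hgx.1 h1
  obtain ⟨v, hv⟩ : IsUnit b := by
    obtain ⟨d, hd⟩ := ((show Twist.IsGen L U.1 e from he).stalk hxU).2 gx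
    refine IsUnit.of_mul_eq_one_right d (hgx.1 ?_)
    show (d * b) • gx = (1 : R) • gx
    rw [mul_smul, show b • gx = _ from hb, one_smul]
    exact hd
  exact (IsLocalRing.mem_maximalIdeal u).1 hum (h2 ▸ hu.mul ⟨v, hv⟩)

end Groth.Agent.RankTwo11.Pencil
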