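import Groth.Agent.Lib.Wedge2.Top
import Groth.Agent.Lib.ModM1.Coh
import Groth.Agent.Lib.CurveCoh17.Bases
import Groth.Agent.Lib.TensorMod.Invertible

/-!
# Globally generated modules with trivial determinant
-/

set_option autoImplicit false
set_option linter.style.haveILetI false
set_option linter.unusedSectionVars false
set_option backward.isDefEq.respectTransparency false
set_option backward.isDefEq.respectTransparency.types false
set_option maxHeartbeats 1000000

universe u

open CategoryTheory Limits AlgebraicGeometry Opposite TopologicalSpace exteriorPower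

noncomputable section

namespace Groth.Agent.RankTwo11

open KoszShH13 (isAffBasis_top)

variable {X : Scheme.{u}} {r : ℕ}

theorem nonempty_iso_freeMod_of_gg [Nonempty X] (hfield : IsField (Γ(X, ⊤) : Type u)) {E L : X.Modules}
    (hE : FlatMod.IsFinLocFreeOfRank r E) (hL : ExtPow.IsExtPow r E L) (eL : L ≅ Coh.structureModule X) {N : ℕ}
    (p : FlatMod.freeMod X N ⟶ E) [Epi p] : Nonempty (E ≅ FlatMod.freeMod X r) := by
  classical
  obtain ⟨φ, hφ⟩ := ExtFil4.exists_phi hL
  have hFq : Coh.IsQCoh (FlatMod.freeMod X N) :=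
    M2.isQCoh_of_isFinLocFree (M2.isFinLocFree_of_ofRank (M2.isFinLocFreeOfRank_freeMod X N))
  have hEq : Coh.IsQCoh E := M2.isQCoh_of_isFinLocFree (M2.isFinLocFree_of_ofRank hE)
  let one' : Fin N → Γ(FlatMod.freeMod X N, ⊤) := fun j =>
    (Sigma.ι (fun _ : Fin N => Coh.structureModule X) j).app ⊤ (M1.one ⊤)
  have hone : P1Split.IsBas (FlatMod.freeMod X N) ⊤ one' :=
    P1Split.isBas_coprod (fun _ : Fin N => Coh.structureModule X) (fun _ => M1.one ⊤) fun _ => P1Split.isGen_one ⊤
  let s : Fin N → Γ(E, ⊤) := fun j => p.app ⊤ (one' j)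
  let ω : ∀ (f : Fin r → Fin N) (Q : X.affineOpens), Γ(L, Q.1) := fun f Q =>
    (φ Q).symm (ιMulti _ r fun i => M1.mres E (le_top : Q.1 ≤ ⊤) (s (f i)))
  have hω : ∀ f (Q Q' : X.affineOpens) (h : Q'.1 ≤ Q.1), M1.mres L h (ω f Q) = ω f Q' := fun f Q Q' h => by
    refine (hφ Q Q' h _).trans ?_
    simp only [ω, M1.mres_mres]
  choose W hW using fun f : Fin r → Fin N => (Wedge2.exists_glue_section (P := fun _ => True) isAffBasis_top L ⊤
    (fun Q _ _ => ω f Q) fun Q _ _ Q' _ h => hω f Q Q' h).exists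
  -- some wedge of generators is nonzero
  obtain ⟨f, hf⟩ : ∃ f, W f ≠ 0 := by
    by_contra hne
    push_neg at hne
    obtain ⟨x⟩ := (inferInstance : Nonempty X)
    obtain ⟨D, e, hxD, he⟩ := P1Split.exists_isBas_nhd hE x
    obtain ⟨V, hV, hxV, hVD⟩ := exists_isAffineOpen_mem_and_subset (U := D) (x := x) hxD
    let Q : X.affineOpens := ⟨V, hV⟩
    haveI : Nonempty (Q.1 : Scheme.{u}) := ⟨⟨x, hxV⟩⟩
    haveI : Nontrivial Γ(X, Q.1) := (X.presheaf.germ Q.1 x hxV).hom.domain_nontrivial
    let b : Module.Basis (Fin r) Γ(X, Q.1) Γ(E, Q.1) := Module.Basis.ofEquivFun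
      (LinearEquiv.ofBijective (Fintype.linearCombination Γ(X, Q.1) fun i => M1.mres E (show Q.1 ≤ D from hVD) (e i))
        (he Q.1 _)).symm
    have hspan : ∀ i, ∃ c : Fin N → Γ(X, Q.1), ∑ j, c j • M1.mres E (le_top : Q.1 ≤ ⊤) (s j) = b i := fun i => by
      obtain ⟨m, hm⟩ := M1.app_surjective_affine_of_isQCoh hFq hEq p Q.2 (b i)
      obtain ⟨c, hc⟩ := (hone Q.1 le_top).2 m
      refine ⟨c, ?_⟩
      rw [← hm, ← hc, map_sum]
      refine Finset.sum_congr rfl fun j _ => ?_
      rw [Scheme.Modules.Hom.app_smul, M1.app_mres]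
    choose c hc using hspan
    have hzero : ιMulti Γ(X, Q.1) r ⇑b = 0 := by
      rw [show ⇑b = fun i => ∑ j, c i j • M1.mres E (le_top : Q.1 ≤ ⊤) (s j) from funext fun i => (hc i).symm]
      refine ((ιMulti Γ(X, Q.1) r (M := Γ(E, Q.1))).toMultilinearMap.map_sum _).trans
        (Finset.sum_eq_zero fun g _ => ?_)
      rw [MultilinearMap.map_smul_univ]
      refine (congrArg _ ((φ Q).symm.injective ?_)).trans (smul_zero _)
      rw [map_zero]
      refine ((hW g Q trivial le_top).symm.trans ?_)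
      rw [hne g, map_zero]
    have := (Wedge2.bijective_smul_top b).1 (a₁ := 1) (a₂ := 0) (by simp [hzero])
    exact one_ne_zero this
  let g : Γ(X, ⊤) := eL.hom.app ⊤ (W f)
  have hg0 : g ≠ 0 := fun h => hf ((M1.mono_iff_app eL.hom).1 inferInstance ⊤
    ((show eL.hom.app ⊤ (W f) = (0 : Γ(Coh.structureModule X, ⊤)) from h).trans (map_zero _).symm))
  obtain ⟨v, hv⟩ := hfield.mul_inv_cancel hg0
  have hgen : ∀ (Q : X.affineOpens) (m : Γ(L, Q.1)), ∃ t : Γ(X, Q.1), t • ω f Q = m := fun Q m => by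
    refine ⟨(show Γ(X, Q.1) from eL.hom.app Q.1 m) * M1.ores (le_top : Q.1 ≤ ⊤) v, ?_⟩
    refine (M1.mono_iff_app eL.hom).1 inferInstance Q.1 ?_
    rw [Scheme.Modules.Hom.app_smul, ← hW f Q trivial le_top, M1.app_mres]
    show (show Γ(X, Q.1) from eL.hom.app Q.1 m) * M1.ores (le_top : Q.1 ≤ ⊤) v * M1.ores (le_top : Q.1 ≤ ⊤) g = _
    rw [mul_assoc, ← map_mul, mul_comm v, hv, map_one, mul_one]
  have hbas : P1Split.IsBas E ⊤ fun i => s (f i) := P1Split.isBas_of_stalk fun x hx => by
    obtain ⟨D, e, hxD, he⟩ := P1Split.exists_isBas_nhd hE x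
    obtain ⟨V, hV, hxV, hVD⟩ := exists_isAffineOpen_mem_and_subset (U := D) (x := x) hxD
    have hVD : V ≤ D := hVD
    let Q : X.affineOpens := ⟨V, hV⟩
    let b : Module.Basis (Fin r) Γ(X, V) Γ(E, V) := Module.Basis.ofEquivFun
      (LinearEquiv.ofBijective (Fintype.linearCombination Γ(X, V) fun i => M1.mres E hVD (e i)) (he V _)).symm
    let v' : Fin r → Γ(E, V) := fun i => M1.mres E (le_top : V ≤ ⊤) (s (f i))
    obtain ⟨t, ht⟩ := hgen Q ((φ Q).symm (ιMulti _ r ⇑b))
    have hu : IsUnit (b.det v') := by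
      refine IsUnit.of_mul_eq_one t (mul_comm _ t ▸ ?_)
      have h1 := congrArg (exteriorPower.alternatingMapLinearEquiv b.det ∘ φ Q) ht
      simp only [ω, Function.comp_apply, map_smul, LinearEquiv.apply_symm_apply, smul_eq_mul] at h1
      erw [exteriorPower.alternatingMapLinearEquiv_apply_ιMulti, exteriorPower.alternatingMapLinearEquiv_apply_ιMulti, b.det_self] at h1
      exact h1
    obtain ⟨hli, hsp⟩ := (b.is_basis_iff_det).2 hu
    let b' := Module.Basis.mk hli hsp.ge
    have hbV : P1Split.IsBas E V v' := by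
      intro W hW
      have hb := (he.mres hVD) W hW
      let Mx : Matrix (Fin r) (Fin r) Γ(X, W) := fun i j => M1.ores hW (b.repr (v' i) j)
      have hMu : IsUnit Mx.det := by
        have hdet : Mx.det = M1.ores hW (b.det v') := by
          rw [Module.Basis.det_apply, RingHom.map_det]
          conv_rhs => rw [← Matrix.det_transpose]
          rfl
        rw [hdet]
        exact hu.map _
      have key : (fun c : Fin r → Γ(X, W) => ∑ i, c i • M1.mres E hW (v' i)) =
          (fun c => ∑ j, c j • M1.mres E hW (M1.mres E hVD (e j))) ∘ fun c => Matrix.vecMul c Mx := by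
        funext c
        simp only [Function.comp_apply, Matrix.vecMul, dotProduct, Finset.sum_smul]
        rw [Finset.sum_comm]
        refine Finset.sum_congr rfl fun i _ => ?_
        have hbe : ∀ j, b j = M1.mres E hVD (e j) := fun j => by
          simp only [b, Module.Basis.coe_ofEquivFun, LinearEquiv.symm_symm]
          show Fintype.linearCombination Γ(X, V) _ (Function.update 0 j 1) = _
          rw [show Function.update (0 : Fin r → Γ(X, V)) j 1 = Pi.single j 1 from rfl,
            Fintype.linearCombination_apply_single, one_smul]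
        conv_lhs => rw [← b.sum_repr (v' i), map_sum, Finset.smul_sum]
        refine Finset.sum_congr rfl fun j _ => ?_
        rw [M1.mres_smul, hbe, ← mul_smul]
      rw [key]
      have hM : IsUnit Mx := (Matrix.isUnit_iff_isUnit_det _).2 hMu
      obtain ⟨Mu, hMu'⟩ := hM
      exact hb.comp (Function.bijective_iff_has_inverse.2 ⟨fun c => Matrix.vecMul c (↑Mu⁻¹ : Matrix _ _ _),
        fun c => by simp [Matrix.vecMul_vecMul, ← hMu'], fun c => by simp [Matrix.vecMul_vecMul, ← hMu']⟩)
    have hst := hbV.stalk hxV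
    have heq : ∀ i, (E.presheaf.germ ⊤ x hx (s (f i)) : E.presheaf.stalk x) =
        E.presheaf.germ V x hxV (v' i) := fun i => (M1.germ_mres E (le_top : V ≤ ⊤) hxV _).symm
    simp only [heq]
    exact hst
  obtain ⟨i⟩ := CurveCoh17.nonempty_iso_freeMod_of_isBas hbas
  exact ⟨i.symm⟩

end Groth.Agent.RankTwo11
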