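import Groth.Agent.Lib.RankTwo11.Linear
import Groth.Agent.Lib.Horrocks11

/-!
# Negative resolutions of bundles without sections on the plane
-/

set_option autoImplicit false
set_option linter.style.haveILetI false
set_option linter.unusedSectionVars false
set_option backward.isDefEq.respectTransparency false
set_option backward.isDefEq.respectTransparency.types false
set_option maxHeartbeats 1000000

universe u

open CategoryTheory CategoryTheory.Limits AlgebraicGeometry TopologicalSpace Opposite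

noncomputable section

namespace Groth.Agent.RankTwo11.TwistRes

open Groth.Agent

variable {k : Type u} [Field k] {n : ℕ}

local notation "O" d:max => _root_.Twist.twistProjSpace n k d

/-- A class is hit if the map attached to it factors. -/
theorem mem_range_of_factor {F P : (CohB1.ProjSpace n k).Modules} (Φ : P ⟶ F) (m : ℤ) (c : (O (-m)) ⟶ P)
    (g : (O (-m)) ⟶ F) (hc : c ≫ Φ = g) (z : Coh.HH (CohB1.ProjSpace n k) ((CMReg18.projData k n).tw F m) 0)
    (hz : M2.tensorMap g (𝟙 (O m)) = (negIso' m).hom ≫ M1.secHom (CurveCoh17.hh0 _ z)) :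
    z ∈ LinearMap.range (CurveCoh17.hmap k ((M2.tensorR (O m)).map Φ) 0) := by
  let σ := (negIso' (k := k) (n := n) m).inv ≫ (M2.tensorR (O m)).map c
  refine ⟨(CurveCoh17.hh0 _).symm (σ.app ⊤ (M1.one ⊤)), (CurveCoh17.hh0 _).injective ?_⟩
  rw [CurveCoh17.hh0_hmap, AddEquiv.apply_symm_apply, ← CategoryTheory.comp_apply, ← Scheme.Modules.Hom.comp_app,
    Category.assoc, ← Functor.map_comp, hc]
  show ((negIso' (k := k) (n := n) m).inv ≫ M2.tensorMap g (𝟙 (O m))).app ⊤ (M1.one ⊤) = _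
  rw [hz, Iso.inv_hom_id_assoc, M1.secHom_app_one]
  rfl

variable (k n) in
/-- A family of maps out of negative twists that is onto on sections of all twists in `[1, N]`. -/
theorem exists_gens {F : (CohB1.ProjSpace n k).Modules} (hF : Coh.IsCoh F) {N : ℕ} (hN : 1 ≤ N)
    (hreg : (CMReg18.projData k n).IsReg F (N : ℤ)) :
    ∃ (s : ℕ) (mm : Fin s → ℤ) (Φ : (∐ fun j : Fin s => O (mm j)) ⟶ F), (∀ j, mm j < 0 ∧ -(N : ℤ) ≤ mm j) ∧ Epi Φ ∧
      ∀ l : ℕ, 1 ≤ l → l ≤ N →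
        Function.Surjective (CurveCoh17.hmap k ((M2.tensorR (O (l : ℤ))).map Φ) 0) := by
  classical
  haveI := CMReg18.isProper_projSpace k (n := n)
  let D := CMReg18.projData k n
  let d : ℕ → ℕ := fun l => Module.finrank k (Coh.HH (CohB1.ProjSpace n k) (D.tw F (l : ℤ)) 0)
  haveI : ∀ l : ℕ, Module.Finite k (Coh.HH (CohB1.ProjSpace n k) (D.tw F (l : ℤ)) 0) := fun l => D.finite_HH k hF _ 0
  let B := fun l : ℕ => Module.finBasis k (Coh.HH (CohB1.ProjSpace n k) (D.tw F (l : ℤ)) 0)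
  obtain ⟨b, φ, -, hφ, -⟩ := D.exists_presentation_finrank (k := k) hF (N : ℤ)
    (CMReg18.isGloballyGenerated_of_isReg hF hreg)
  let I := Fin b ⊕ (Σ l : Fin N, Fin (d (l.val + 1)))
  let deg : I → ℕ := Sum.elim (fun _ => N) fun p => p.1.val + 1
  have hdeg : ∀ i, 1 ≤ deg i := fun i => by
    rcases i with i | p <;> simp [deg]
    omega
  have hex : ∀ (l : ℕ) (z : Coh.HH (CohB1.ProjSpace n k) (D.tw F (l : ℤ)) 0), ∃ g : (O (-(l : ℤ))) ⟶ F,
      M2.tensorMap g (𝟙 (O (l : ℤ))) = (negIso' (l : ℤ)).hom ≫ M1.secHom (CurveCoh17.hh0 _ z) := fun l z =>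
    ES11.tensorR_map_surjective (negIso _) _
  choose g hg using hex
  let gI : (i : I) → ((O (-((deg i : ℕ) : ℤ))) ⟶ F) := fun i => match i with
    | Sum.inl i => Sigma.ι (fun _ : Fin b => O (-(N : ℤ))) i ≫ φ
    | Sum.inr p => g (p.1.val + 1) (B (p.1.val + 1) p.2)
  let eI := Fintype.equivFin I
  let Φ : (∐ fun j : Fin (Fintype.card I) => O (-((deg (eI.symm j) : ℕ) : ℤ))) ⟶ F :=
    Sigma.desc fun j => gI (eI.symm j)
  have key : ∀ i : I, ∃ c : (O (-((deg i : ℕ) : ℤ))) ⟶ ∐ fun j : Fin (Fintype.card I) => O (-((deg (eI.symm j) : ℕ) : ℤ)),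
      c ≫ Φ = gI i := fun i => by
    obtain ⟨j, rfl⟩ := eI.symm.surjective i
    exact ⟨Sigma.ι (fun j : Fin (Fintype.card I) => O (-((deg (eI.symm j) : ℕ) : ℤ))) j, Sigma.ι_desc _ _⟩
  refine ⟨_, _, Φ, fun j => ?_, ?_, fun l hl hlN => ?_⟩
  · have := hdeg (eI.symm j)
    have : deg (eI.symm j) ≤ N := by
      rcases eI.symm j with i | p <;> simp [deg]
    omega
  · haveI := hφ
    refine Preadditive.epi_of_cancel_zero _ fun h hh => ?_
    rw [← cancel_epi φ, comp_zero]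
    refine Sigma.hom_ext _ _ fun i => ?_
    obtain ⟨c, hc⟩ := key (Sum.inl i)
    rw [comp_zero, ← Category.assoc]
    show gI (Sum.inl i) ≫ h = 0
    rw [← hc, Category.assoc, hh, comp_zero]
  · obtain ⟨l, rfl⟩ : ∃ l', l = l' + 1 := ⟨l - 1, by omega⟩
    rw [← LinearMap.range_eq_top, eq_top_iff, ← (B (l + 1)).span_eq, Submodule.span_le]
    rintro _ ⟨t, rfl⟩
    obtain ⟨c, hc⟩ := key (Sum.inr ⟨⟨l, by omega⟩, t⟩)
    have h1 := mem_range_of_factor Φ ((l + 1 : ℕ) : ℤ) c (g (l + 1) (B (l + 1) t)) hc (B (l + 1) t)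
      (hg (l + 1) (B (l + 1) t))
    exact h1

/-- A bundle on the plane without sections has a resolution by negative twists. -/
theorem exists_resolution {F : (CohB1.ProjSpace 2 k).Modules} {r : ℕ} (hF : FlatMod.IsFinLocFreeOfRank r F)
    (h0 : Subsingleton (Coh.HH (CohB1.ProjSpace 2 k) F 0)) :
    ∃ (a b : ℕ) (kk : Fin a → ℤ) (mm : Fin b → ℤ) (S : ShortComplex (CohB1.ProjSpace 2 k).Modules),
      S.ShortExact ∧ (∀ i, kk i < 0) ∧ (∀ j, mm j < 0) ∧
      Nonempty (S.X₁ ≅ ∐ fun i : Fin a => _root_.Twist.twistProjSpace 2 k (kk i)) ∧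
      Nonempty (S.X₂ ≅ ∐ fun j : Fin b => _root_.Twist.twistProjSpace 2 k (mm j)) ∧
      Nonempty (S.X₃ ≅ F) := by
  haveI := CMReg18.isProper_projSpace k (n := 2)
  let D := CMReg18.projData k 2
  have hFc : Coh.IsCoh F := CurveCoh17.isCoh_of_ofRank hF
  obtain ⟨m₀, hm₀⟩ := CMReg18.exists_isReg hFc
  obtain ⟨N, hN, hm⟩ : ∃ N : ℕ, 1 ≤ N ∧ m₀ ≤ (N : ℤ) := ⟨(max m₀ 1).toNat, by omega, by omega⟩
  have hreg := hm₀.of_le k hm
  obtain ⟨s, mm, Φ, hmm', hΦ, hsurj⟩ := exists_gens k 2 hFc hN hreg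
  have hmm : ∀ j, mm j < 0 := fun j => (hmm' j).1
  let P := ∐ fun j : Fin s => _root_.Twist.twistProjSpace 2 k (mm j)
  have hS : (ShortComplex.mk (kernel.ι Φ) Φ (kernel.condition Φ)).ShortExact :=
    { exact := ShortComplex.exact_kernel Φ }
  haveI : IsLocallyNoetherian (CohB1.ProjSpace 2 k) := CohFound.ProjNum.isLocallyNoetherian_projSpace 2 k
  have hKc : Coh.IsCoh (kernel Φ) :=
    CurveCoh17.isCoh_kernel (CohFound.isCoh_of_isFinLocFree (M2.isFinLocFree_of_iso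
      (biproduct.isoCoproduct fun j : Fin s => _root_.Twist.twistProjSpace 2 k (mm j))
      (KFlat.Sch.isFinLocFree_biproduct _ fun j => M2.isFinLocFree_of_ofRank (rank_O (k := k) (n := 2) (mm j))))) hFc.1 Φ
  have hPh : ∀ (l : ℤ) (i : ℕ), (∀ j, Subsingleton (Coh.HH (CohB1.ProjSpace 2 k)
      (_root_.Twist.twistProjSpace 2 k (mm j + l)) i)) → Subsingleton (Coh.HH (CohB1.ProjSpace 2 k) (D.tw P l) i) :=
    fun l i h => CMReg18.van_iso k (M := ∐ fun j => CohB1.tensorMod (_root_.Twist.twistProjSpace 2 k (mm j)) (_root_.Twist.twistProjSpace 2 k l))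
      (PreservesCoproduct.iso (M2.tensorR (_root_.Twist.twistProjSpace 2 k l)) _).symm
      (CMReg18.van_sigma k _ fun j => CMReg18.van_iso k (addIso (mm j) l).symm (h j))
  have hFl : ∀ l : ℤ, l ≤ 0 → Subsingleton (Coh.HH (CohB1.ProjSpace 2 k) (D.tw F l) 0) := fun l hl => by
    by_contra hne
    obtain ⟨t, ht⟩ := exists_map_of_not_subsingleton (k := k) (n := 2) (k₀ := l) hne
    obtain ⟨m, hm'⟩ := exists_ne_zero_twist (k := k) (n := 2) (a := 0) (b := -l) (by omega)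
    exact iso_comp_ne_zero (comp_ne_zero hF hm' ht) zeroIso.symm (eq_zero_of_subsingleton h0 _)
  have hK0 : ∀ l : ℤ, l ≤ 0 → Subsingleton (Coh.HH (CohB1.ProjSpace 2 k) (D.tw (kernel Φ) l) 0) := fun l hl => by
    refine subsingleton_of_forall_eq 0 fun w => CurveCoh17.hmap_f_injective k (D.shortExact_tw hS l) ?_
    have h : Subsingleton (Coh.HH (CohB1.ProjSpace 2 k) (D.tw P l) 0) := hPh l 0 fun j =>
      S0844.result k 2 _ 0 (by have := hmm j; omega) (by omega)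
    exact @Subsingleton.elim _ h _ _
  have hP1 : ∀ l : ℤ, Subsingleton (Coh.HH (CohB1.ProjSpace 2 k) (D.tw P l) 1) := fun l =>
    hPh l 1 fun j => S0844.result k 2 _ 1 (by omega) (by omega)
  have hK1 : ∀ l : ℤ, Subsingleton (Coh.HH (CohB1.ProjSpace 2 k) (D.tw (kernel Φ) l) 1) := by
    have hsur : ∀ l : ℕ, 1 ≤ l → l ≤ N → Subsingleton (Coh.HH (CohB1.ProjSpace 2 k) (D.tw (kernel Φ) (l : ℤ)) 1) :=
      fun l h1 h2 => subsingleton_of_forall_eq 0 fun w => by
        obtain ⟨z, rfl⟩ := (CurveCoh17.exact_hdelta_hmap k (D.shortExact_tw hS (l : ℤ)) 0 w).1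
          ((hP1 l).elim _ _)
        exact (CurveCoh17.exact_hmap_hdelta k (D.shortExact_tw hS (l : ℤ)) 0 z).2 (hsurj l h1 h2 z)
    intro l
    rcases le_or_gt l 0 with hl | hl
    · exact CMReg18.van₁ k (D.shortExact_tw hS l) (hFl l hl) (hP1 l)
    obtain ⟨l, rfl⟩ : ∃ l' : ℕ, l = l' := ⟨l.toNat, by omega⟩
    rcases le_or_gt l N with h2 | h2
    · exact hsur l (by omega) h2
    have hKqc : Coh.IsQCoh (kernel Φ) := hKc.1
    have hKreg : D.IsReg (kernel Φ) ((N : ℤ) + 1) := fun i hi => by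
      rcases eq_or_ne i 1 with rfl | h1
      · exact CMReg18.van_iso k (D.twIso _ (by push_cast; ring) : D.tw _ (N : ℤ) ≅ _) (hsur N hN le_rfl)
      rcases eq_or_ne i 2 with rfl | h2'
      · refine CMReg18.van_iso k (D.twIso _ (by push_cast; ring) : D.tw _ ((N : ℤ) - 1) ≅ _)
          (CMReg18.van₁ k (D.shortExact_tw hS _) (hreg 1 le_rfl) ?_)
        refine hPh _ 2 fun j => S0844.result k 2 _ 2 (by omega) ?_
        have := (hmm' j).2
        rintro ⟨-, h⟩
        omega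
      · exact CMReg18.subsingleton_HH_of_lt k (M2.isQCoh_tensor hKqc (Twist.isQCoh_twistProjSpace 2 k _)) (by omega)
    exact hKreg.van k le_rfl (by omega)
  obtain ⟨a, kk, ⟨eK⟩⟩ := (Horrocks11.isSum_iff (k := k) (d := 2) (by norm_num)
    (F := kernel Φ) hKc).2
    ⟨⟨0, hK0⟩, fun l i h1 h2 => by
      obtain rfl : i = 1 := by omega
      exact hK1 l⟩
  refine ⟨a, s, kk, mm, _, hS, fun i => ?_, hmm, ⟨eK⟩, ⟨Iso.refl _⟩, ⟨Iso.refl _⟩⟩
  by_contra hi
  obtain ⟨m, hm'⟩ := exists_ne_zero_twist (k := k) (n := 2) (a := 0) (b := kk i) (by omega)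
  haveI : Mono (Sigma.ι (fun i : Fin a => _root_.Twist.twistProjSpace 2 k (kk i)) i) :=
    SplitMono.mono (f := Sigma.ι (fun i : Fin a => _root_.Twist.twistProjSpace 2 k (kk i)) i)
      ⟨P1Split.proj _ _, P1Split.ι_proj_self _ _⟩
  have hz : Subsingleton (Coh.HH (CohB1.ProjSpace 2 k) (kernel Φ) 0) :=
    CMReg18.van_iso k (D.twZero (kernel Φ)) (hK0 0 le_rfl)
  refine hm' ?_
  rw [← cancel_mono (Sigma.ι (fun i : Fin a => _root_.Twist.twistProjSpace 2 k (kk i)) i ≫ eK.inv), zero_comp,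
    ← cancel_epi (zeroIso (k := k) (n := 2)).inv, comp_zero]
  exact eq_zero_of_subsingleton hz _

end Groth.Agent.RankTwo11.TwistRes
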