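import Groth.Agent.Lib.RankTwo11.MuSeq
import Groth.Agent.Lib.RankTwo11.Nets
import Groth.Agent.Lib.RankTwo11.Linear
import Groth.Agent.Lib.CMReg18.QuotFam
import Groth.Agent.Lib.CMReg18.Hypersurface

/-!
# Uniform bundles of rank two on the plane
-/

set_option autoImplicit false
set_option linter.style.haveILetI false
set_option linter.unusedSectionVars false
set_option backward.isDefEq.respectTransparency false
set_option backward.isDefEq.respectTransparency.types false
set_option maxHeartbeats 1000000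

universe u

open CategoryTheory CategoryTheory.Limits AlgebraicGeometry TopologicalSpace Opposite

noncomputable section

namespace Groth.Agent.RankTwo11.Plane

open Groth.Agent

variable {k : Type u} [Field k]

local notation "P₂" => CohB1.ProjSpace 2 k
local notation "O₁" d:max => _root_.Twist.twistProjSpace 1 k d
local notation "O₂" d:max => _root_.Twist.twistProjSpace 2 k d

/-- Uniformity with a given splitting type. -/
def Uni (E : (CohB1.ProjSpace 2 k).Modules) (d : Fin 2 → ℤ) : Prop :=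
  ∀ (i : CohB1.ProjSpace 1 k ⟶ CohB1.ProjSpace 2 k) [IsClosedImmersion i],
    i ≫ CohB1.ProjSpace.toSpec 2 k = CohB1.ProjSpace.toSpec 1 k →
    Nonempty ((Scheme.Modules.pullback i).obj (O₂ 1) ≅ O₁ 1) →
    Nonempty ((Scheme.Modules.pullback i).obj E ≅ ∐ fun j : Fin 2 => O₁ (d j))

/-- Dimensions of cohomology. -/
def hd (E : (CohB1.ProjSpace 2 k).Modules) (q : ℕ) (t : ℤ) : ℕ :=
  Module.finrank k (Coh.HH (CohB1.ProjSpace 2 k) ((CMReg18.projData k 2).tw E t) q)

/-- Sections on a line. -/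
def LL (d : Fin 2 → ℤ) (t : ℤ) : ℕ := (d 0 + t + 1).toNat + (d 1 + t + 1).toNat

theorem finrank_twist_one (a : ℤ) :
    Module.finrank k (Coh.HH (CohB1.ProjSpace 1 k) (O₁ a) 0) = (a + 1).toNat := by
  rw [CMReg18.finrank_twist_h0, if_pos (Or.inl one_pos), Nat.choose_one_right, Nat.cast_one]

section general

variable {n : ℕ}

theorem finite_twist (a : ℤ) : Module.Finite k (Coh.HH (CohB1.ProjSpace n k) (_root_.Twist.twistProjSpace n k a) 0) := by
  haveI := CMReg18.isProper_projSpace k (n := n)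
  haveI : IsNoetherian (CohB1.ProjSpace n k) :=
    CohFound.isNoetherian_of_isProper (CohB1.ProjSpace n k ↘ Spec (CommRingCat.of k))
  exact CohFound.finite_HH_of_isProper (A := k) _ (Snapper.isCoh_of_isInvertible (isInvertible_O a)) 0

theorem finite_twN {E : (CohB1.ProjSpace n k).Modules} (hE : FlatMod.IsFinLocFreeOfRank 2 E) (q : ℕ) (t : ℤ) :
    Module.Finite k (Coh.HH (CohB1.ProjSpace n k) ((CMReg18.projData k n).tw E t) q) := by
  haveI := CMReg18.isProper_projSpace k (n := n)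
  exact (CMReg18.projData k n).finite_HH k (CurveCoh17.isCoh_of_ofRank hE) t q

/-- The comparison with the twist below. -/
def downIsoN (E : (CohB1.ProjSpace n k).Modules) (t : ℤ) :
    CohB1.tensorMod ((CMReg18.projData k n).tw E t) (_root_.Twist.twistProjSpace n k (-1)) ≅
      (CMReg18.projData k n).tw E (t - 1) :=
  (CMReg18.projData k n).twTwist E t (-1) ≪≫ (CMReg18.projData k n).twIso E (sub_eq_add_neg t 1).symm

/-- Multiplication by a linear form, on the twist below. -/
def multN (E : (CohB1.ProjSpace n k).Modules) (c : Fin (n + 1) → k) (q : ℕ) (t : ℤ) :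
    Coh.HH (CohB1.ProjSpace n k) ((CMReg18.projData k n).tw E (t - 1)) q →ₗ[k]
      Coh.HH (CohB1.ProjSpace n k) ((CMReg18.projData k n).tw E t) q :=
  CurveCoh17.hmap k ((downIsoN E t).inv ≫ Pencil.mu ((CMReg18.projData k n).tw E t) c) q

theorem hmap_pre_add {G M : (CohB1.ProjSpace n k).Modules} (a : M ⟶ CohB1.tensorMod G (_root_.Twist.twistProjSpace n k (-1)))
    (c c' : Fin (n + 1) → k) (q : ℕ) : CurveCoh17.hmap k (a ≫ Pencil.mu G (c + c')) q =
      CurveCoh17.hmap k (a ≫ Pencil.mu G c) q + CurveCoh17.hmap k (a ≫ Pencil.mu G c') q := by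
  refine LinearMap.ext fun y => ?_
  simp only [Pencil.mu_add, Preadditive.comp_add]
  exact CMReg18.hmap_add k _ _ q y

theorem hmap_pre_smul {G M : (CohB1.ProjSpace n k).Modules} (a : M ⟶ CohB1.tensorMod G (_root_.Twist.twistProjSpace n k (-1)))
    (x : k) (c : Fin (n + 1) → k) (q : ℕ) : CurveCoh17.hmap k (a ≫ Pencil.mu G (x • c)) q =
      x • CurveCoh17.hmap k (a ≫ Pencil.mu G c) q := by
  refine LinearMap.ext fun y => ?_
  rw [LinearMap.smul_apply, Pencil.mu_smul, ← Category.assoc, CurveCoh17.hmap_comp, Pencil.hmap_smulHom]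

theorem hmap_pre_apply {G M : (CohB1.ProjSpace n k).Modules} (e : CohB1.tensorMod G (_root_.Twist.twistProjSpace n k (-1)) ≅ M)
    (c : Fin (n + 1) → k) (q : ℕ) (y : Coh.HH (CohB1.ProjSpace n k) M q) :
    CurveCoh17.hmap k (e.inv ≫ Pencil.mu G c) q y =
      CurveCoh17.hmap k (Pencil.mu G c) q (CurveCoh17.hequiv k e.symm q y) :=
  CurveCoh17.hmap_comp k _ _ q y

theorem multN_add (E : (CohB1.ProjSpace n k).Modules) (c c' : Fin (n + 1) → k) (q : ℕ) (t : ℤ) :
    multN E (c + c') q t = multN E c q t + multN E c' q t := hmap_pre_add _ c c' q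

theorem multN_smul (E : (CohB1.ProjSpace n k).Modules) (x : k) (c : Fin (n + 1) → k) (q : ℕ) (t : ℤ) :
    multN E (x • c) q t = x • multN E c q t := hmap_pre_smul _ x c q

theorem pair_finrank (d : Fin 2 → ℤ) {M : (CohB1.ProjSpace n k).Modules}
    (e : M ≅ ∐ fun i : Fin 2 => _root_.Twist.twistProjSpace n k (d i)) :
    Module.Finite k (Coh.HH _ M 0) ∧ Module.finrank k (Coh.HH _ M 0) =
      Module.finrank k (Coh.HH (CohB1.ProjSpace n k) (_root_.Twist.twistProjSpace n k (d 0)) 0) +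
        Module.finrank k (Coh.HH (CohB1.ProjSpace n k) (_root_.Twist.twistProjSpace n k (d 1)) 0) := by
  haveI : ∀ i : Fin 2, Module.Finite k (Coh.HH (CohB1.ProjSpace n k) (_root_.Twist.twistProjSpace n k (d i)) 0) :=
    fun i => finite_twist _
  let e0 := (CurveCoh17.hequiv k (e ≪≫ (biproduct.isoCoproduct fun i : Fin 2 => _root_.Twist.twistProjSpace n k (d i)).symm) 0).trans
    (LinearEquiv.ofBijective
      (LinearMap.pi fun i => CurveCoh17.hmap k (biproduct.π (fun i : Fin 2 => _root_.Twist.twistProjSpace n k (d i)) i) 0)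
      (CMReg18.bijective_pi k _ 0))
  exact ⟨Module.Finite.equiv e0.symm, by rw [e0.finrank_eq, Module.finrank_pi_fintype, Fin.sum_univ_two]⟩

theorem pair_vanish (d : Fin 2 → ℤ) {M : (CohB1.ProjSpace n k).Modules}
    (e : M ≅ ∐ fun i : Fin 2 => _root_.Twist.twistProjSpace n k (d i)) (q : ℕ)
    (h : ∀ i, Subsingleton (Coh.HH (CohB1.ProjSpace n k) (_root_.Twist.twistProjSpace n k (d i)) q)) :
    Subsingleton (Coh.HH _ M q) :=
  CMReg18.van_iso k e.symm (CMReg18.van_sigma k _ h)

end general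

theorem finite_tw {E : (CohB1.ProjSpace 2 k).Modules} (hE : FlatMod.IsFinLocFreeOfRank 2 E) (q : ℕ) (t : ℤ) :
    Module.Finite k (Coh.HH (CohB1.ProjSpace 2 k) ((CMReg18.projData k 2).tw E t) q) := finite_twN hE q t

variable {E : (CohB1.ProjSpace 2 k).Modules} {d : Fin 2 → ℤ} (hE : FlatMod.IsFinLocFreeOfRank 2 E) (hu : Uni E d)

section abstract_spaces

variable {A A' B C D D' F : Type*} [AddCommGroup A] [Module k A] [AddCommGroup A'] [Module k A'] [AddCommGroup B]
  [Module k B] [AddCommGroup C] [Module k C] [AddCommGroup D] [Module k D] [AddCommGroup D'] [Module k D']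
  [AddCommGroup F] [Module k F]

theorem injective_precomp (g : D →ₗ[k] F) (g' : D' →ₗ[k] F) (e : D' ≃ₗ[k] D) (he : ∀ y, g' y = g (e y))
    (h : Function.Injective g) : Function.Injective g' := fun x y hxy => e.injective (h (by rw [← he, ← he, hxy]))

theorem surjective_precomp (g : D →ₗ[k] F) (g' : D' →ₗ[k] F) (e : D' ≃ₗ[k] D) (he : ∀ y, g' y = g (e y))
    (h : Function.Surjective g) : Function.Surjective g' := fun z => by
  obtain ⟨x, rfl⟩ := h z
  exact ⟨e.symm x, by rw [he, LinearEquiv.apply_symm_apply]⟩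

theorem rank_step [Module.Finite k A'] [Module.Finite k B] [Module.Finite k C] [Module.Finite k D']
    (f : A →ₗ[k] B) (r : B →ₗ[k] C) (δ : C →ₗ[k] D) (g : D →ₗ[k] F) (g' : D' →ₗ[k] F) (a : A' ≃ₗ[k] A) (e : D' ≃ₗ[k] D)
    (he : ∀ y, g' y = g (e y)) (hf : Function.Injective f) (h1 : Function.Exact f r) (h2 : Function.Exact r δ)
    (h3 : Function.Exact δ g) :
    Module.finrank k (LinearMap.ker g') + Module.finrank k B = Module.finrank k A' + Module.finrank k C := by
  haveI : Module.Finite k A := Module.Finite.equiv a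
  haveI : Module.Finite k D := Module.Finite.equiv e
  have e1 := LinearMap.finrank_range_add_finrank_ker r
  have e2 := LinearMap.finrank_range_add_finrank_ker δ
  rw [h1.linearMap_ker_eq, LinearMap.finrank_range_of_inj hf, ← a.finrank_eq] at e1
  rw [h2.linearMap_ker_eq, ← h3.linearMap_ker_eq] at e2
  rw [show g' = g.comp e.toLinearMap from LinearMap.ext he, LinearMap.ker_comp, Submodule.comap_equiv_eq_map_symm,
    LinearEquiv.finrank_map_eq]
  omega

theorem surj_inj {G' : Type*} [AddCommGroup G'] [Module k G'] (f : A →ₗ[k] B) (r : B →ₗ[k] C) (δ : C →ₗ[k] D)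
    (g : D →ₗ[k] G') (h1 : Function.Exact f r) (h3 : Function.Exact δ g) (hC : Subsingleton C) :
    Function.Surjective f ∧ Function.Injective g := by
  refine ⟨fun y => (h1 y).1 (Subsingleton.elim _ _), (injective_iff_map_eq_zero _).2 fun x hx => ?_⟩
  obtain ⟨y, rfl⟩ := (h3 x).1 hx
  rw [Subsingleton.elim y 0, map_zero]

end abstract_spaces

/-- Multiplication by a linear form, on the twist below. -/
abbrev mult (E : (CohB1.ProjSpace 2 k).Modules) (c : Fin 3 → k) (q : ℕ) (t : ℤ) :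
    Coh.HH (CohB1.ProjSpace 2 k) ((CMReg18.projData k 2).tw E (t - 1)) q →ₗ[k]
      Coh.HH (CohB1.ProjSpace 2 k) ((CMReg18.projData k 2).tw E t) q :=
  multN E c q t

theorem mult_add (c c' : Fin 3 → k) (q : ℕ) (t : ℤ) : mult E (c + c') q t = mult E c q t + mult E c' q t :=
  multN_add E c c' q t

theorem mult_smul (a : k) (c : Fin 3 → k) (q : ℕ) (t : ℤ) : mult E (a • c) q t = a • mult E c q t :=
  multN_smul E a c q t

/-- The line data, for one module. -/
theorem seq_abs (G : (CohB1.ProjSpace 2 k).Modules) (hG : FlatMod.IsFinLocFree G) (d : Fin 2 → ℤ) (c : Fin 3 → k) (hc : c ≠ 0)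
    (hline : ∀ (j : CohB1.ProjSpace 1 k ⟶ CohB1.ProjSpace 2 k) [IsClosedImmersion j],
      j ≫ CohB1.ProjSpace.toSpec 2 k = CohB1.ProjSpace.toSpec 1 k →
      Nonempty ((Scheme.Modules.pullback j).obj (O₂ 1) ≅ O₁ 1) →
      Nonempty ((Scheme.Modules.pullback j).obj G ≅ ∐ fun i : Fin 2 => O₁ (d i))) :
    ∃ (C : Type u) (_ : AddCommGroup C) (_ : Module k C) (_ : Module.Finite k C),
      Module.finrank k C = (d 0 + 1).toNat + (d 1 + 1).toNat ∧
      Function.Injective (CurveCoh17.hmap k (Pencil.mu G c) 0) ∧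
      (∃ (r : Coh.HH _ G 0 →ₗ[k] C) (δ : C →ₗ[k] Coh.HH _ (CohB1.tensorMod G (O₂ (-1))) 1),
        Function.Exact (CurveCoh17.hmap k (Pencil.mu G c) 0) r ∧ Function.Exact r δ ∧
          Function.Exact δ (CurveCoh17.hmap k (Pencil.mu G c) 1)) ∧
      (-1 ≤ d 0 → -1 ≤ d 1 → Function.Surjective (CurveCoh17.hmap k (Pencil.mu G c) 1) ∧
        Function.Injective (CurveCoh17.hmap k (Pencil.mu G c) 2)) := by
  obtain ⟨j, hj, hjs, ⟨ej⟩, hseq⟩ := Pencil.mu_seq (m := 1) c hc
  haveI := hj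
  obtain ⟨eG⟩ := hline j hjs ⟨ej⟩
  obtain ⟨hinj, r, δ, hx⟩ := hseq G hG
  obtain ⟨hfin, hrank⟩ := pair_finrank d eG
  refine ⟨Coh.HH _ ((Scheme.Modules.pullback j).obj G) 0, inferInstance, inferInstance, hfin,
    hrank.trans (congrArg₂ (· + ·) (finrank_twist_one (d 0)) (finrank_twist_one (d 1))), hinj,
    ⟨r 0, δ 0, (hx 0).1, (hx 0).2.1, (hx 0).2.2⟩, fun h0 h1 => ?_⟩
  have hv := pair_vanish d eG 1 fun i =>
    S0844.result k 1 _ 1 (by omega) (by rintro ⟨-, h⟩; fin_cases i <;> simp at h <;> omega)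
  exact surj_inj _ _ _ _ (hx 1).1 (hx 1).2.2 hv

include hE hu in
/-- What a line says about multiplication. -/
theorem line_data (c : Fin 3 → k) (hc : c ≠ 0) (t : ℤ) :
    Function.Injective (mult E c 0 t) ∧
    Module.finrank k (LinearMap.ker (mult E c 1 t)) + hd E 0 t = hd E 0 (t - 1) + LL d t ∧
    (-1 ≤ d 0 + t → -1 ≤ d 1 + t → Function.Surjective (mult E c 1 t) ∧ Function.Injective (mult E c 2 t)) := by
  obtain ⟨C, _, _, _, hC, hinj, ⟨r, δ, x1, x2, x3⟩, hv⟩ := seq_abs ((CMReg18.projData k 2).tw E t)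
    (M2.isFinLocFree_tensor (M2.isFinLocFree_of_ofRank hE) (M2.isFinLocFree_of_ofRank (rank_O (k := k) (n := 2) t)))
    (fun i => d i + t) c hc fun j hji hjs ej => by
      obtain ⟨ej⟩ := ej
      obtain ⟨et⟩ := Hyper.nonempty_pull_twist j ej t
      obtain ⟨ed⟩ := hu j hjs ⟨ej⟩
      exact ⟨M2.pullTensorIso j _ _ ≪≫ M2.tensorIso ed et ≪≫ PreservesCoproduct.iso (M2.tensorR (O₁ t)) _ ≪≫
        Sigma.mapIso fun i => addIso (d i) t⟩
  haveI := finite_tw hE 0 t
  haveI := finite_tw hE 0 (t - 1)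
  haveI := finite_tw hE 1 (t - 1)
  let e := fun q => CurveCoh17.hequiv k (downIsoN E t).symm q
  have he : ∀ q y, mult E c q t y = CurveCoh17.hmap k (Pencil.mu ((CMReg18.projData k 2).tw E t) c) q (e q y) :=
    fun q y => hmap_pre_apply (downIsoN E t) c q y
  refine ⟨injective_precomp _ _ (e 0) (he 0) hinj, ?_, fun h0 h1 =>
    ⟨surjective_precomp _ _ (e 1) (he 1) (hv h0 h1).1, injective_precomp _ _ (e 2) (he 2) (hv h0 h1).2⟩⟩
  exact (rank_step _ r δ _ _ (e 0) (e 1) (he 1) hinj x1 x2 x3).trans (congrArg (_ + ·) hC)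

/-- The coordinate forms. -/
def cc (i : Fin 3) : Fin 3 → k := Pi.single i 1

theorem cc_ne_zero (i : Fin 3) : (cc i : Fin 3 → k) ≠ 0 := fun h => one_ne_zero (α := k) (by simpa [cc] using congrFun h i)

theorem cc_add_ne_zero (a : k) : (cc 0 : Fin 3 → k) + a • cc 1 ≠ 0 := fun h =>
  one_ne_zero (α := k) (by simpa [cc] using congrFun h 0)

variable [IsAlgClosed k]

include hE in
/-- Bijective multiplications by all forms force vanishing. -/
theorem subsingleton_of_bij (t : ℤ) (hinj : ∀ c : Fin 3 → k, c ≠ 0 → Function.Injective (mult E c 1 t))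
    (hsur : Function.Surjective (mult E (cc 1) 1 t)) :
    Subsingleton (Coh.HH (CohB1.ProjSpace 2 k) ((CMReg18.projData k 2).tw E (t - 1)) 1) := by
  haveI := finite_tw hE 1 (t - 1)
  exact Pencil.subsingleton_of_pencil (mult E (cc 0) 1 t) (mult E (cc 1) 1 t) ⟨hinj _ (cc_ne_zero 1), hsur⟩
    fun a => by rw [← mult_smul, ← mult_add]; exact hinj _ (cc_add_ne_zero a)

include hE hu in
theorem h0_eq_zero (t : ℤ) (h0 : d 0 + t < 0) (h1 : d 1 + t < 0) : hd E 0 t = 0 := by
  obtain ⟨j, hj, hjs, ⟨ej⟩, -⟩ := Pencil.mu_seq (m := 1) (cc (k := k) 0) (cc_ne_zero 0)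
  haveI := hj
  obtain ⟨ed⟩ := hu j hjs ⟨ej⟩
  have hs : Function.Surjective j.appTop := by
    intro y
    obtain ⟨a, rfl⟩ := (bijective_toGlobal k 1).2 y
    exact ⟨Coh.toGlobal (CohB1.ProjSpace.toSpec 2 k) a, by rw [← hjs]; rfl⟩
  haveI : Subsingleton (Coh.HH (CohB1.ProjSpace 2 k) ((CMReg18.projData k 2).tw E t) 0) := by
    refine Hyper.subsingleton_of_line 2 one_le_two _ (M2.isFinLocFree_tensor (M2.isFinLocFree_of_ofRank hE)
      (M2.isFinLocFree_of_ofRank (rank_O (k := k) (n := 2) t))) j hj hs ej fun l => ?_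
    obtain ⟨et⟩ := Hyper.nonempty_pull_twist j ej t
    refine CMReg18.van_iso k (M2.tensorIso (M2.pullTensorIso j _ _ ≪≫ M2.tensorIso ed et) (Iso.refl _) ≪≫
      M2.tensorAssoc _ _ _ ≪≫ M2.tensorIso (Iso.refl _) (addIso t (-(l : ℤ))) ≪≫
      PreservesCoproduct.iso (M2.tensorR (O₁ (t + -(l : ℤ)))) _ ≪≫ Sigma.mapIso fun i => addIso (d i) _).symm
      (CMReg18.van_sigma k _ fun i => (subsingleton_O_iff le_rfl _).2 (by fin_cases i <;> simp <;> omega))
  exact Module.finrank_zero_of_subsingleton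

include hE hu in
theorem injective_of_eq (t : ℤ) (h : hd E 0 t = hd E 0 (t - 1) + LL d t) (c : Fin 3 → k) (hc : c ≠ 0) :
    Function.Injective (mult E c 1 t) := by
  haveI := finite_tw hE 1 (t - 1)
  have h2 := (line_data hE hu c hc t).2.1
  exact LinearMap.ker_eq_bot.1 (Submodule.finrank_eq_zero.1 (by omega))

include hE hu in
/-- Vanishing of all first cohomology from one step of bijectivity. -/
theorem h1_vanish (hd01 : d 1 ≤ d 0) (hup : ∀ t, t ≤ -d 1 - 1 → hd E 0 t = hd E 0 (t - 1) + LL d t) (t : ℤ) :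
    Subsingleton (Coh.HH (CohB1.ProjSpace 2 k) ((CMReg18.projData k 2).tw E t) 1) := by
  have hsur : ∀ t, -d 1 - 1 ≤ t → ∀ c : Fin 3 → k, c ≠ 0 → Function.Surjective (mult E c 1 t) := fun t ht c hc =>
    ((line_data hE hu c hc t).2.2 (by omega) (by omega)).1
  have h0 := subsingleton_of_bij hE (-d 1 - 1) (injective_of_eq hE hu _ (hup _ le_rfl)) (hsur _ le_rfl _ (cc_ne_zero 1))
  have up : ∀ s : ℕ, Subsingleton (Coh.HH (CohB1.ProjSpace 2 k) ((CMReg18.projData k 2).tw E (-d 1 - 1 - 1 + s)) 1) := by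
    intro s
    induction s with
    | zero => exact CMReg18.van_iso k ((CMReg18.projData k 2).twIso E (by simp)) h0
    | succ s ih =>
      haveI : Subsingleton (Coh.HH (CohB1.ProjSpace 2 k)
          ((CMReg18.projData k 2).tw E (-d 1 - 1 - 1 + ((s + 1 : ℕ) : ℤ) - 1)) 1) :=
        CMReg18.van_iso k ((CMReg18.projData k 2).twIso E (by push_cast; ring)) ih
      exact Function.Surjective.subsingleton (hsur _ (by omega) _ (cc_ne_zero 1))
  have down : ∀ s : ℕ, Subsingleton (Coh.HH (CohB1.ProjSpace 2 k) ((CMReg18.projData k 2).tw E (-d 1 - 1 - 1 - s)) 1) := by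
    intro s
    induction s with
    | zero => exact CMReg18.van_iso k ((CMReg18.projData k 2).twIso E (by simp)) h0
    | succ s ih =>
      haveI := ih
      have h : Subsingleton (Coh.HH (CohB1.ProjSpace 2 k) ((CMReg18.projData k 2).tw E (-d 1 - 1 - 1 - (s : ℤ) - 1)) 1) :=
        Function.Injective.subsingleton
          (injective_of_eq hE hu (-d 1 - 1 - 1 - (s : ℤ)) (hup _ (by omega)) _ (cc_ne_zero 1))
      exact CMReg18.van_iso k ((CMReg18.projData k 2).twIso E (by push_cast; ring)) h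
  by_cases ht : -d 1 - 2 ≤ t
  · exact CMReg18.van_iso k ((CMReg18.projData k 2).twIso E (by omega)) (up (t - (-d 1 - 2)).toNat)
  · exact CMReg18.van_iso k ((CMReg18.projData k 2).twIso E (by omega)) (down (-d 1 - 2 - t).toNat)

end Groth.Agent.RankTwo11.Plane
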