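import Groth.Agent.Lib.RankTwo11.UniformPlane
import Groth.Agent.Lib.RankTwo11.GMOdd

/-!
# The cases of uniform rank two bundles on the plane
-/

set_option autoImplicit false
set_option linter.style.haveILetI false
set_option linter.unusedSectionVars false
set_option backward.isDefEq.respectTransparency false
set_option backward.isDefEq.respectTransparency.types false
set_option maxHeartbeats 1000000

universe u

open CategoryTheory CategoryTheory.Limits AlgebraicGeometry TopologicalSpace Opposite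

noncomputable section

namespace Groth.Agent.RankTwo11.Plane

open Groth.Agent

variable {k : Type u} [Field k]

section general

variable {n : ℕ}

theorem injective_hmap_of_mono {M N : (CohB1.ProjSpace n k).Modules} (f : M ⟶ N) [Mono f] :
    Function.Injective (CurveCoh17.hmap k f 0) :=
  CurveCoh17.hmap_f_injective k (S := ShortComplex.mk f (cokernel.π f) (cokernel.condition f))
    (ShortComplex.ShortExact.mk' (ShortComplex.exact_cokernel f) inferInstance inferInstance)

theorem finrank_le_of_mono {M N : (CohB1.ProjSpace n k).Modules} (f : M ⟶ N) [Mono f]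
    [Module.Finite k (Coh.HH (CohB1.ProjSpace n k) N 0)] :
    Module.finrank k (Coh.HH (CohB1.ProjSpace n k) M 0) ≤ Module.finrank k (Coh.HH (CohB1.ProjSpace n k) N 0) :=
  LinearMap.finrank_le_finrank_of_injective (injective_hmap_of_mono f)

theorem finrank_le_of_section {E : (CohB1.ProjSpace n k).Modules} (hE : FlatMod.IsFinLocFreeOfRank 2 E) {a : ℤ}
    (s : _root_.Twist.twistProjSpace n k a ⟶ E) (hs : s ≠ 0) (t : ℤ) :
    Module.finrank k (Coh.HH (CohB1.ProjSpace n k) (_root_.Twist.twistProjSpace n k (a + t)) 0) ≤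
      Module.finrank k (Coh.HH (CohB1.ProjSpace n k) ((CMReg18.projData k n).tw E t) 0) := by
  haveI := mono_of_ne_zero hE hs
  haveI := VB17.isEquivalence_tensorR (isInvertible_O (k := k) (n := n) t)
  haveI := finite_twN hE 0 t
  exact finrank_le_of_mono (M := _root_.Twist.twistProjSpace n k (a + t)) (N := (CMReg18.projData k n).tw E t)
    ((addIso (k := k) (n := n) a t).inv ≫ (M2.tensorR (_root_.Twist.twistProjSpace n k t)).map s)

end general

section nets

variable {V W : Type*} [AddCommGroup V] [Module k V] [Module.Finite k V] [AddCommGroup W] [Module k W] [Module.Finite k W]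

/-- A net of surjections with one-dimensional kernels has target zero. -/
theorem net_zero [IsAlgClosed k] (μ : (Fin 3 → k) → V →ₗ[k] W) (hadd : ∀ c c', μ (c + c') = μ c + μ c')
    (hsmul : ∀ (a : k) c, μ (a • c) = a • μ c) (hsur : ∀ c, c ≠ 0 → Function.Surjective (μ c))
    (hdim : Module.finrank k V = Module.finrank k W + 1) : Subsingleton W := by
  classical
  let L : (Fin 3 → k) →ₗ[k] (V →ₗ[k] W) := { toFun := μ, map_add' := hadd, map_smul' := hsmul }
  let eV : V ≃ₗ[k] (Fin (Module.finrank k W + 1) → k) := (Module.finBasisOfFinrankEq k V hdim).equivFun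
  let eW : W ≃ₗ[k] (Fin (Module.finrank k W) → k) := (Module.finBasis k W).equivFun
  let Φ : (V →ₗ[k] W) → ((Fin (Module.finrank k W + 1) → k) →ₗ[k] (Fin (Module.finrank k W) → k)) :=
    fun f => eW.toLinearMap.comp (f.comp eV.symm.toLinearMap)
  let B : Fin 3 → Matrix (Fin (Module.finrank k W)) (Fin (Module.finrank k W + 1)) k :=
    fun i => LinearMap.toMatrix' (Φ (μ (Pi.single i 1)))
  have hsum : ∀ v : Fin 3 → k, ∑ i, v i • μ (Pi.single i 1) = μ v := fun v => by
    show ∑ i, v i • L (Pi.single i 1) = L v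
    simp only [← map_smul, ← map_sum]
    congr 1
    funext j
    simp [Pi.single_apply, Finset.sum_apply]
  have h0 : Module.finrank k W = 0 := by
    refine Nets.eq_zero_of_net B fun v hv w => ?_
    obtain ⟨x, hx⟩ := hsur v hv (eW.symm w)
    refine ⟨eV x, ?_⟩
    rw [Matrix.sum_mulVec]
    calc ∑ i, (v i • B i).mulVec (eV x) = ∑ i, v i • eW (μ (Pi.single i 1) x) :=
          Finset.sum_congr rfl fun i _ => by
            rw [Matrix.smul_mulVec, LinearMap.toMatrix'_mulVec]
            simp [Φ]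
      _ = eW (μ v x) := by rw [← hsum v, LinearMap.sum_apply, map_sum]; simp
      _ = w := by rw [hx, LinearEquiv.apply_symm_apply]
  exact Module.finrank_zero_iff.1 h0

end nets

variable {E : (CohB1.ProjSpace 2 k).Modules} {d : Fin 2 → ℤ} (hE : FlatMod.IsFinLocFreeOfRank 2 E) (hu : Uni E d)
variable [IsAlgClosed k]

include hE hu in
theorem h1_vanish_of_equal (h : d 1 = d 0) (t : ℤ) :
    Subsingleton (Coh.HH (CohB1.ProjSpace 2 k) ((CMReg18.projData k 2).tw E t) 1) :=
  h1_vanish hE hu h.le (fun t ht => by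
    rw [h0_eq_zero hE hu t (by omega) (by omega), h0_eq_zero hE hu (t - 1) (by omega) (by omega), LL]
    omega) t

include hE hu in
theorem h1_vanish_of_section (h : d 1 < d 0) (hs : hd E 0 (-d 0) ≠ 0) (t : ℤ) :
    Subsingleton (Coh.HH (CohB1.ProjSpace 2 k) ((CMReg18.projData k 2).tw E t) 1) := by
  have hns : ¬ Subsingleton (Coh.HH (CohB1.ProjSpace 2 k) ((CMReg18.projData k 2).tw E (-d 0)) 0) := fun hsub =>
    hs (Module.finrank_zero_of_subsingleton)
  obtain ⟨s, hs0⟩ := exists_map_of_not_subsingleton (k := k) (n := 2) (k₀ := -d 0) hns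
  have hlow : ∀ l : ℕ, (l + 2).choose 2 ≤ hd E 0 (-d 0 + l) := fun l => by
    refine le_trans (le_of_eq ?_) (finrank_le_of_section hE s hs0 (-d 0 + l))
    rw [show -(-d 0) + (-d 0 + (l : ℤ)) = (l : ℤ) by ring, CMReg18.finrank_twist_h0, if_pos (Or.inl two_pos),
      show ((l : ℤ) + ((2 : ℕ) : ℤ)).toNat = l + 2 by omega]
  have hup : ∀ t, hd E 0 t ≤ hd E 0 (t - 1) + LL d t := fun t => by
    have := (line_data hE hu (cc 0) (cc_ne_zero 0) t).2.1
    omega
  have hch : ∀ l : ℕ, (l + 1 + 2).choose 2 = (l + 2).choose 2 + (l + 2) := fun l => by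
    rw [show l + 1 + 2 = (l + 2) + 1 by omega, Nat.choose_succ_succ' (l + 2) 1, Nat.choose_one_right, show (1 + 1 : ℕ) = 2 from rfl]
    omega
  have heq : ∀ l : ℕ, -d 0 + (l : ℤ) + d 1 ≤ -1 → hd E 0 (-d 0 + l) = (l + 2).choose 2 := by
    intro l
    induction l with
    | zero =>
      intro _
      have h1 := hup (-d 0)
      have h2 := h0_eq_zero hE hu (-d 0 - 1) (by omega) (by omega)
      have h3 := hlow 0
      have h4 : LL d (-d 0) = 1 := by simp only [LL]; omega
      simp only [Nat.cast_zero, add_zero, Nat.choose_self, zero_add] at h3 ⊢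
      omega
    | succ l ih =>
      intro hl
      have h1 := hup (-d 0 + ((l + 1 : ℕ) : ℤ))
      have h2 := ih (by omega)
      have h3 := hlow (l + 1)
      have h4 : LL d (-d 0 + ((l + 1 : ℕ) : ℤ)) = l + 2 := by simp only [LL]; omega
      rw [show -d 0 + ((l + 1 : ℕ) : ℤ) - 1 = -d 0 + (l : ℤ) by omega, h2, h4] at h1
      rw [hch] at h3 ⊢
      omega
  refine h1_vanish hE hu h.le (fun t ht => ?_) t
  by_cases htA : -d 0 ≤ t
  · obtain ⟨l, rfl⟩ : ∃ l : ℕ, t = -d 0 + (l : ℤ) := ⟨(t + d 0).toNat, by omega⟩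
    rw [heq l (by omega)]
    rcases l with _ | l
    · rw [h0_eq_zero hE hu (-d 0 + ((0 : ℕ) : ℤ) - 1) (by omega) (by omega), LL]
      simp only [Nat.cast_zero, add_zero, Nat.choose_self, zero_add]
      omega
    · rw [show -d 0 + ((l + 1 : ℕ) : ℤ) - 1 = -d 0 + (l : ℤ) by omega, heq l (by omega), hch, LL]
      omega
  · rw [h0_eq_zero hE hu t (by omega) (by omega), h0_eq_zero hE hu (t - 1) (by omega) (by omega), LL]
    omega

include hE hu in
theorem exists_section_of_gap [CharZero k] (h : d 1 + 2 ≤ d 0) : hd E 0 (-d 0) ≠ 0 := by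
  intro h0
  let D := CMReg18.projData k 2
  obtain ⟨σ, hσ⟩ := GM.exists_hom (m := 1) (G := D.tw E (1 - d 0))
    (M2.isFinLocFree_tensor (M2.isFinLocFree_of_ofRank hE) (M2.isFinLocFree_of_ofRank (rank_O (k := k) (n := 2) (1 - d 0))))
    fun z => by
    obtain ⟨ed⟩ := hu (GM.lineMap z) (GM.lineMap_toSpec z)
      ⟨eqToIso (by simp) ≪≫ asIso (GM.theta z ((1 : ℕ) : ℤ)) ≪≫ eqToIso (by simp)⟩
    obtain ⟨u, p, q, w, hup, hid⟩ := GM.split_data z ed (1 - d 0) ((1 : ℕ) : ℤ) (d 1 + (1 - d 0)) (by simp) rfl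
    exact ⟨1, d 1 + (1 - d 0), le_rfl, by omega, u, p, q, w, hup, hid⟩
  haveI := finite_tw hE 0 (-d 0)
  haveI : Subsingleton (Coh.HH (CohB1.ProjSpace 2 k) (D.tw E (-d 0)) 0) := Module.finrank_zero_iff.1 h0
  refine comp_iso_ne_zero (comp_iso_ne_zero (iso_comp_ne_zero (tensor_ne_zero (D := _root_.Twist.twistProjSpace 2 k (-1))
      (negIso' (k := k) (n := 2) 1) hσ) ?_) (D.twTwist E (1 - d 0) (-1))) (D.twIso E (show 1 - d 0 + -1 = -d 0 by ring))
    (eq_zero_of_subsingleton inferInstance _)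
  exact (negIso (k := k) (n := 2) 1).symm ≪≫ M2.tensorIso (eqToIso (by simp)) (Iso.refl _)

include hE hu in
/-- The cohomology in the case of gap one without sections. -/
theorem gap_one_data (h : d 0 = d 1 + 1) (hs : hd E 0 (-d 0) = 0) :
    (∀ t, t ≠ -d 0 - 1 → Subsingleton (Coh.HH (CohB1.ProjSpace 2 k) ((CMReg18.projData k 2).tw E t) 1)) ∧
      hd E 1 (-d 0 - 1) = 1 ∧ hd E 0 (1 - d 0) = 3 := by
  haveI := fun t => finite_tw hE 1 t
  have hz : hd E 0 (-d 0 - 1) = 0 := h0_eq_zero hE hu _ (by omega) (by omega)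
  have hsur : ∀ t, -d 0 ≤ t → ∀ c : Fin 3 → k, c ≠ 0 → Function.Surjective (mult E c 1 t) := fun t ht c hc =>
    ((line_data hE hu c hc t).2.2 (by omega) (by omega)).1
  have hLL : LL d (-d 0) = 1 := by simp only [LL]; omega
  have hker : ∀ c : Fin 3 → k, c ≠ 0 → Module.finrank k (LinearMap.ker (mult E c 1 (-d 0))) = 1 := fun c hc => by
    have := (line_data hE hu c hc (-d 0)).2.1
    rw [hs, hz, hLL] at this
    omega
  have hdim : hd E 1 (-d 0 - 1) = hd E 1 (-d 0) + 1 := by
    have := LinearMap.finrank_range_add_finrank_ker (mult E (cc 0) 1 (-d 0))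
    rw [LinearMap.range_eq_top.2 (hsur _ le_rfl _ (cc_ne_zero 0)), finrank_top, hker _ (cc_ne_zero 0)] at this
    exact this.symm
  have h0 : Subsingleton (Coh.HH (CohB1.ProjSpace 2 k) ((CMReg18.projData k 2).tw E (-d 0)) 1) :=
    net_zero (fun c => mult E c 1 (-d 0)) (fun c c' => mult_add c c' 1 _) (fun a c => mult_smul a c 1 _)
      (hsur _ le_rfl) hdim
  have h1 : hd E 1 (-d 0 - 1) = 1 := by
    rw [hdim, show hd E 1 (-d 0) = 0 from @Module.finrank_zero_of_subsingleton k _ _ _ _ _ h0]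
  have hinj : ∀ t, t ≤ -d 0 - 1 → ∀ c : Fin 3 → k, c ≠ 0 → Function.Injective (mult E c 1 t) := fun t ht c hc =>
    injective_of_eq hE hu t (by
      rw [h0_eq_zero hE hu t (by omega) (by omega), h0_eq_zero hE hu (t - 1) (by omega) (by omega), LL]
      omega) c hc
  have hlow : Subsingleton (Coh.HH (CohB1.ProjSpace 2 k) ((CMReg18.projData k 2).tw E (-d 0 - 1 - 1)) 1) := by
    rcases subsingleton_or_nontrivial (Coh.HH (CohB1.ProjSpace 2 k) ((CMReg18.projData k 2).tw E (-d 0 - 1 - 1)) 1) with hh | hh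
    · exact hh
    refine subsingleton_of_bij hE _ (hinj _ le_rfl) (LinearMap.range_eq_top.1 (Submodule.eq_top_of_finrank_eq ?_))
    rw [LinearMap.finrank_range_of_inj (hinj _ le_rfl _ (cc_ne_zero 1))]
    refine le_antisymm (LinearMap.finrank_le_finrank_of_injective (hinj _ le_rfl _ (cc_ne_zero 1))) ?_
    exact h1.le.trans Module.finrank_pos
  have up : ∀ s : ℕ, Subsingleton (Coh.HH (CohB1.ProjSpace 2 k) ((CMReg18.projData k 2).tw E (-d 0 + s)) 1) := by
    intro s
    induction s with
    | zero => exact CMReg18.van_iso k ((CMReg18.projData k 2).twIso E (by simp)) h0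
    | succ s ih =>
      haveI : Subsingleton (Coh.HH (CohB1.ProjSpace 2 k)
          ((CMReg18.projData k 2).tw E (-d 0 + ((s + 1 : ℕ) : ℤ) - 1)) 1) :=
        CMReg18.van_iso k ((CMReg18.projData k 2).twIso E (by push_cast; ring)) ih
      exact Function.Surjective.subsingleton (hsur _ (by omega) _ (cc_ne_zero 1))
  have down : ∀ s : ℕ, Subsingleton (Coh.HH (CohB1.ProjSpace 2 k) ((CMReg18.projData k 2).tw E (-d 0 - 1 - 1 - s)) 1) := by
    intro s
    induction s with
    | zero => exact CMReg18.van_iso k ((CMReg18.projData k 2).twIso E (by simp)) hlow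
    | succ s ih =>
      haveI := ih
      have h : Subsingleton (Coh.HH (CohB1.ProjSpace 2 k) ((CMReg18.projData k 2).tw E (-d 0 - 1 - 1 - (s : ℤ) - 1)) 1) :=
        Function.Injective.subsingleton (hinj (-d 0 - 1 - 1 - (s : ℤ)) (by omega) _ (cc_ne_zero 1))
      exact CMReg18.van_iso k ((CMReg18.projData k 2).twIso E (by push_cast; ring)) h
  refine ⟨fun t ht => ?_, h1, ?_⟩
  · by_cases ht' : -d 0 ≤ t
    · exact CMReg18.van_iso k ((CMReg18.projData k 2).twIso E (by omega)) (up (t + d 0).toNat)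
    · exact CMReg18.van_iso k ((CMReg18.projData k 2).twIso E (by omega)) (down (-d 0 - 2 - t).toNat)
  · have h2 := (line_data hE hu (cc 0) (cc_ne_zero 0) (1 - d 0)).2.1
    haveI : Subsingleton (Coh.HH (CohB1.ProjSpace 2 k) ((CMReg18.projData k 2).tw E (1 - d 0 - 1)) 1) :=
      CMReg18.van_iso k ((CMReg18.projData k 2).twIso E (by ring)) h0
    have h3 : LL d (1 - d 0) = 3 := by simp only [LL]; omega
    rw [Module.finrank_zero_of_subsingleton, h3, show 1 - d 0 - 1 = -d 0 by ring, hs] at h2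
    omega

end Groth.Agent.RankTwo11.Plane
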