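import Groth.Agent.Lib.RankTwo11.UniformPlaneGap
import Groth.Agent.Lib.SmImm2.Main

/-!
# Identification of the non-split uniform bundles on the plane
-/

set_option autoImplicit false
set_option linter.style.haveILetI false
set_option linter.unusedSectionVars false
set_option backward.isDefEq.respectTransparency false
set_option backward.isDefEq.respectTransparency.types false
set_option maxHeartbeats 1000000

universe u

open CategoryTheory CategoryTheory.Limits AlgebraicGeometry TopologicalSpace Opposite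

noncomputable section

namespace Groth.Agent.RankTwo11.Plane

open Groth.Agent

variable {k : Type u} [Field k]

section general

variable {n : ℕ}

theorem iso_biprod_zero {A Z : (CohB1.ProjSpace n k).Modules} (hZ : IsZero Z) : Nonempty (A ⊞ Z ≅ A) :=
  ⟨{ hom := biprod.fst
     inv := biprod.inl
     hom_inv_id := biprod.hom_ext _ _ (by simp) (hZ.eq_of_tgt _ _)
     inv_hom_id := biprod.inl_fst }⟩

theorem isZero_freeMod_zero : IsZero (FlatMod.freeMod (CohB1.ProjSpace n k) 0) := by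
  rw [IsZero.iff_id_eq_zero]
  exact Sigma.hom_ext _ _ fun i => i.elim0

/-- An epimorphism from a free module of rank `n + 1` onto `O(1)` has kernel `Ω(1)`. -/
theorem nonempty_iso_Om1 {S : ShortComplex (CohB1.ProjSpace n k).Modules} (hS : S.ShortExact)
    (a : S.X₂ ≅ FlatMod.freeMod (CohB1.ProjSpace n k) (n + 1)) (b : S.X₃ ≅ _root_.Twist.twistProjSpace n k 1) :
    Nonempty (S.X₁ ≅ NullCorr.Om1 k n) := by
  obtain ⟨ι₀, e₀, w₀, hE₀⟩ := NullCorr.exists_euler k n
  haveI : Epi e₀ := hE₀.epi_g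
  haveI : Mono ι₀ := hE₀.mono_f
  haveI := hS.epi_g
  haveI := hS.mono_f
  let e' : Linear.Frq k n (n + 1) ⟶ _root_.Twist.twistProjSpace n k 1 := a.inv ≫ S.g ≫ b.hom
  haveI : Epi e' := inferInstance
  obtain ⟨-, ⟨K⟩⟩ := Linear.nonempty_kernel_iso e' e₀
  let j1 : S.X₁ ≅ kernel S.g := hS.fIsKernel.conePointUniqueUpToIso (limit.isLimit _)
  let j2 : kernel S.g ≅ kernel e' := kernel.mapIso _ _ a b (by simp [e'])
  let j3 : NullCorr.Om1 k n ≅ kernel e₀ := hE₀.fIsKernel.conePointUniqueUpToIso (limit.isLimit _)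
  obtain ⟨j4⟩ := iso_biprod_zero (A := kernel e₀) (Z := Linear.Frq k n (n + 1 - (n + 1)))
    (by rw [Nat.sub_self]; exact isZero_freeMod_zero)
  exact ⟨j1 ≪≫ j2 ≪≫ K ≪≫ j4 ≪≫ j3.symm⟩

/-- Isomorphic duals give isomorphic bundles. -/
theorem nonempty_iso_of_dual {F F' : (CohB1.ProjSpace n k).Modules} (hF : FlatMod.IsFinLocFree F)
    (hF' : FlatMod.IsFinLocFree F') (e : CohMop.dual F ≅ CohMop.dual F') : Nonempty (F ≅ F') := by
  haveI : ModSite.HasSheafHom (O := (CohB1.ProjSpace n k).sheaf) F := CohMop.isLeftAdjoint_tenR _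
  haveI : ModSite.HasSheafHom (O := (CohB1.ProjSpace n k).sheaf) F' := CohMop.isLeftAdjoint_tenR _
  haveI := CohMop.isIso_bidual hF
  haveI := CohMop.isIso_bidual hF'
  exact ⟨asIso (CohMop.bidual F) ≪≫ (CohMop.ihomIso e).app _ ≪≫ (asIso (CohMop.bidual F')).symm⟩

theorem dual_structure : Nonempty (CohMop.dual (Coh.structureModule (CohB1.ProjSpace n k)) ≅
    Coh.structureModule (CohB1.ProjSpace n k)) :=
  ES11.nonempty_dual_iso_of_inverse (M2.isInvertible_of_iso zeroIso (isInvertible_O (k := k) (n := n) 0))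
    (M2.tensorLUnit _)

end general

variable {E : (CohB1.ProjSpace 2 k).Modules} {d : Fin 2 → ℤ} (hE : FlatMod.IsFinLocFreeOfRank 2 E) (hu : Uni E d)
variable [IsAlgClosed k]

include hE hu in
theorem h2_vanish (h : d 0 = d 1 + 1) (s : ℕ) :
    Subsingleton (Coh.HH (CohB1.ProjSpace 2 k) ((CMReg18.projData k 2).tw E (-d 0 - 1 + s)) 2) := by
  haveI := CMReg18.isProper_projSpace k (n := 2)
  obtain ⟨a₀, ha₀⟩ := (CMReg18.projData k 2).exists_van_large k (CMReg18.isAmple_twistOne k)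
    (CurveCoh17.isCoh_of_ofRank hE)
  suffices main : ∀ l s : ℕ, a₀ ≤ -d 0 - 1 + ((s + l : ℕ) : ℤ) →
      Subsingleton (Coh.HH (CohB1.ProjSpace 2 k) ((CMReg18.projData k 2).tw E (-d 0 - 1 + (s : ℤ))) 2) from
    main (a₀ + d 0 + 1).toNat s (by omega)
  intro l
  induction l with
  | zero => exact fun s hs => ha₀ 2 _ (by omega) (by omega)
  | succ l ih =>
    intro s hs
    have hinj := ((line_data hE hu (cc 0) (cc_ne_zero 0) (-d 0 - 1 + ((s + 1 : ℕ) : ℤ))).2.2 (by omega) (by omega)).2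
    haveI := ih (s + 1) (by omega)
    exact CMReg18.van_iso k ((CMReg18.projData k 2).twIso E (by push_cast; ring)) hinj.subsingleton

include hE hu in
/-- The dual of a non-split uniform bundle is `Ω(1)`. -/
theorem dual_iso_Om1 (h : d 0 = d 1 + 1) (hs : hd E 0 (-d 0) = 0) :
    Nonempty (CohMop.dual ((CMReg18.projData k 2).tw E (1 - d 0)) ≅ NullCorr.Om1 k 2) := by
  haveI := CMReg18.isProper_projSpace k (n := 2)
  obtain ⟨hv1, hone, hthree⟩ := gap_one_data hE hu h hs
  let D := CMReg18.projData k 2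
  let G := D.tw E (1 - d 0)
  have hG : FlatMod.IsFinLocFree G := M2.isFinLocFree_tensor (M2.isFinLocFree_of_ofRank hE)
    (M2.isFinLocFree_of_ofRank (rank_O (k := k) (n := 2) (1 - d 0)))
  have hGc : Coh.IsCoh G := CohFound.isCoh_of_isFinLocFree hG
  have hGr : FlatMod.IsFinLocFreeOfRank 2 G :=
    M2.isFinLocFreeOfRank_tensor hE (rank_O (k := k) (n := 2) (1 - d 0))
  have hreg : D.IsReg G 0 := fun i hi => by
    refine CMReg18.van_iso k (D.twTwist E (1 - d 0) (0 - (i : ℤ))).symm ?_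
    rcases (show i = 1 ∨ i = 2 ∨ 2 < i by omega) with rfl | rfl | hi2
    · exact hv1 _ (by omega)
    · exact CMReg18.van_iso k (D.twIso E (by push_cast; ring)) (h2_vanish hE hu h 0)
    · exact CMReg18.subsingleton_HH_of_lt k (M2.isQCoh_of_isFinLocFree (M2.isFinLocFree_tensor
        (M2.isFinLocFree_of_ofRank hE) (M2.isFinLocFree_of_ofRank (rank_O (k := k) (n := 2) _)))) hi2
  let G₀ := CohB1.tensorMod G (_root_.Twist.twistProjSpace 2 k 0)
  have hG₀c : Coh.IsCoh G₀ := CurveCoh17.isCoh_tensor hGc (Snapper.isCoh_of_isInvertible (isInvertible_O 0))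
  obtain ⟨p₀, hp₀⟩ := CMReg18.exists_epi_basis (k := k) hG₀c (CMReg18.isGloballyGenerated_of_isReg hGc hreg) (R := 3)
    ((CurveCoh17.hequiv k (D.twZero G) 0).finrank_eq.trans hthree).le
  haveI := hp₀
  let p : FlatMod.freeMod (CohB1.ProjSpace 2 k) 3 ⟶ G := p₀ ≫ (D.twZero G).hom
  haveI : Epi p := epi_comp _ _
  let S := ShortComplex.mk (kernel.ι p) p (kernel.condition p)
  have hS : S.ShortExact := ShortComplex.ShortExact.mk' (ShortComplex.exact_kernel p) inferInstance inferInstance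
  have hK : FlatMod.IsFinLocFree (kernel p) :=
    DPerf.isFinLocFree_kernel (kernel.ι p) p (kernel.condition p) hS (KFlat.Sch.isFinLocFree_freeMod _ 3) hG
  have hK1 : FlatMod.IsFinLocFreeOfRank 1 (kernel p) :=
    SmImm2.isFinLocFreeOfRank_left S hS hK (M2.isFinLocFreeOfRank_freeMod _ 3) hGr
  obtain ⟨e, ⟨eK⟩⟩ := PicPn.exists_iso_twist (R := k) ((M2.isInvertible_iff_isFinLocFreeOfRank_one _).2 hK1)
  -- the degree of the kernel
  have hT := D.shortExact_tw hS (-2)
  have hfree : ∀ q, q = 1 ∨ q = 2 → Subsingleton (Coh.HH (CohB1.ProjSpace 2 k) (D.tw S.X₂ (-2)) q) := fun q hq =>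
    CMReg18.van_iso k (M := ∐ fun _ : Fin 3 => CohB1.tensorMod (Coh.structureModule (CohB1.ProjSpace 2 k))
        (_root_.Twist.twistProjSpace 2 k (-2)))
      (PreservesCoproduct.iso (M2.tensorR (_root_.Twist.twistProjSpace 2 k (-2))) _).symm
      (CMReg18.van_sigma k _ fun _ => CMReg18.van_iso k (M2.tensorLUnit _).symm
        (S0844.result k 2 _ q (by omega) (by omega)))
  haveI := hfree 1 (Or.inl rfl)
  haveI := hfree 2 (Or.inr rfl)
  have hbij : Function.Bijective (CurveCoh17.hdelta k hT 1) := by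
    refine ⟨(injective_iff_map_eq_zero _).2 fun x hx => ?_, fun y => ?_⟩
    · obtain ⟨z, hz⟩ := (CurveCoh17.exact_hmap_hdelta k hT 1 x).1 hx
      rw [← hz, show z = 0 from (hfree 1 (Or.inl rfl)).elim _ _, map_zero]
    · exact (CurveCoh17.exact_hdelta_hmap k hT 1 y).1 ((hfree 2 (Or.inr rfl)).elim _ _)
  have he : e = -1 := by
    have h1 : Module.finrank k (Coh.HH (CohB1.ProjSpace 2 k) (_root_.Twist.twistProjSpace 2 k (e + -2)) 2) = 1 := by
      refine (CurveCoh17.hequiv k ((M2.tensorR _).mapIso eK ≪≫ addIso e (-2)) 2).finrank_eq.symm.trans ?_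
      refine (LinearEquiv.ofBijective _ hbij).finrank_eq.symm.trans ?_
      exact (CurveCoh17.hequiv k (D.twTwist E (1 - d 0) (-2) ≪≫ D.twIso E (show 1 - d 0 + -2 = -d 0 - 1 by ring)) 1).finrank_eq.trans hone
    rw [CMReg18.finrank_twist_top k 2 two_pos] at h1
    rcases (show (-(e + -2) - 1).toNat ≤ 1 ∨ (-(e + -2) - 1).toNat = 2 ∨ 3 ≤ (-(e + -2) - 1).toNat by omega) with h2 | h2 | h2
    · rw [Nat.choose_eq_zero_of_lt (by omega)] at h1
      omega
    · omega
    · have := Nat.choose_le_choose 2 h2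
      rw [h1, show Nat.choose 3 2 = 3 from rfl] at this
      omega
  subst he
  obtain ⟨d1⟩ := GM.nonempty_dual_sigma (l := 3) (Coh.structureModule (CohB1.ProjSpace 2 k))
  obtain ⟨d2⟩ := dual_structure (k := k) (n := 2)
  obtain ⟨d3⟩ := ES11.nonempty_dual_iso_of_inverse (L := _root_.Twist.twistProjSpace 2 k (-1))
    (D := _root_.Twist.twistProjSpace 2 k 1) (isInvertible_O _) (negIso' (k := k) (n := 2) 1)
  obtain ⟨j⟩ := nonempty_iso_Om1 (n := 2) (ES11.shortExact_dual hS hG) (d1 ≪≫ Sigma.mapIso fun _ => d2)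
    ((CohMop.ihomIso eK).app _ ≪≫ d3)
  exact ⟨j⟩

end Groth.Agent.RankTwo11.Plane
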